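import Cfsg.Agent.Lib.ONRecog.Checker

/-!
Finite checks on the tables of the possible extensions of 4.L₃(4) by one outer element.
-/

set_option autoImplicit false
set_option maxHeartbeats 400000

namespace CfsgLib.StdON

open CfsgON

/-- The word of the chosen generator of the centre. -/
def zW : List ℕ := zWords.getD 4 []

/-- The word of its square. -/
def tW : List ℕ := zWords.getD 8 []

/-- The inner elements of the centraliser of the representative. -/
def inR (D : FData) : List (List ℕ) := D.rList.filter parW

/-- The outer elements of the centraliser of the representative. -/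
def outR (D : FData) : List (List ℕ) := D.rList.filter fun r => !parW r

/-- Commuting by keys. -/
def commK (k : List ℕ → ℕ) (a b : List ℕ) : Bool := Nat.beq (k (a ++ b)) (k (b ++ a))

/-- The inner elements fix the word or multiply it by the representative. -/
def normRoot (D : FData) (k : List ℕ → ℕ) (r : List ℕ) : Bool :=
  (inR D).all fun s => Nat.beq (k (s ++ r)) (k (r ++ s)) || Nat.beq (k (s ++ r)) (k (r ++ D.u ++ s))

/-- An inner root of the representative whose powers are normalised. -/
def isCand (D : FData) (k : List ℕ → ℕ) (r : List ℕ) : Bool :=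
  parW r && Nat.beq (k (r ++ r)) (k D.u) && normRoot D k r

/-- Checks on the inner part. -/
def innerChk (D : FData) (k : List ℕ → ℕ) : Bool :=
  ((List.range 512).all fun i => !parW (D.s i) ||
    (!Nat.beq (k (D.s i ++ D.s i)) (k zW) && !Nat.beq (k (D.s i ++ D.s i)) (k (zW ++ zW ++ zW)))) &&
  ((inR D).any fun p => (inR D).any fun q => Nat.beq (k (p ++ q ++ invW p ++ invW q)) (k tW)) &&
  ((inR D).all fun r => !Nat.beq (k (r ++ r)) (k []) || Nat.beq (k r) (k []) || Nat.beq (k r) (k tW) ||
    Nat.beq (k r) (k D.u) || Nat.beq (k r) (k (D.u ++ tW)) || (inR D).any fun s => !commK k r s) &&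
  ((inR D).all fun r => !Nat.beq (k (r ++ r ++ r ++ r)) (k D.u) && !Nat.beq (k (r ++ r ++ r ++ r)) (k (D.u ++ tW))) &&
  ((inR D).all fun r => Nat.beq (k (r ++ r ++ r ++ r ++ (r ++ r ++ r ++ r))) (k [])) &&
  ((inR D).all fun r => !((Nat.beq (k (r ++ r)) (k (D.u ++ zW)) || Nat.beq (k (r ++ r)) (k (D.u ++ zW ++ zW ++ zW))) &&
    normRoot D k r))

/-- The number of inner roots of a word. -/
def inRoots (D : FData) (k : List ℕ → ℕ) (x : List ℕ) : ℕ :=
  ((inR D).filter fun r => Nat.beq (k (r ++ r)) (k x)).length

/-- The number of outer roots of a word. -/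
def outRoots (D : FData) (k : List ℕ → ℕ) (x : List ℕ) : ℕ :=
  ((outR D).filter fun r => Nat.beq (k (r ++ r)) (k x)).length

/-- The counts of inner roots. -/
def inCountChk (D : FData) (k : List ℕ → ℕ) : Bool :=
  Nat.beq (inRoots D k tW) 24 && Nat.beq (inRoots D k D.u) 8

/-- No inner element is a normalised root. -/
def noCandChk (D : FData) (k : List ℕ → ℕ) : Bool :=
  (inR D).all fun r => !isCand D k r

/-- Checks on the outer part. -/
def outerChk (D : FData) (k : List ℕ → ℕ) : Bool :=
  ((outR D).all fun r => !(Nat.beq (k (r ++ r)) (k D.u) && commK k r zW && normRoot D k r)) &&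
  ((outR D).all fun r => !(Nat.beq (k (r ++ r ++ r ++ r)) (k D.u) && commK k r zW &&
    (inR D).all fun s => [r, r ++ r ++ r, r ++ r ++ r ++ r ++ r, r ++ r ++ r ++ r ++ r ++ r ++ r].any fun q =>
      Nat.beq (k (s ++ r)) (k (q ++ s))))

/-- The outer letter centralises the generator of the centre. -/
def zCenChk (k : List ℕ → ℕ) : Bool := commK k [2] zW

/-- The outer letter inverts the generator of the centre. -/
def zInvChk (k : List ℕ → ℕ) : Bool :=
  Nat.beq (k ([2] ++ zW)) (k (zW ++ zW ++ zW ++ [2])) && !commK k [2] zW

/-- Roots commuting with each normalised root. -/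
def candRootsChk (D : FData) (k : List ℕ → ℕ) (n : ℕ) : Bool :=
  (inR D).all fun c => !isCand D k c ||
    Nat.ble ((outR D).filter fun r => Nat.beq (k (r ++ r)) (k D.u) && commK k r c).length n

/-- No outer involution of the centraliser commutes with a normalised root. -/
def graphChk (D : FData) (k : List ℕ → ℕ) : Bool :=
  (outR D).all fun r => !Nat.beq (k (r ++ r)) (k []) || (inR D).all fun c => !isCand D k c || !commK k r c

/-- Two inner words commuting with a representative, with a commutator of order two. -/
def certP : List ℕ := [0, 4, 0, 4, 3, 4, 0, 1, 3, 4, 3, 4]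

/-- The second word. -/
def certQ : List ℕ := [1, 3, 1, 0, 1, 3, 4, 0, 4]

/-- The representatives centralise a commutator of order two. -/
def certChk (D : FData) (k : List ℕ → ℕ) : Bool :=
  let e := certP ++ certQ ++ invW certP ++ invW certQ
  Nat.beq (k (e ++ e)) (k []) && !Nat.beq (k e) (k []) && !Nat.beq (k e) (k tW) &&
    D.outs.all fun o => commK k certP o.rep && commK k certQ o.rep

/-- The outer letter acts as the first permutation: it centralises the generator of the centre. -/
def TypeP (D : FData) (k : List ℕ → ℕ) : Prop :=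
  D.c.2.1 = 0 ∧ zCenChk k = true ∧
    ((Nat.beq (outRoots D k tW) 16 = true ∧ Nat.ble (outRoots D k D.u) 16 = true ∧ candRootsChk D k 8 = true) ∨
      (Nat.beq (outRoots D k D.u) 0 = true ∧ D.outs.isEmpty = true))

/-- The outer letter acts as the second permutation. -/
def TypeU (D : FData) (k : List ℕ → ℕ) : Prop :=
  D.c.2.1 = 1 ∧ zInvChk k = true ∧ Nat.ble (outRoots D k D.u) 16 = true

/-- The outer letter acts as the third permutation. -/
def TypeG (D : FData) (k : List ℕ → ℕ) : Prop :=
  D.c.2.1 = 2 ∧ zInvChk k = true ∧ Nat.beq (outRoots D k D.u) 0 = true ∧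
    ((D.outs.isEmpty = true ∧ Nat.beq (outRoots D k tW) 64 = true) ∨
      ((!D.outs.isEmpty) = true ∧ graphChk D k = true ∧ certChk D k = true))

end CfsgLib.StdON
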