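import Cfsg.Agent.Lib.StdON.Swap

/-!
The cosets of the inner elements in the centraliser of the central involution, modulo the odd part.
-/

set_option autoImplicit false
set_option maxHeartbeats 800000
set_option linter.unusedSectionVars false

namespace CfsgLib.StdON

open Subgroup CfsgON CfsgPC
open CfsgLib.StemSylow.PlaneFour

universe u

attribute [local irreducible] pGens xGens zWords gsX

variable {G : Type u} [Group G] [Finite G] {L : Subgroup G} {z : G} {o : ℕ}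

/-- The inner elements. -/
def innerSub (L : Subgroup G) : Subgroup G where
  carrier := {x | Inner L x}
  one_mem' := inner_of_mem (one_mem L)
  mul_mem' := Inner.mul
  inv_mem' := Inner.inv

theorem mem_innerSub {x : G} : x ∈ innerSub L ↔ Inner L x := Iff.rfl

namespace IsSwap

variable {S : Base L z o} {a h : G} (W : IsSwap S a h)
include W

theorem dCore_le {d : G} (hd : d ∈ dCore L h) : d ∈ centralizer (L : Set G) := (mem_dCore.mp hd).1

theorem dCore_inner {d : G} (hd : d ∈ dCore L h) : Inner L d := inner_of_cent (W.dCore_le hd)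

theorem commute_dCore {l d : G} (hl : l ∈ L) (hd : d ∈ dCore L h) : Commute l d := commute_cent hl (W.dCore_le hd)

theorem z_commute_dCore {d : G} (hd : d ∈ dCore L h) : Commute d z := (S.z_commute_cent (W.dCore_le hd)).symm

theorem inter_dCore {x : G} (hx : x ∈ L) (hd : x ∈ dCore L h) : x = 1 := by
  obtain ⟨hk, hodd⟩ := W.mem_dCore_iff.mp hd
  have h4 : x ^ 4 = 1 := by
    obtain ⟨p, hp, e⟩ := exists_pow_lt S.z_ord (S.cen_sub x hx hk)
    rw [← e, ← pow_mul, mul_comm, pow_mul, ← S.z_ord, pow_orderOf_eq_one, one_pow]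
  refine orderOf_eq_one_iff.mp (Nat.Coprime.eq_one_of_dvd ?_ (orderOf_dvd_of_pow_eq_one h4))
  rw [show 4 = 2 ^ 2 from rfl]
  exact Nat.Coprime.pow_right 2 (Nat.coprime_two_right.mpr hodd)

theorem decomp_unique {l l' d d' : G} (hl : l ∈ L) (hl' : l' ∈ L) (hd : d ∈ dCore L h) (hd' : d' ∈ dCore L h)
    (e : l * d = l' * d') : l = l' ∧ d = d' := by
  have e' : l'⁻¹ * l = d' * d⁻¹ := by
    calc l'⁻¹ * l = l'⁻¹ * (l * d) * d⁻¹ := by group
      _ = d' * d⁻¹ := by rw [e]; group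
  have h1 := W.inter_dCore (mul_mem (inv_mem hl') hl) (by rw [e']; exact mul_mem hd' (inv_mem hd))
  have hll : l = l' := (inv_mul_eq_one.mp h1).symm
  exact ⟨hll, mul_left_cancel (hll ▸ e)⟩

/-- An inner element is the product of one of the subgroup and one of the odd part. -/
theorem inner_decomp {x : G} (hx : Inner L x) : ∃ l ∈ L, ∃ d ∈ dCore L h, l * d = x := by
  obtain ⟨l, hl, k, hk, rfl⟩ := hx
  obtain ⟨p, d, hd, rfl⟩ := W.cent_decomp hk
  exact ⟨l * z ^ p, mul_mem hl (pow_mem S.z_mem p), d, hd, mul_assoc _ _ _⟩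

/-- An inner element of two-power order lies in the subgroup. -/
theorem inner_two_mem {x : G} (hx : Inner L x) {n : ℕ} (h2 : x ^ 2 ^ n = 1) : x ∈ L := by
  obtain ⟨l, hl, d, hd, rfl⟩ := W.inner_decomp hx
  rw [(W.commute_dCore hl hd).mul_pow] at h2
  have h1 : d ^ 2 ^ n = 1 :=
    ((W.decomp_unique (pow_mem hl _) (one_mem L) (pow_mem hd _) (one_mem _) (by rw [h2, one_mul])).2)
  have hd1 : d = 1 := orderOf_eq_one_iff.mp (Nat.Coprime.eq_one_of_dvd
    (Nat.Coprime.pow_right n (Nat.coprime_two_right.mpr (W.mem_dCore_iff.mp hd).2)) (orderOf_dvd_of_pow_eq_one h1))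
  rwa [hd1, mul_one]

theorem inner_invol_mem {x : G} (hx : Inner L x) (h2 : x * x = 1) : x ∈ L :=
  W.inner_two_mem hx (n := 1) (by rw [pow_one, pow_two, h2])

/-- An outer element is changed by the odd part into one with square in the subgroup. -/
theorem exists_rep {e : G} (he : Commute e (z * z)) :
    ∃ d ∈ dCore L h, Commute (e * d) (z * z) ∧ e * d * (e * d) ∈ L := by
  obtain ⟨l, hl, d₀, hd₀, e2⟩ := W.inner_decomp (S.sq_inner he)
  have hed : e * d₀ * e⁻¹ = d₀ := by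
    refine (W.decomp_unique (S.conj_mem he hl) hl (W.dCore_conj he hd₀) hd₀ ?_).2
    calc e * l * e⁻¹ * (e * d₀ * e⁻¹) = e * (l * d₀) * e⁻¹ := by group
      _ = l * d₀ := by rw [e2]; group
  have hc : Commute e d₀ := mul_inv_eq_iff_eq_mul.mp hed
  obtain ⟨m, hm⟩ := (W.mem_dCore_iff.mp hd₀).2
  refine ⟨d₀ ^ m, pow_mem hd₀ m, he.mul_left (S.comm_cent (W.dCore_le (pow_mem hd₀ m))), ?_⟩
  rw [(hc.pow_right m).symm.mul_mul_mul_comm, ← e2, mul_assoc, ← pow_add, ← pow_succ',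
    show m + m + 1 = orderOf d₀ by omega, pow_orderOf_eq_one, mul_one]
  exact hl

end IsSwap

namespace Loc

variable {S : Base L z o} {D : FData} {C : Subgroup G} (P : Loc S D C)
include P

/-- The outer generator. -/
def y : G := ((P.E.cd.v [2] : C) : G)

theorem y_mem : P.y ∈ C := (P.E.cd.v [2]).2

theorem y_out : ¬ Inner L P.y := fun h => by
  have h2 := (P.E.cd.inner_iff (okW_single (a := 2) (by norm_num))).mp ((P.M_iff _).mpr ((P.inner_iff _ P.y_mem).mp h))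
  exact Bool.noConfusion h2

theorem exists_y {x : G} (hx : x ∈ C) (hout : ¬ Inner L x) : ∃ l ∈ L, l * P.y = x :=
  (P.split x hx).resolve_left fun h => hout (inner_of_mem h)

theorem out_iff {l : G} (hl : l ∈ L) : ¬ Inner L (l * P.y) := fun h =>
  P.y_out ((Inner.mul_iff_right (inner_of_mem hl)).mp h)

/-- Two elements outside lie in one coset. -/
theorem same_coset {x x' : G} (hx : x ∈ C) (hx' : x' ∈ C) (h1 : ¬ Inner L x) (h2 : ¬ Inner L x') :
    Inner L (x'⁻¹ * x) := by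
  obtain ⟨l, hl, rfl⟩ := P.exists_y hx h1
  obtain ⟨l', hl', rfl⟩ := P.exists_y hx' h2
  rw [show (l' * P.y)⁻¹ * (l * P.y) = P.y⁻¹ * (l'⁻¹ * l) * P.y⁻¹⁻¹ by group]
  exact S.conj_inner (P.comm _ P.y_mem).inv_left (inner_of_mem (mul_mem (inv_mem hl') hl))

theorem sq_mem {x : G} (hx : x ∈ C) : x * x ∈ L :=
  (P.inner_iff _ (mul_mem hx hx)).mp (S.sq_inner (P.comm x hx))

/-- Extensions of the same type give the same coset. -/
theorem same_type {D' : FData} {C' : Subgroup G} (P' : Loc S D' C') (hc : D.c.2.1 = D'.c.2.1) :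
    Inner L (P'.y⁻¹ * P.y) := by
  refine inner_of_cent (mem_centralizer_iff.mpr fun l hl => ?_)
  obtain ⟨p, hp⟩ := S.φ_surj ⟨l, hl⟩
  have e : l = (S.φ p : G) := (congrArg Subtype.val hp).symm
  have key : ∀ {i j : ℕ} (hi : i < 3) (hj : j < 3), i = j → outerTheta hi p = outerTheta hj p := by
    intro i j hi hj hij
    subst hij
    rfl
  have h1 : P.y * l * P.y⁻¹ = P'.y * l * P'.y⁻¹ := by
    rw [e, y, y, P.y_conj p, P'.y_conj p, key P.hi P'.hi hc]
  calc l * (P'.y⁻¹ * P.y) = P'.y⁻¹ * (P'.y * l * P'.y⁻¹) * P.y := by group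
    _ = P'.y⁻¹ * P.y * l := by rw [← h1]; group

theorem y_z_iff : (zCenChk D.K = true → Commute P.y z) ∧ (zInvChk D.K = true → ¬ Commute P.y z) := by
  have key : commK D.K [2] zW = true ↔ Commute P.y z := by
    rw [P.E.commK_iff P.good (okW_single (by norm_num)) okW_zW, y]
    exact ⟨fun h => by have := P.commute_coe h; rwa [P.v_z] at this, fun h => P.commute_of (by rw [P.v_z]; exact h)⟩
  refine ⟨key.mp, fun h hc => ?_⟩
  simp only [zInvChk, Bool.and_eq_true, Bool.not_eq_true'] at h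
  rw [key.mpr hc] at h
  exact Bool.noConfusion h.2

theorem z_iff {x : G} (hx : x ∈ C) (hout : ¬ Inner L x) : Commute x z ↔ Commute P.y z := by
  obtain ⟨l, hl, rfl⟩ := P.exists_y hx hout
  have hlz : Commute l z := (S.z_cen l hl).symm
  exact ⟨fun h => by simpa using hlz.inv_left.mul_left h, fun h => hlz.mul_left h⟩

end Loc

namespace IsSwap

variable {S : Base L z o} {a h : G} (W : IsSwap S a h)
include W

theorem exists_ext {x : G} (hx : Commute x (z * z)) (hout : ¬ Inner L x) :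
    ∃ (D : FData) (C : Subgroup G) (_ : Loc S D C), ∃ w ∈ C, ¬ Inner L w ∧ ∃ d ∈ dCore L h, w * d = x := by
  obtain ⟨d, hd, hc, hsq⟩ := W.exists_rep hx
  have hout' : ¬ Inner L (x * d) := fun h' => hout ((Inner.mul_iff_left (W.dCore_inner hd)).mp h')
  obtain ⟨D, ⟨P⟩⟩ := S.exists_loc hc hsq hout'
  exact ⟨D, _, P, x * d, mem_ext_self _, hout', d⁻¹, inv_mem hd, mul_inv_cancel_right _ _⟩

/-- An element in the coset of an extension. -/
theorem coset_form {D : FData} {C : Subgroup G} (P : Loc S D C) {x : G} (hx : Inner L (P.y⁻¹ * x)) :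
    ∃ w ∈ C, ¬ Inner L w ∧ ∃ d ∈ dCore L h, w * d = x := by
  obtain ⟨l, hl, d, hd, e⟩ := W.inner_decomp hx
  refine ⟨P.y * l, mul_mem P.y_mem (P.le hl), fun h' => P.y_out ((Inner.mul_iff_left (inner_of_mem hl)).mp h'), d, hd, ?_⟩
  rw [mul_assoc, e, mul_inv_cancel_left]

/-- In an extension the part in the odd part is trivial. -/
theorem ext_unique {D : FData} {C : Subgroup G} (P : Loc S D C) {w w' : G} (hw : w ∈ C) (hw' : w' ∈ C)
    (hd : w'⁻¹ * w ∈ dCore L h) : w = w' :=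
  (inv_mul_eq_one.mp (W.inter_dCore ((P.inner_iff _ (mul_mem (inv_mem hw') hw)).mp (W.dCore_inner hd)) hd)).symm

/-- The three types occur in different cosets, once two outer elements with outer product exist. -/
theorem exists_types {x x' : G} (hx : Commute x (z * z)) (hx' : Commute x' (z * z)) (h1 : ¬ Inner L x)
    (h2 : ¬ Inner L x') (h3 : ¬ Inner L (x'⁻¹ * x)) :
    (∀ i < 3, ∃ (D : FData) (C : Subgroup G) (_ : Loc S D C), D.c.2.1 = i) ∧
      ∀ {D : FData} {C : Subgroup G} (P : Loc S D C) {D' : FData} {C' : Subgroup G} (P' : Loc S D' C'),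
        D.c.2.1 ≠ D'.c.2.1 → ¬ Inner L (P'.y⁻¹ * P.y) := by
  obtain ⟨D₁, C₁, P₁, w₁, hw₁, o₁, d₁, hd₁, e₁⟩ := W.exists_ext hx h1
  obtain ⟨D₂, C₂, P₂, w₂, hw₂, o₂, d₂, hd₂, e₂⟩ := W.exists_ext hx' h2
  obtain ⟨D₃, C₃, P₃, w₃, hw₃, o₃, d₃, hd₃, e₃⟩ := W.exists_ext (hx'.inv_left.mul_left hx) h3
  -- each outer element is its generator up to an inner one
  have key : ∀ {D : FData} {C : Subgroup G} (P : Loc S D C) {w d y : G}, w ∈ C → ¬ Inner L w → d ∈ dCore L h →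
      w * d = y → Inner L (P.y⁻¹ * y) := by
    intro D C P w d y hw ho hd e
    rw [← e, ← mul_assoc]
    exact (P.same_coset hw P.y_mem ho P.y_out).mul (W.dCore_inner hd)
  have k₁ := key P₁ hw₁ o₁ hd₁ e₁
  have k₂ := key P₂ hw₂ o₂ hd₂ e₂
  have k₃ := key P₃ hw₃ o₃ hd₃ e₃
  have n12 : D₁.c.2.1 ≠ D₂.c.2.1 := fun e => h3 (by
    have := (k₂.inv.mul (P₁.same_type P₂ e)).mul k₁
    rwa [show (P₂.y⁻¹ * x')⁻¹ * (P₂.y⁻¹ * P₁.y) * (P₁.y⁻¹ * x) = x'⁻¹ * x by group] at this)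
  have n13 : D₁.c.2.1 ≠ D₃.c.2.1 := fun e => h2 (by
    have h' := (k₃.inv.mul (P₁.same_type P₃ e)).mul k₁
    rw [show (P₃.y⁻¹ * (x'⁻¹ * x))⁻¹ * (P₃.y⁻¹ * P₁.y) * (P₁.y⁻¹ * x) = x⁻¹ * x' * x⁻¹⁻¹ by group] at h'
    exact (S.conj_inner_iff hx.inv_left).mp h')
  have n23 : D₂.c.2.1 ≠ D₃.c.2.1 := fun e => h1 (by
    have h' := (k₃.inv.mul (P₂.same_type P₃ e)).mul k₂
    rw [show (P₃.y⁻¹ * (x'⁻¹ * x))⁻¹ * (P₃.y⁻¹ * P₂.y) * (P₂.y⁻¹ * x') = x⁻¹ * (x' * x') by group] at h'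
    exact (inv_inv x) ▸ ((Inner.mul_iff_left (S.sq_inner hx')).mp h').inv)
  refine ⟨fun i hi => ?_, fun {D C} P {D' C'} P' hne hin => ?_⟩
  swap
  · have hh1 := P₁.hi
    have hh2 := P₂.hi
    have hh3 := P₃.hi
    have cls : ∀ {D : FData} {C : Subgroup G} (P : Loc S D C), (D.c.2.1 = D₁.c.2.1 ∧ Inner L (P.y⁻¹ * x)) ∨
        (D.c.2.1 = D₂.c.2.1 ∧ Inner L (P.y⁻¹ * x')) ∨ (D.c.2.1 = D₃.c.2.1 ∧ Inner L (P.y⁻¹ * (x'⁻¹ * x))) := by
      intro D C P
      have hi := P.hi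
      by_cases c1 : D.c.2.1 = D₁.c.2.1
      · have := (P.same_type P₁ c1).inv.mul k₁
        rw [show (P₁.y⁻¹ * P.y)⁻¹ * (P₁.y⁻¹ * x) = P.y⁻¹ * x by group] at this
        exact .inl ⟨c1, this⟩
      by_cases c2 : D.c.2.1 = D₂.c.2.1
      · have := (P.same_type P₂ c2).inv.mul k₂
        rw [show (P₂.y⁻¹ * P.y)⁻¹ * (P₂.y⁻¹ * x') = P.y⁻¹ * x' by group] at this
        exact .inr (.inl ⟨c2, this⟩)
      have c3 : D.c.2.1 = D₃.c.2.1 := by omega
      have := (P.same_type P₃ c3).inv.mul k₃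
      rw [show (P₃.y⁻¹ * P.y)⁻¹ * (P₃.y⁻¹ * (x'⁻¹ * x)) = P.y⁻¹ * (x'⁻¹ * x) by group] at this
      exact .inr (.inr ⟨c3, this⟩)
    -- two elements in congruent cosets are congruent
    have cg : ∀ {v v' : G}, Inner L (P.y⁻¹ * v) → Inner L (P'.y⁻¹ * v') → Inner L (v'⁻¹ * v) := by
      intro v v' hv hv'
      have := (hv'.inv.mul hin).mul hv
      rwa [show (P'.y⁻¹ * v')⁻¹ * (P'.y⁻¹ * P.y) * (P.y⁻¹ * v) = v'⁻¹ * v by group] at this
    have e13 : ¬ Inner L ((x'⁻¹ * x)⁻¹ * x) := fun h' => h2 (by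
      rw [show (x'⁻¹ * x)⁻¹ * x = x⁻¹ * x' * x⁻¹⁻¹ by group] at h'
      exact (S.conj_inner_iff hx.inv_left).mp h')
    have e23 : ¬ Inner L ((x'⁻¹ * x)⁻¹ * x') := fun h' => h1 (by
      rw [show (x'⁻¹ * x)⁻¹ * x' = x⁻¹ * (x' * x') by group] at h'
      exact (inv_inv x) ▸ ((Inner.mul_iff_left (S.sq_inner hx')).mp h').inv)
    have flip : ∀ {v w : G}, Inner L (v⁻¹ * w) → Inner L (w⁻¹ * v) := fun {v w} hh => by
      simpa [mul_inv_rev] using hh.inv
    rcases cls P with ⟨c, hv⟩ | ⟨c, hv⟩ | ⟨c, hv⟩ <;> rcases cls P' with ⟨c', hv'⟩ | ⟨c', hv'⟩ | ⟨c', hv'⟩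
    exacts [hne (c.trans c'.symm), h3 (cg hv hv'), e13 (cg hv hv'), h3 (flip (cg hv hv')), hne (c.trans c'.symm),
      e23 (cg hv hv'), e13 (flip (cg hv hv')), e23 (flip (cg hv hv')), hne (c.trans c'.symm)]
  have hh1 := P₁.hi
  have hh2 := P₂.hi
  have hh3 := P₃.hi
  by_cases c1 : D₁.c.2.1 = i
  · exact ⟨D₁, C₁, P₁, c1⟩
  by_cases c2 : D₂.c.2.1 = i
  · exact ⟨D₂, C₂, P₂, c2⟩
  exact ⟨D₃, C₃, P₃, by omega⟩

/-- An outer element lies in the coset of the extension of its type. -/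
theorem mem_some_coset (hall : ∀ i < 3, ∃ (D : FData) (C : Subgroup G) (_ : Loc S D C), D.c.2.1 = i) {x : G}
    (hx : Commute x (z * z)) (hout : ¬ Inner L x) :
    ∃ i < 3, ∀ {D : FData} {C : Subgroup G} (P : Loc S D C), D.c.2.1 = i → Inner L (P.y⁻¹ * x) := by
  obtain ⟨D', C', P', w, hw, ho, d, hd, e⟩ := W.exists_ext hx hout
  refine ⟨_, P'.hi, fun {D C} P hc => ?_⟩
  rw [← e, show P.y⁻¹ * (w * d) = P.y⁻¹ * P'.y * (P'.y⁻¹ * w * d) by group]
  exact (P'.same_type P hc.symm).mul ((P'.same_coset hw P'.y_mem ho P'.y_out).mul (W.dCore_inner hd))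

end IsSwap

end CfsgLib.StdON
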