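import Cfsg.Agent.Lib.ONRecog.Setting
import Cfsg.Agent.Lib.Basic
import Cfsg.Prelude.Def_ClassificationK

/-!
A standard subgroup of type 4.L₃(4): the elementary facts.
-/

set_option autoImplicit false
set_option maxHeartbeats 400000
set_option linter.unusedSectionVars false

namespace CfsgLib.StdON

open Subgroup CfsgON CfsgPC
open CfsgLib.StemSylow.PlaneFour

universe u

variable {G : Type u} [Group G]

/-- The data of a standard subgroup with cyclic centre of order four, with its coordinates. -/
structure Base (L : Subgroup G) (z : G) (o : ℕ) where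
  z_mem : z ∈ L
  z_ord : orderOf z = 4
  z_cen : ∀ l ∈ L, Commute z l
  cen_sub : ∀ x ∈ L, x ∈ centralizer (L : Set G) → x ∈ zpowers z
  cent_norm : ∀ g : G, Commute g (z * z) ↔ g ∈ normalizer (L : Set G)
  normK : normalizer (L : Set G) = normalizer (centralizer (L : Set G) : Set G)
  tight : ∀ g w : G, w ∈ centralizer (L : Set G) → g⁻¹ * w * g ∈ centralizer (L : Set G) →
    w * w = 1 → w ≠ 1 → Commute g (z * z)
  perfect : commutator L = ⊤
  σ : L →* SmallPlane
  φ : PC →* L
  o_lt : o < 2
  σ_surj : Function.Surjective σ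
  σ_ker : σ.ker = center L
  φ_surj : Function.Surjective φ
  σφ : σ.comp φ = proj
  center_eq : center L = zpowers ⟨z, z_mem⟩
  φ_val : ∀ a < 16, φ ⟨zel a, ev_mem_PC 0 (z_okP a)⟩ = (⟨z, z_mem⟩ : L) ^ fval (kind o) a

/-- An element acting on the standard subgroup as one of its elements does. -/
def Inner (L : Subgroup G) (x : G) : Prop := ∃ l ∈ L, ∃ k ∈ centralizer (L : Set G), l * k = x

/-- A conjugate of the central involution. -/
def Fused (z a : G) : Prop := ∃ g : G, g * (z * z) * g⁻¹ = a

variable {L : Subgroup G} {z : G} {o : ℕ}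

theorem commute_cent {l k : G} (hl : l ∈ L) (hk : k ∈ centralizer (L : Set G)) : Commute l k :=
  mem_centralizer_iff.mp hk l hl

theorem inner_of_mem {x : G} (hx : x ∈ L) : Inner L x := ⟨x, hx, 1, one_mem _, mul_one x⟩

theorem inner_of_cent {x : G} (hx : x ∈ centralizer (L : Set G)) : Inner L x := ⟨1, one_mem _, x, hx, one_mul x⟩

theorem Inner.mul {x y : G} (hx : Inner L x) (hy : Inner L y) : Inner L (x * y) := by
  obtain ⟨l, hl, k, hk, rfl⟩ := hx
  obtain ⟨l', hl', k', hk', rfl⟩ := hy
  exact ⟨l * l', mul_mem hl hl', k * k', mul_mem hk hk', (commute_cent hl' hk).mul_mul_mul_comm l k'⟩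

theorem Inner.inv {x : G} (hx : Inner L x) : Inner L x⁻¹ := by
  obtain ⟨l, hl, k, hk, rfl⟩ := hx
  exact ⟨l⁻¹, inv_mem hl, k⁻¹, inv_mem hk, by rw [(commute_cent hl hk).eq, mul_inv_rev]⟩

theorem Inner.mul_iff_left {x y : G} (hy : Inner L y) : Inner L (x * y) ↔ Inner L x :=
  ⟨fun h => by simpa using h.mul hy.inv, fun h => h.mul hy⟩

theorem Inner.mul_iff_right {x y : G} (hx : Inner L x) : Inner L (x * y) ↔ Inner L y :=
  ⟨fun h => by simpa using hx.inv.mul h, fun h => hx.mul h⟩

/-- An element in both the powers of an element of order four. -/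
theorem zpowers_four [Finite G] {x : G} (hz : orderOf z = 4) (h : x ∈ zpowers z) :
    x = 1 ∨ x = z ∨ x = z * z ∨ x = z * z * z := by
  obtain ⟨p, hp, rfl⟩ := exists_pow_lt hz h
  interval_cases p <;> simp [pow_succ, mul_assoc]

namespace Base

variable (S : Base L z o)
include S

theorem z4 : z * z * z * z = 1 := by
  have h := pow_orderOf_eq_one z
  rw [S.z_ord] at h
  simpa [pow_succ, mul_assoc] using h

theorem tt : z * z * (z * z) = 1 := by simpa [mul_assoc] using S.z4

theorem z_inv : z⁻¹ = z * z * z := inv_eq_of_mul_eq_one_right (by simpa [mul_assoc] using S.z4)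

theorem t_ord : orderOf (z * z) = 2 := by
  refine orderOf_eq_prime (by rw [pow_two, S.tt]) fun h => ?_
  have hd := orderOf_dvd_of_pow_eq_one (show z ^ 2 = 1 by rw [pow_two, h])
  rw [S.z_ord] at hd
  norm_num at hd

theorem t_ne : z * z ≠ 1 := fun h => by
  have := S.t_ord
  rw [h, orderOf_one] at this
  omega

theorem z_ne_t : z ≠ z * z := fun h => by
  have h1 : z = 1 := mul_eq_left.mp h.symm
  have := S.z_ord
  rw [h1, orderOf_one] at this
  omega

theorem z_cent : z ∈ centralizer (L : Set G) := mem_centralizer_iff.mpr fun l hl => (S.z_cen l hl).symm.eq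

theorem t_mem : z * z ∈ L := mul_mem S.z_mem S.z_mem

theorem t_cent : z * z ∈ centralizer (L : Set G) := mul_mem S.z_cent S.z_cent

theorem z_commute_cent {k : G} (hk : k ∈ centralizer (L : Set G)) : Commute z k := commute_cent S.z_mem hk

theorem comm_mem {l : G} (hl : l ∈ L) : Commute l (z * z) := ((S.z_cen l hl).symm.mul_right (S.z_cen l hl).symm)

theorem comm_cent {k : G} (hk : k ∈ centralizer (L : Set G)) : Commute k (z * z) :=
  ((S.z_commute_cent hk).symm.mul_right (S.z_commute_cent hk).symm)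

theorem conj_mem {c : G} (hc : Commute c (z * z)) {l : G} (hl : l ∈ L) : c * l * c⁻¹ ∈ L :=
  (mem_normalizer_iff.mp ((S.cent_norm c).mp hc) l).mp hl

theorem conj_cent {c : G} (hc : Commute c (z * z)) {k : G} (hk : k ∈ centralizer (L : Set G)) :
    c * k * c⁻¹ ∈ centralizer (L : Set G) :=
  (mem_normalizer_iff.mp (S.normK ▸ (S.cent_norm c).mp hc) k).mp hk

theorem conj_inner {c : G} (hc : Commute c (z * z)) {x : G} (hx : Inner L x) : Inner L (c * x * c⁻¹) := by
  obtain ⟨l, hl, k, hk, rfl⟩ := hx
  exact ⟨c * l * c⁻¹, S.conj_mem hc hl, c * k * c⁻¹, S.conj_cent hc hk, by group⟩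

theorem conj_inner_iff {c : G} (hc : Commute c (z * z)) {x : G} : Inner L (c * x * c⁻¹) ↔ Inner L x :=
  ⟨fun h => by simpa [mul_assoc] using S.conj_inner hc.inv_left h, S.conj_inner hc⟩

theorem inner_comm {x : G} (hx : Inner L x) : Commute x (z * z) := by
  obtain ⟨l, hl, k, hk, rfl⟩ := hx
  exact (S.comm_mem hl).mul_left (S.comm_cent hk)

theorem inner_z {x : G} (hx : Inner L x) : Commute x z := by
  obtain ⟨l, hl, k, hk, rfl⟩ := hx
  exact (S.z_cen l hl).symm.mul_left (S.z_commute_cent hk).symm

/-- An element of the intersection. -/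
theorem inter_cases [Finite G] {x : G} (hx : x ∈ L) (hk : x ∈ centralizer (L : Set G)) :
    x = 1 ∨ x = z ∨ x = z * z ∨ x = z * z * z :=
  zpowers_four S.z_ord (S.cen_sub x hx hk)

theorem inter_invol [Finite G] {x : G} (hx : x ∈ L) (hk : x ∈ centralizer (L : Set G)) (h2 : x * x = 1) :
    x = 1 ∨ x = z * z := by
  rcases S.inter_cases hx hk with h | h | h | h
  · exact .inl h
  · subst h; exact absurd h2 S.t_ne
  · exact .inr h
  · subst h
    refine absurd ?_ S.t_ne
    calc z * z = z * z * (z * z * (z * z)) := by rw [S.tt, mul_one]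
      _ = z * z * z * (z * z * z) := by simp [mul_assoc]
      _ = 1 := h2

/-- An element centralising the central involution sends `z` to itself or its inverse. -/
theorem conj_z [Finite G] {c : G} (hc : Commute c (z * z)) : c * z * c⁻¹ = z ∨ c * z * c⁻¹ = z⁻¹ := by
  have ho : orderOf (c * z * c⁻¹) = 4 := by
    rw [show c * z * c⁻¹ = MulAut.conj c z from rfl, MulEquiv.orderOf_eq, S.z_ord]
  rcases S.inter_cases (S.conj_mem hc S.z_mem) (S.conj_cent hc S.z_cent) with h | h | h | h
  · rw [h, orderOf_one] at ho; omega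
  · exact .inl h
  · rw [h, S.t_ord] at ho; omega
  · exact .inr (h.trans S.z_inv.symm)

/-- The product of two elements inverting `z` centralises it. -/
theorem inv_mul_z [Finite G] {c d : G} (hc : Commute c (z * z)) (hd : Commute d (z * z))
    (hcz : ¬ Commute c z) (hdz : ¬ Commute d z) : Commute (c * d) z := by
  have key : ∀ {e : G}, Commute e (z * z) → ¬ Commute e z → e * z * e⁻¹ = z⁻¹ := fun {e} he hne =>
    (S.conj_z he).resolve_left fun h => hne (mul_inv_eq_iff_eq_mul.mp h)
  refine mul_inv_eq_iff_eq_mul.mp ?_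
  calc c * d * z * (c * d)⁻¹ = c * (d * z * d⁻¹) * c⁻¹ := by group
    _ = (c * z * c⁻¹)⁻¹ := by rw [key hd hdz]; group
    _ = z := by rw [key hc hcz, inv_inv]

/-- A conjugate of the central involution in the centraliser of the subgroup is the involution itself. -/
theorem fused_cent {a : G} (ha : Fused z a) (hk : a ∈ centralizer (L : Set G)) : a = z * z := by
  obtain ⟨g, rfl⟩ := ha
  have hne : g * (z * z) * g⁻¹ ≠ 1 := fun h => S.t_ne (conj_eq_one_iff.mp h)
  have hsq : g * (z * z) * g⁻¹ * (g * (z * z) * g⁻¹) = 1 := by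
    rw [show g * (z * z) * g⁻¹ * (g * (z * z) * g⁻¹) = g * (z * z * (z * z)) * g⁻¹ by group, S.tt]; group
  have hg := S.tight g _ hk (by simpa [mul_assoc] using S.t_cent) hsq hne
  rw [hg.eq, mul_inv_cancel_right]

end Base

end CfsgLib.StdON
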