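import Cfsg.Agent.Lib.StdON.Checks
import Cfsg.Agent.Lib.StdON.Setup
import Cfsg.Agent.Lib.ONRecog.Classes

/-!
An extension of the standard subgroup by one outer element, seen through its coordinates.
-/

set_option autoImplicit false
set_option maxHeartbeats 800000
set_option linter.unusedSectionVars false

namespace CfsgLib.StdON

open Subgroup CfsgON CfsgPC
open CfsgLib.StemSylow.PlaneFour

universe u v

attribute [local irreducible] pGens xGens zWords gsX

/-- A group containing the given one with index two, with coordinates. -/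
structure Emb {H : Type u} [Group H] (Γ : Type v) [Group Γ] (z : H) (φ : PC →* H) (c : ℕ × ℕ × ℕ) where
  ι : H →* Γ
  inj : Function.Injective ι
  cd : Coord Γ (ι (z * z)) c
  range : ι.range = cd.M
  v_inner : ∀ {w : List ℕ} (hw : okP w = true), cd.v w = ι (φ ⟨ev (gen 0) w, ev_mem_PC 0 hw⟩)
  top : centralizer ({ι (z * z)} : Set Γ) = ⊤
  φ_z : φ ⟨zel 4, ev_mem_PC 0 (z_okP 4)⟩ = z

theorem okP_z4 : okP zW = true := z_okP 4

theorem parW_of_okP : ∀ {w : List ℕ}, okP w = true → parW w = true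
  | [], _ => rfl
  | a :: w, h => by
    rw [okP_iff] at h
    have ih := parW_of_okP (w := w) (okP_iff.mpr fun b hb => h b (List.mem_cons_of_mem _ hb))
    have ha := h a (List.mem_cons_self ..)
    have e0 : parW (a :: w) = if Nat.beq (a % 3) 2 then !parW w else parW w := rfl
    simp only [List.mem_cons, List.not_mem_nil, or_false] at ha
    rcases ha with rfl | rfl | rfl | rfl <;> rw [e0] <;> exact ih

theorem okW_zW : okW zW = true := okW_of_okP okP_z4

theorem mem_inR {D : FData} {r : List ℕ} (hr : r ∈ inR D) : r ∈ D.rList ∧ parW r = true := List.mem_filter.mp hr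

theorem mem_outR {D : FData} {r : List ℕ} (hr : r ∈ outR D) : r ∈ D.rList ∧ parW r = false := by
  obtain ⟨h1, h2⟩ := List.mem_filter.mp hr
  exact ⟨h1, by simpa using h2⟩

namespace Emb

variable {H : Type u} [Group H] [Finite H] {Γ : Type u} [Group Γ] [Finite Γ] {z : H} {φ : PC →* H}
variable {D : FData} (hD : D.Good) (E : Emb Γ z φ D.c)

include E

theorem v_zW : E.cd.v zW = E.ι z :=
  (E.v_inner okP_z4).trans (congrArg E.ι E.φ_z)

theorem v_tW : E.cd.v tW = E.ι (z * z) := E.cd.v_t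

theorem mem_cent (g : Γ) : g ∈ centralizer ({E.ι (z * z)} : Set Γ) := E.top ▸ mem_top g

theorem mem_range_iff {r : List ℕ} (hr : okW r = true) : E.cd.v r ∈ E.ι.range ↔ parW r = true := by
  rw [E.range]; exact E.cd.inner_iff hr

theorem exists_word (g : Γ) : ∃ r, okW r = true ∧ E.cd.v r = g := E.cd.v_surj (E.mem_cent g)

theorem v_pow4 {r : List ℕ} (hr : okW r = true) : E.cd.v (r ++ r ++ r ++ r) = E.cd.v r ^ 4 := by
  have h2 : okW (r ++ r) = true := okW_append.mpr ⟨hr, hr⟩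
  have h3 : okW (r ++ r ++ r) = true := okW_append.mpr ⟨h2, hr⟩
  rw [E.cd.v_append h3 hr, E.cd.v_append h2 hr, E.cd.v_append hr hr]
  simp only [pow_succ, pow_zero, one_mul]

include hD

theorem ok_r {r : List ℕ} (hr : r ∈ D.rList) : okW r = true := FData.ok_rList hD hr

theorem comm_u {r : List ℕ} (hr : r ∈ D.rList) : Commute (E.cd.v r) (E.cd.v D.u) :=
  mem_centralizer_singleton_iff.mp (((FData.cent_u hD E.cd).2.2.2 _).mpr (List.mem_map_of_mem hr)).2

theorem exists_list {g : Γ} (hg : Commute g (E.cd.v D.u)) : ∃ r ∈ D.rList, E.cd.v r = g :=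
  List.mem_map.mp (((FData.cent_u hD E.cd).2.2.2 g).mp ⟨E.mem_cent g, mem_centralizer_singleton_iff.mpr hg.eq⟩)

/-- The inner part of the list is the centraliser in the smaller group. -/
theorem exists_inR {a h : H} (ha : E.ι a = E.cd.v D.u) (hc : Commute h a) :
    ∃ r ∈ inR D, E.cd.v r = E.ι h := by
  obtain ⟨r, hr, e⟩ := E.exists_list hD (g := E.ι h) (ha ▸ hc.map E.ι)
  exact ⟨r, List.mem_filter.mpr ⟨hr, (E.mem_range_iff (E.ok_r hD hr)).mp ⟨h, e.symm⟩⟩, e⟩

theorem inR_preimage {a : H} (ha : E.ι a = E.cd.v D.u) {r : List ℕ} (hr : r ∈ inR D) :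
    ∃ h : H, E.ι h = E.cd.v r ∧ Commute h a := by
  obtain ⟨h1, h2⟩ := mem_inR hr
  obtain ⟨h, e⟩ := (E.mem_range_iff (E.ok_r hD h1)).mpr h2
  refine ⟨h, e, E.inj ?_⟩
  rw [map_mul, map_mul, e, ha]
  exact (E.comm_u hD h1).eq

theorem exists_outR {g : Γ} (hg : Commute g (E.cd.v D.u)) (hout : g ∉ E.ι.range) :
    ∃ r ∈ outR D, E.cd.v r = g := by
  obtain ⟨r, hr, e⟩ := E.exists_list hD hg
  refine ⟨r, List.mem_filter.mpr ⟨hr, ?_⟩, e⟩
  cases hp : parW r with
  | false => rfl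
  | true => exact absurd (e ▸ (E.mem_range_iff (E.ok_r hD hr)).mpr hp) hout

theorem outR_out {r : List ℕ} (hr : r ∈ outR D) : E.cd.v r ∉ E.ι.range := fun h => by
  obtain ⟨h1, h2⟩ := mem_outR hr
  rw [(E.mem_range_iff (E.ok_r hD h1)).mp h] at h2
  exact Bool.noConfusion h2

theorem exists_u : ∃ a : H, E.ι a = E.cd.v D.u :=
  (E.mem_range_iff (FData.ok_u hD)).mpr (FData.par_u hD)

theorem u_facts {a : H} (ha : E.ι a = E.cd.v D.u) : a * a = 1 ∧ a ≠ 1 ∧ a ≠ z * z := by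
  obtain ⟨⟨h1, h2, h3, -⟩, -⟩ := FData.cent_u hD E.cd
  refine ⟨E.inj ?_, fun e => h2 ?_, fun e => h3 ?_⟩
  · rw [map_mul, ha, h1, map_one]
  · rw [← ha, e, map_one]
  · rw [← ha, e]

theorem K_eq {a b : List ℕ} (ha : okW a = true) (hb : okW b = true) :
    Nat.beq (D.K a) (D.K b) = true ↔ E.cd.v a = E.cd.v b :=
  ⟨fun h => (FData.K_iff hD E.cd ha hb).mp (Nat.eq_of_beq_eq_true h), fun h => by
    rw [(FData.K_iff hD E.cd ha hb).mpr h]; exact Nat.beq_refl _⟩

theorem K_false {a b : List ℕ} (ha : okW a = true) (hb : okW b = true) :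
    Nat.beq (D.K a) (D.K b) = false ↔ E.cd.v a ≠ E.cd.v b := by
  rw [ne_eq, ← not_iff_not.mpr (E.K_eq hD ha hb), Bool.not_eq_true]

theorem commK_iff {a b : List ℕ} (ha : okW a = true) (hb : okW b = true) :
    commK D.K a b = true ↔ Commute (E.cd.v a) (E.cd.v b) := by
  rw [commK, E.K_eq hD (okW_append.mpr ⟨ha, hb⟩) (okW_append.mpr ⟨hb, ha⟩), E.cd.v_append ha hb, E.cd.v_append hb ha]
  exact Iff.rfl

/-- The check of normalised roots. -/
theorem normRoot_iff {a : H} (ha : E.ι a = E.cd.v D.u) {r : List ℕ} (hr : okW r = true) :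
    normRoot D D.K r = true ↔ ∀ h : H, Commute h a →
      E.ι h * E.cd.v r * (E.ι h)⁻¹ = E.cd.v r ∨ E.ι h * E.cd.v r * (E.ι h)⁻¹ = E.cd.v r * E.ι a := by
  simp only [normRoot, List.all_eq_true, Bool.or_eq_true]
  have hu := FData.ok_u hD
  have key : ∀ s ∈ inR D, ((Nat.beq (D.K (s ++ r)) (D.K (r ++ s)) = true ∨
      Nat.beq (D.K (s ++ r)) (D.K (r ++ D.u ++ s)) = true) ↔
      (E.cd.v s * E.cd.v r * (E.cd.v s)⁻¹ = E.cd.v r ∨
        E.cd.v s * E.cd.v r * (E.cd.v s)⁻¹ = E.cd.v r * E.cd.v D.u)) := fun s hs => by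
    have hs' := E.ok_r hD (mem_inR hs).1
    rw [E.K_eq hD (okW_append.mpr ⟨hs', hr⟩) (okW_append.mpr ⟨hr, hs'⟩),
      E.K_eq hD (okW_append.mpr ⟨hs', hr⟩) (okW_append.mpr ⟨okW_append.mpr ⟨hr, hu⟩, hs'⟩), E.cd.v_append hs' hr,
      E.cd.v_append hr hs', E.cd.v_append (okW_append.mpr ⟨hr, hu⟩) hs', E.cd.v_append hr hu, mul_inv_eq_iff_eq_mul,
      mul_inv_eq_iff_eq_mul]
  constructor
  · intro h x hx
    obtain ⟨s, hs, e⟩ := E.exists_inR hD ha hx
    have := (key s hs).mp (h s hs)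
    rwa [e, ← ha] at this
  · intro h s hs
    obtain ⟨x, ex, hx⟩ := E.inR_preimage hD ha hs
    refine (key s hs).mpr ?_
    rw [← ex, ← ha]
    exact h x hx

end Emb

end CfsgLib.StdON
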