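import Cfsg.Agent.Lib.StdON.IndexFour
import Cfsg.Agent.Lib.ONRecog.Iso

/-!
The odd part is trivial, and the group is recognised.
-/

set_option autoImplicit false
set_option maxHeartbeats 800000
set_option linter.unusedSectionVars false
set_option linter.style.haveILetI false

namespace CfsgLib.StdON

open Subgroup CfsgON CfsgPC CfsgLib.CosetEnum
open CfsgLib.StemSylow.PlaneFour

universe u

attribute [local irreducible] pGens xGens zWords gsX certP certQ

variable {G : Type u} [Group G] [Finite G] {L : Subgroup G} {z : G} {o : ℕ}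

namespace Base

variable (S : Base L z o)
include S

/-- A copy of the subgroup of index two in an involution centraliser gives its coordinates. -/
theorem coord_of_image {H : Type u} [Group H] [Finite H] (f : L →* H) (hf : Function.Injective f) {t : H}
    (ht : orderOf t = 2) (hle : ∀ l, Commute (f l) t)
    (hidx : (f.range.subgroupOf (centralizer ({t} : Set H))).index = 2)
    (hout : ∀ x, Commute x t → (∀ l, Commute x (f l)) → x ∈ f.range)
    (hone : ∀ s : H, orderOf s = 2 → ∃ g : H, g * t * g⁻¹ = s) : Nonempty (Coord H t (0, 1, 0)) := by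
  classical
  let K : Type := GaloisField 2 2
  haveI : Fintype K := Fintype.ofFinite _
  have hK : Fintype.card K = 4 := by
    rw [← Nat.card_eq_fintype_card, GaloisField.card 2 2 (by norm_num)]; norm_num
  obtain ⟨eK⟩ := equiv_small (F := K) hK
  set C : Subgroup H := centralizer ({t} : Set H) with hC
  have hfC : f.range ≤ C := by
    rintro _ ⟨l, rfl⟩
    exact mem_centralizer_singleton_iff.mpr (hle l)
  set M : Subgroup C := f.range.subgroupOf C with hM
  haveI : M.Normal := normal_of_index_eq_two hidx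
  let em : L ≃* M := (MonoidHom.ofInjective hf).trans (subgroupOfEquivOfLe hfC).symm
  have hcen : (center L).map em.toMonoidHom = center M := by
    refine le_antisymm ?_ fun x hx => ⟨em.symm x, mem_center_iff.mpr fun l => em.injective ?_, by simp⟩
    · rintro _ ⟨x, hx, rfl⟩
      refine mem_center_iff.mpr fun m => ?_
      obtain ⟨l, rfl⟩ := em.surjective m
      exact (map_mul em l x).symm.trans ((congrArg em (mem_center_iff.mp hx l)).trans (map_mul em x l))
    · rw [map_mul, map_mul, em.apply_symm_apply]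
      exact mem_center_iff.mp hx _
  let ez : center L ≃* center M :=
    ((center L).equivMapOfInjective em.toMonoidHom em.injective).trans (MulEquiv.subgroupCongr hcen)
  have hZc : IsCyclic (center M) := by
    haveI : IsCyclic (center L) := by
      rw [S.center_eq]
      exact inferInstance
    exact isCyclic_of_surjective ez ez.surjective
  have hZ4 : Nat.card (center M) = 4 := by
    rw [← Nat.card_congr ez.toEquiv, S.center_eq, Nat.card_zpowers, Subgroup.orderOf_mk, S.z_ord]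
  have hperf : commutator M = ⊤ := by
    have h := congrArg (Subgroup.map em.toMonoidHom) S.perfect
    rwa [_root_.commutator_def, map_commutator, map_top_of_surjective _ em.surjective, ← _root_.commutator_def] at h
  let eL : L ⧸ center L ≃* SmallPlane :=
    (QuotientGroup.quotientMulEquivOfEq S.σ_ker.symm).trans (QuotientGroup.quotientKerEquivOfSurjective S.σ S.σ_surj)
  let e : M ⧸ center M ≃* Matrix.ProjectiveSpecialLinearGroup (Fin 3) K :=
    ((QuotientGroup.congr (center L) (center M) em hcen).symm.trans eL).trans eK.symm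
  obtain ⟨c, ⟨cd⟩⟩ := exists_coord' t ht C rfl M hidx (fun x hx => mem_subgroupOf.mpr (hout x
    (mem_centralizer_singleton_iff.mp x.2) fun l =>
      (congrArg Subtype.val (mem_centralizer_iff.mp hx ⟨f l, hfC ⟨l, rfl⟩⟩ (mem_subgroupOf.mpr ⟨l, rfl⟩))).symm))
    hZc hZ4 hperf K hK e
  obtain ⟨D, hDc, hgood, -⟩ := exists_data cd.mem
  subst hDc
  obtain ⟨⟨hu2, hu1, -⟩, -⟩ := FData.cent_u hgood cd
  have h := FData.case_eq_of hgood cd ht (hone _ (orderOf_eq_prime (by rw [pow_two, hu2]) hu1))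
  exact ⟨h ▸ cd⟩

end Base

namespace IsSwap

variable {S : Base L z o} {a h : G} (W : IsSwap S a h)
include W

theorem inner_index [IsSimpleGroup G] {H : Type u} [Group H] (π : G → H) (t' : H) (R : Subgroup H)
    (hsurj : ∀ x : H, Commute x t' → ∃ g, Commute g (z * z) ∧ π g = x)
    (hmul : ∀ x y, Commute x (z * z) → Commute y (z * z) → π (x * y) = π x * π y)
    (hcomm : ∀ g, Commute g (z * z) → Commute (π g) t')
    (hR : ∀ g, Commute g (z * z) → (π g ∈ R ↔ Inner L g)) :
    (R.subgroupOf (centralizer ({t'} : Set H))).index = 2 := by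
  obtain ⟨e, he, heout⟩ := W.exists_outer
  rw [index_eq_two_iff]
  refine ⟨⟨π e, mem_centralizer_singleton_iff.mpr (hcomm e he)⟩, fun b => ?_⟩
  obtain ⟨g, hg, eg⟩ := hsurj b (mem_centralizer_singleton_iff.mp b.2)
  simp only [mem_subgroupOf, Subgroup.coe_mul]
  rw [← eg, ← hmul g e hg he, hR _ (hg.mul_left he), hR _ hg]
  by_cases hb : Inner L g
  · exact .inr ⟨hb, fun h' => heout ((Inner.mul_iff_right hb).mp h')⟩
  · exact .inl ⟨W.index_two hg he hb heout, hb⟩

/-- With trivial odd part the group is the O'Nan group. -/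
theorem isoON_trivial [IsSimpleGroup G] (hD : dCore L h = ⊥)
    (hone : ∀ s : G, orderOf s = 2 → ∃ g : G, g * (z * z) * g⁻¹ = s) : Cfsg.Spor.IsoON G := by
  have hin : ∀ {x : G}, Inner L x → x ∈ L := fun {x} hx => by
    obtain ⟨l, hl, d, hd, rfl⟩ := W.inner_decomp hx
    rw [hD, mem_bot] at hd
    rw [hd, mul_one]; exact hl
  have hrange : L.subtype.range = L := L.range_subtype
  obtain ⟨cd⟩ := S.coord_of_image L.subtype L.subtype_injective S.t_ord (fun l => S.comm_mem l.2)
    (W.inner_index id (z * z) _ (fun x hx => ⟨x, hx, rfl⟩) (fun _ _ _ _ => rfl) (fun _ hg => hg) fun g _ => by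
      rw [hrange]; exact ⟨inner_of_mem, hin⟩)
    (fun x _ hx => by
      rw [hrange]
      exact hin (inner_of_cent (mem_centralizer_iff.mpr fun l hl => (hx ⟨l, hl⟩).symm.eq))) hone
  exact isoON_of_coord S.t_ord cd hone

/-- The elements normalising the odd part. -/
theorem mem_norm {x : G} (hx : Commute x (z * z)) : x ∈ normalizer (dCore L h : Set G) := by
  refine mem_normalizer_iff.mpr fun d => ⟨fun hd => W.dCore_conj hx hd, fun hd => ?_⟩
  have := W.dCore_conj hx.inv_left hd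
  simpa [mul_assoc] using this

theorem h_norm : h ∈ normalizer (dCore L h : Set G) := by
  refine mem_normalizer_iff.mpr fun d => ⟨W.dCore_conj_h, fun hd => ?_⟩
  have := W.symm_mem hd
  simpa [mul_assoc] using this

/-- An involution of the centraliser is a conjugate in the normaliser of the odd part. -/
theorem norm_fused [IsSimpleGroup G] {y : G} (hy : Commute y (z * z)) (h2 : y * y = 1) (h1 : y ≠ 1) :
    ∃ m ∈ normalizer (dCore L h : Set G), m * (z * z) * m⁻¹ = y := by
  have viaA : ∀ {x : G}, InvL L z x → ∃ m ∈ normalizer (dCore L h : Set G), m * (z * z) * m⁻¹ = x := fun {x} hx => by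
    obtain ⟨l, hl, e⟩ := S.inv_conj W.inv hx
    exact ⟨l * h, mul_mem (W.mem_norm (S.comm_mem hl)) W.h_norm, by rw [← e, ← W.ht]; group⟩
  by_cases hin : Inner L y
  · by_cases ht : y = z * z
    · exact ⟨1, one_mem _, by rw [ht]; group⟩
    · exact viaA ⟨W.inner_invol_mem hin h2, h2, h1, ht⟩
  obtain ⟨q, hq⟩ := W.all_fused hy h2 h1
  have hqne : q * (z * z) * q⁻¹ ≠ z * z := fun e => hin ((hq.symm.trans e) ▸ inner_of_mem S.t_mem)
  obtain ⟨D, ⟨P⟩⟩ := S.exists_loc_invol hy h2 hin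
  rcases (P.outer_invol (mem_ext_self y) h2 hin).2 with hc | ⟨c₁, c₂, hc₁, hc₂, k₁, k₂, n₁, n₂, hprod⟩
  · exact absurd (hq.symm ▸ hc) (S.outer_not_z hqne (hq.symm ▸ hin))
  set b₀ := q⁻¹ * (z * z) * q with hb₀
  have hb₀out : ¬ Inner L b₀ := fun hb => hin (by
    have := S.inner_back (g := q⁻¹) (S.back_ne hqne) (by rwa [inv_inv])
    simpa [hq] using this)
  have back : ∀ {c : G}, Commute (c * y * c⁻¹) y → Commute (q⁻¹ * (c * y * c⁻¹) * q) (z * z) := fun hc =>
    S.commute_back (hq.symm ▸ hc)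
  -- one of the two preimages is inner
  obtain ⟨c, hc, k, n, hbin⟩ : ∃ c, Commute c (z * z) ∧ Commute (c * y * c⁻¹) y ∧ c * y * c⁻¹ ≠ y ∧
      Inner L (q⁻¹ * (c * y * c⁻¹) * q) := by
    by_cases hb : Inner L (q⁻¹ * (c₁ * y * c₁⁻¹) * q)
    · exact ⟨c₁, hc₁, k₁, n₁, hb⟩
    refine ⟨c₂, hc₂, k₂, n₂, by_contra fun hb' => hb₀out ?_⟩
    rw [hb₀, ← hprod, show q⁻¹ * (c₁ * y * c₁⁻¹ * (c₂ * y * c₂⁻¹)) * q =
      q⁻¹ * (c₁ * y * c₁⁻¹) * q * (q⁻¹ * (c₂ * y * c₂⁻¹) * q) by group]
    exact W.index_two (back k₁) (back k₂) hb hb'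
  set y' := c * y * c⁻¹ with hy'
  have hy'2 : y' * y' = 1 := by rw [hy', show c * y * c⁻¹ * (c * y * c⁻¹) = c * (y * y) * c⁻¹ by group, h2]; group
  have hy'out : ¬ Inner L y' := fun e => hin ((S.conj_inner_iff hc).mp e)
  have hmL : y' * y ∈ L := W.inner_invol_mem
    (W.index_two ((hc.mul_left hy).mul_left hc.inv_left) hy hy'out hin)
    (by rw [k.symm.mul_mul_mul_comm, hy'2, h2, one_mul])
  have hmI : InvL L z (y' * y) := by
    refine ⟨hmL, by rw [k.symm.mul_mul_mul_comm, hy'2, h2, one_mul], fun e => n ?_, fun e => hb₀out ?_⟩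
    · rw [eq_inv_of_mul_eq_one_left e]; exact inv_eq_of_mul_eq_one_right h2
    · have he : y' = z * z * y := by rw [← e, mul_assoc, h2, mul_one]
      rw [he, show q⁻¹ * (z * z * y) * q = b₀ * (q⁻¹ * y * q) by rw [hb₀]; group,
        show q⁻¹ * y * q = z * z by rw [← hq]; group] at hbin
      exact (Inner.mul_iff_left (inner_of_mem S.t_mem)).mp hbin
  obtain ⟨p, hp, ep⟩ := viaA hmI
  have e2 : q⁻¹ * p * (z * z) * (q⁻¹ * p)⁻¹ = q⁻¹ * y' * q * (z * z) := by
    calc _ = q⁻¹ * (p * (z * z) * p⁻¹) * q := by group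
      _ = q⁻¹ * y' * q * (q⁻¹ * y * q) := by rw [ep]; group
      _ = _ := by rw [← hq]; group
  have hne : q⁻¹ * p * (z * z) * (q⁻¹ * p)⁻¹ ≠ z * z := fun e => by
    rw [e2] at e
    have h' : q⁻¹ * y' * q = 1 := mul_eq_right.mp e
    have : y' = 1 := by
      calc y' = q * (q⁻¹ * y' * q) * q⁻¹ := by group
        _ = 1 := by rw [h']; group
    exact hy'out (this ▸ inner_of_mem (one_mem L))
  have hfin := S.inner_fused_mem (S.back_ne hne) (S.inner_back hne (e2.symm ▸ hbin.mul (inner_of_mem S.t_mem)))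
  rw [show (q⁻¹ * p)⁻¹ * (z * z) * (q⁻¹ * p)⁻¹⁻¹ = p⁻¹ * y * p by rw [← hq]; group] at hfin
  obtain ⟨m, hm, em⟩ := viaA hfin
  refine ⟨p * m, mul_mem hp hm, ?_⟩
  rw [show p * m * (z * z) * (p * m)⁻¹ = p * (m * (z * z) * m⁻¹) * p⁻¹ by group, em]
  group

/-- The odd part is trivial. -/
theorem dCore_bot [IsSimpleGroup G] : dCore L h = ⊥ := by
  classical
  haveI : Fact (Nat.Prime 2) := ⟨Nat.prime_two⟩
  by_contra hD
  set Dc := dCore L h with hDc
  set M : Subgroup G := normalizer (Dc : Set G) with hMdef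
  have hCM : ∀ {x : G}, Commute x (z * z) → x ∈ M := fun hx => W.mem_norm hx
  have htM : z * z ∈ M := hCM (Commute.refl _)
  have hDM : Dc ≤ M := le_normalizer
  have htop : M ≠ ⊤ := fun e => by
    have hn : Dc.Normal := normalizer_eq_top_iff.mp e
    rcases IsSimpleGroup.eq_bot_or_eq_top_of_normal Dc hn with e | e
    · exact hD e
    · have ht : z * z ∈ Dc := e ▸ mem_top _
      exact S.t_ne (W.inter_dCore S.t_mem ht)
  obtain ⟨P, hP, -⟩ := W.exists_sylow
  have hPM : (P : Subgroup G) ≤ M := fun p hp => hCM (hP p hp)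
  -- every involution of the normaliser is conjugate there to the central one
  have hclass : ∀ s ∈ M, orderOf s = 2 → ∃ m ∈ M, m * (z * z) * m⁻¹ = s := by
    intro s hs hs2
    have hz2 : IsPGroup 2 (zpowers (⟨s, hs⟩ : M)) := IsPGroup.of_card (n := 1) (by
      rw [Nat.card_zpowers, pow_one, Subgroup.orderOf_mk, hs2])
    obtain ⟨R, hR⟩ := hz2.exists_le_sylow
    obtain ⟨g, hg⟩ := MulAction.exists_smul_eq M R (P.subtype hPM)
    have hy : (g : G) * s * (g : G)⁻¹ ∈ (P : Subgroup G) := by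
      have h : g * ⟨s, hs⟩ * g⁻¹ ∈ ((P.subtype hPM : Sylow 2 M) : Subgroup M) := by
        rw [← hg, Sylow.coe_subgroup_smul]
        exact Subgroup.smul_mem_pointwise_smul (⟨s, hs⟩ : M) (MulAut.conj g) _ (hR (mem_zpowers _))
      exact h
    have hsq : s * s = 1 := by rw [← pow_two, ← hs2, pow_orderOf_eq_one]
    have hs1 : s ≠ 1 := fun e => by rw [e, orderOf_one] at hs2; omega
    obtain ⟨m, hm, em⟩ := W.norm_fused (hP _ hy)
      (by rw [show (g : G) * s * (g : G)⁻¹ * ((g : G) * s * (g : G)⁻¹) = g * (s * s) * (g : G)⁻¹ by group, hsq]; group)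
      fun e => hs1 (conj_eq_one_iff.mp e)
    refine ⟨(g : G)⁻¹ * m, mul_mem (inv_mem g.2) hm, ?_⟩
    rw [show (g : G)⁻¹ * m * (z * z) * ((g : G)⁻¹ * m)⁻¹ = (g : G)⁻¹ * (m * (z * z) * m⁻¹) * g by group, em]
    group
  have hse : Cfsg.IsStronglyEmbedded M := by
    refine ⟨htop, ?_, fun g hg => ?_⟩
    · rw [even_iff_two_dvd, ← S.t_ord]
      exact Subgroup.orderOf_dvd_natCard M htM
    by_contra hodd
    rw [Nat.not_odd_iff_even, even_iff_two_dvd] at hodd
    obtain ⟨⟨s, hsm⟩, hs⟩ := exists_prime_orderOf_dvd_card' 2 hodd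
    rw [orderOf_mk] at hs
    obtain ⟨hs1, hs2⟩ := Subgroup.mem_inf.mp hsm
    obtain ⟨r, hr, hrs⟩ := hs2
    rw [MulEquiv.coe_toMonoidHom, MulAut.conj_apply] at hrs
    obtain ⟨m, hm, em⟩ := hclass s hs1 hs
    obtain ⟨m', hm', em'⟩ := hclass r hr (by rw [← hs, ← hrs, ← MulAut.conj_apply, MulEquiv.orderOf_eq])
    apply hg
    have hc : Commute (m⁻¹ * g * m') (z * z) := by
      show m⁻¹ * g * m' * (z * z) = z * z * (m⁻¹ * g * m')
      calc m⁻¹ * g * m' * (z * z) = m⁻¹ * (g * (m' * (z * z) * m'⁻¹) * g⁻¹) * g * m' := by group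
        _ = m⁻¹ * (m * (z * z) * m⁻¹) * g * m' := by rw [em', hrs, em]
        _ = _ := by group
    have := mul_mem (mul_mem hm (hCM hc)) (inv_mem hm')
    simpa [mul_assoc] using this
  obtain ⟨u, hu, huM⟩ : ∃ u : G, orderOf u = 2 ∧ u ∉ M := by
    by_contra hno
    push Not at hno
    refine htop (eq_top_iff.mpr fun x _ => ?_)
    have hx2 : orderOf (x * (z * z) * x⁻¹) = 2 := by rw [← MulAut.conj_apply, MulEquiv.orderOf_eq, S.t_ord]
    obtain ⟨m, hm, em⟩ := hclass _ (hno _ hx2) hx2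
    have hc : Commute (m⁻¹ * x) (z * z) := by
      show m⁻¹ * x * (z * z) = z * z * (m⁻¹ * x)
      calc m⁻¹ * x * (z * z) = m⁻¹ * (x * (z * z) * x⁻¹) * x := by group
        _ = _ := by rw [← em]; group
    simpa using mul_mem hm (hCM hc)
  -- the quotient
  haveI : (Dc.subgroupOf M).Normal := ⟨fun d hd m => mem_subgroupOf.mpr
    ((mem_normalizer_iff.mp m.2 _).mp (mem_subgroupOf.mp hd))⟩
  set π : M →* M ⧸ Dc.subgroupOf M := QuotientGroup.mk' _ with hπ
  have hπ1 : ∀ x : M, π x = 1 ↔ (x : G) ∈ Dc := fun x => (QuotientGroup.eq_one_iff x).trans mem_subgroupOf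
  have hLM : L ≤ M := fun l hl => hCM (S.comm_mem hl)
  let f : L →* M ⧸ Dc.subgroupOf M := π.comp (Subgroup.inclusion hLM)
  have hf : Function.Injective f := (injective_iff_map_eq_one f).mpr fun l hl =>
    Subtype.ext (W.inter_dCore l.2 ((hπ1 _).mp hl))
  set t' := π ⟨z * z, htM⟩ with ht'
  have ht'2 : orderOf t' = 2 := by
    refine orderOf_eq_prime ?_ fun e => S.t_ne (W.inter_dCore S.t_mem ((hπ1 _).mp e))
    rw [ht', pow_two, ← map_mul, show (⟨z * z, htM⟩ : M) * ⟨z * z, htM⟩ = 1 from Subtype.ext S.tt, map_one]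
  have hcent : ∀ x : M, Commute (π x) t' ↔ Commute (x : G) (z * z) := by
    intro x
    refine ⟨fun hx => ?_, fun hx => Commute.map (Subtype.ext hx : Commute x (⟨z * z, htM⟩ : M)) π⟩
    have hd : (x : G) * (z * z) * (x : G)⁻¹ * (z * z)⁻¹ ∈ Dc := by
      refine (hπ1 (x * ⟨z * z, htM⟩ * x⁻¹ * (⟨z * z, htM⟩ : M)⁻¹)).mp ?_
      rw [map_mul, map_mul, map_mul, map_inv, map_inv, hx.eq, mul_inv_cancel_right, mul_inv_cancel]
    set d := (x : G) * (z * z) * (x : G)⁻¹ * (z * z)⁻¹ with hd'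
    have e : d * (z * z) = (x : G) * (z * z) * (x : G)⁻¹ := by rw [hd', inv_mul_cancel_right]
    have h2 : d * (z * z) * (d * (z * z)) = 1 := by rw [e]; exact S.conj_t_sq _
    have hcd : Commute (z * z) d := W.commute_dCore S.t_mem hd
    rw [hcd.mul_mul_mul_comm, S.tt, mul_one] at h2
    have h1 : d = 1 := orderOf_eq_one_iff.mp (Nat.Coprime.eq_one_of_dvd
      (Nat.coprime_two_right.mpr (W.mem_dCore_iff.mp hd).2) (orderOf_dvd_of_pow_eq_one (by rw [pow_two, h2])))
    rw [h1, one_mul] at e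
    exact mul_inv_eq_iff_eq_mul.mp e.symm
  have hrange : ∀ x : M, π x ∈ f.range ↔ Inner L (x : G) := by
    intro x
    constructor
    · rintro ⟨l, hl⟩
      have hd : ((Subgroup.inclusion hLM l)⁻¹ * x : M).1 ∈ Dc := by
        refine (hπ1 _).mp ?_
        rw [map_mul, map_inv, inv_mul_eq_one]
        exact hl
      have := (inner_of_mem l.2).mul (W.dCore_inner hd)
      simpa using this
    · intro hx
      obtain ⟨l, hl, d, hd, e⟩ := W.inner_decomp hx
      refine ⟨⟨l, hl⟩, ?_⟩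
      show π ⟨l, hLM hl⟩ = π x
      rw [← inv_mul_eq_one, ← map_inv, ← map_mul, hπ1, Subgroup.coe_mul, InvMemClass.coe_inv, ← e, inv_mul_cancel_left]
      exact hd
  have honeq : ∀ s : M ⧸ Dc.subgroupOf M, orderOf s = 2 →
      ∃ x : M, orderOf (x : G) = 2 ∧ π x = s := by
    intro s hs
    obtain ⟨x, rfl⟩ := QuotientGroup.mk'_surjective _ s
    change orderOf (π x) = 2 at hs
    obtain ⟨m, hm⟩ := W.dCore_odd
    have hxx : ((x * x : M) : G) ∈ Dc := (hπ1 _).mp (by rw [map_mul, ← pow_two, ← hs, pow_orderOf_eq_one])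
    have hk : (x ^ (2 * m + 1)) ^ 2 = 1 := by
      refine Subtype.ext ?_
      rw [← pow_mul, mul_comm, pow_mul, pow_two, SubgroupClass.coe_pow, ← hm]
      exact congrArg Subtype.val (pow_card_eq_one' (x := (⟨_, hxx⟩ : Dc)))
    have hπk : π (x ^ (2 * m + 1)) = π x := by
      rw [map_pow, pow_succ, pow_mul, ← hs, pow_orderOf_eq_one, one_pow, one_mul]
    refine ⟨x ^ (2 * m + 1), ?_, hπk⟩
    rw [Subgroup.orderOf_coe]
    refine orderOf_eq_prime hk fun e => ?_
    rw [e, map_one] at hπk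
    rw [← hπk, orderOf_one] at hs
    omega
  have hone : ∀ s : M ⧸ Dc.subgroupOf M, orderOf s = 2 → ∃ g, g * t' * g⁻¹ = s := by
    intro s hs
    obtain ⟨x, hx2, rfl⟩ := honeq s hs
    obtain ⟨m, hm, em⟩ := hclass _ x.2 hx2
    exact ⟨π ⟨m, hm⟩, by rw [ht', ← map_inv, ← map_mul, ← map_mul]; exact congrArg π (Subtype.ext em)⟩
  let π' : G → M ⧸ Dc.subgroupOf M := fun g => if hg : g ∈ M then π ⟨g, hg⟩ else 1
  have hπ' : ∀ {g : G} (hg : g ∈ M), π' g = π ⟨g, hg⟩ := fun hg => dif_pos hg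
  obtain ⟨cd⟩ := S.coord_of_image f hf ht'2
    (fun l => (hcent _).mpr (S.comm_mem l.2))
    (W.inner_index π' t' f.range
      (fun x hx => by
        obtain ⟨y, rfl⟩ := QuotientGroup.mk'_surjective _ x
        exact ⟨(y : G), (hcent y).mp hx, hπ' y.2⟩)
      (fun x y hx hy => by
        rw [hπ' (hCM (hx.mul_left hy)), hπ' (hCM hx), hπ' (hCM hy), ← map_mul]
        exact congrArg π (Subtype.ext rfl))
      (fun g hg => by rw [hπ' (hCM hg)]; exact (hcent _).mpr hg)
      fun g hg => by rw [hπ' (hCM hg)]; exact hrange _)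
    (fun x hx hall => by
      obtain ⟨y, rfl⟩ := QuotientGroup.mk'_surjective _ x
      refine (hrange y).mpr (inner_of_cent (mem_centralizer_iff.mpr fun l hl => ?_))
      have hy : Commute (y : G) (z * z) := (hcent y).mp hx
      have hd : (y : G) * l * (y : G)⁻¹ * l⁻¹ ∈ Dc := by
        refine (hπ1 (y * ⟨l, hLM hl⟩ * y⁻¹ * (⟨l, hLM hl⟩ : M)⁻¹)).mp ?_
        rw [map_mul, map_mul, map_mul, map_inv, map_inv]
        have e : π y * π ⟨l, hLM hl⟩ = π ⟨l, hLM hl⟩ * π y := (hall ⟨l, hl⟩).eq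
        rw [e, mul_inv_cancel_right, mul_inv_cancel]
      have h1 := W.inter_dCore (mul_mem (S.conj_mem hy hl) (inv_mem hl)) hd
      exact (mul_inv_eq_iff_eq_mul.mp (mul_inv_eq_one.mp h1)).symm) hone
  obtain ⟨eH⟩ := equiv_of_coord ht'2 cd hone
  -- an odd transitive subgroup
  set Du := M ⊓ M.map (MulAut.conj u).toMonoidHom with hDu
  have hDuodd : Odd (Nat.card Du) := hse.2.2 u huM
  set K : Subgroup (M ⧸ Dc.subgroupOf M) := (Du.subgroupOf M).map π with hK
  have hKodd : Odd (Nat.card K) := by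
    refine hDuodd.of_dvd_nat ?_
    rw [← Nat.card_congr (subgroupOfEquivOfLe (inf_le_left : Du ≤ M)).toEquiv]
    exact Subgroup.card_dvd_of_surjective _ (π.subgroupMap_surjective (Du.subgroupOf M))
  have htr : ∀ s ∈ (⊤ : Subgroup (M ⧸ Dc.subgroupOf M)), orderOf s = 2 → ∃ k ∈ K, k * t' * k⁻¹ = s := by
    intro s _ hs
    obtain ⟨x, hx2, rfl⟩ := honeq s hs
    obtain ⟨d, hd, ed⟩ := CfsgLib.StrongEmb.exists_conj_in_inter hse hu huM htM S.t_ord x.2 hx2
    exact ⟨π ⟨d, hd.1⟩, mem_map_of_mem π (show (⟨d, hd.1⟩ : M) ∈ Du.subgroupOf M from hd), by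
      rw [ht', ← map_inv, ← map_mul, ← map_mul]; exact congrArg π (Subtype.ext ed)⟩
  have hdvd : 2857239 ∣ Nat.card K := by
    have h := ((centralizer ({t'} : Set (M ⧸ Dc.subgroupOf M))).subgroupOf ⊤).card_mul_index
    rw [Nat.card_congr (subgroupOfEquivOfLe le_top).toEquiv, cd.card, Nat.card_congr Subgroup.topEquiv.toEquiv,
      ← Nat.card_congr eH.toEquiv, presON_card,
      card_involutions ⊤ ⊤ le_rfl (mem_top t') ht'2 (fun s _ hs => (hone s hs).imp fun g hg => ⟨mem_top g, hg⟩),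
      ← card_involutions K ⊤ le_top (mem_top t') ht'2 htr] at h
    have hnum : ((centralizer ({t'} : Set (M ⧸ Dc.subgroupOf M))).subgroupOf K).index = 2857239 := by omega
    rw [← hnum]
    exact Subgroup.index_dvd_card _
  exact no_odd_transitive eH hKodd hdvd

/-- The group is the O'Nan group. -/
theorem isoON [IsSimpleGroup G] : Cfsg.Spor.IsoON G := by
  classical
  refine W.isoON_trivial W.dCore_bot fun s hs => ?_
  haveI : Fact (Nat.Prime 2) := ⟨Nat.prime_two⟩
  obtain ⟨P, hP, -⟩ := W.exists_sylow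
  obtain ⟨Q, hQ⟩ := (IsPGroup.of_card (p := 2) (n := 1) (by rw [Nat.card_zpowers, hs, pow_one]) :
    IsPGroup 2 (zpowers s)).exists_le_sylow
  obtain ⟨g, hg⟩ := MulAction.exists_smul_eq G Q P
  have hm : g * s * g⁻¹ ∈ (P : Subgroup G) := by
    rw [← hg, Sylow.coe_subgroup_smul]
    exact Subgroup.smul_mem_pointwise_smul s (MulAut.conj g) _ (hQ (mem_zpowers _))
  have hs2 : s * s = 1 := by rw [← pow_two, ← hs, pow_orderOf_eq_one]
  obtain ⟨k, hk⟩ := W.all_fused (hP _ hm)
    (by rw [show g * s * g⁻¹ * (g * s * g⁻¹) = g * (s * s) * g⁻¹ by group, hs2]; group)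
    fun e => by
      have := conj_eq_one_iff.mp e
      rw [this, orderOf_one] at hs
      omega
  refine ⟨g⁻¹ * k, ?_⟩
  rw [show g⁻¹ * k * (z * z) * (g⁻¹ * k)⁻¹ = g⁻¹ * (k * (z * z) * k⁻¹) * g by group, hk]
  group

end IsSwap

end CfsgLib.StdON
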