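import Cfsg.Agent.Lib.StdON.LocRoots
import Cfsg.Agent.Lib.ZStar.Main
import Cfsg.Agent.Lib.Basic

/-!
Conjugates of the central involution in its centraliser: an inner one exists and lies in the standard subgroup.
-/

set_option autoImplicit false
set_option maxHeartbeats 800000
set_option linter.unusedSectionVars false

namespace CfsgLib.StdON

open Subgroup CfsgON CfsgPC
open CfsgLib.StemSylow.PlaneFour

universe u

variable {G : Type u} [Group G] [Finite G] {L : Subgroup G} {z : G} {o : ℕ}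

namespace Base

variable (S : Base L z o)
include S

theorem conj_t_sq (g : G) : g * (z * z) * g⁻¹ * (g * (z * z) * g⁻¹) = 1 := by
  rw [show g * (z * z) * g⁻¹ * (g * (z * z) * g⁻¹) = g * (z * z * (z * z)) * g⁻¹ by group, S.tt]; group

theorem conj_t_ne (g : G) : g * (z * z) * g⁻¹ ≠ 1 := fun h => S.t_ne (conj_eq_one_iff.mp h)

theorem commute_back {g x : G} (h : Commute x (g * (z * z) * g⁻¹)) : Commute (g⁻¹ * x * g) (z * z) := by
  simpa [mul_assoc] using h.conj g⁻¹

theorem back_ne {g : G} (h : g * (z * z) * g⁻¹ ≠ z * z) : g⁻¹ * (z * z) * g⁻¹⁻¹ ≠ z * z := fun e => h (by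
  calc g * (z * z) * g⁻¹ = g * (g⁻¹ * (z * z) * g⁻¹⁻¹) * g⁻¹ := by rw [e]
    _ = z * z := by group)

/-- An involution acting as an element of the subgroup, outside the centraliser of the subgroup. -/
theorem inner_form {x : G} (hx : Inner L x) (h2 : x * x = 1) (hk : x ∉ centralizer (L : Set G)) :
    ∃ l k : G, InvL L z l ∧ k ∈ centralizer (L : Set G) ∧ k * k = 1 ∧ l * k = x := by
  obtain ⟨l, hl, k, hk', rfl⟩ := hx
  have hll : l * l ∈ centralizer (L : Set G) := by
    have e : l * l = (k * k)⁻¹ := eq_inv_of_mul_eq_one_left (by rw [← h2, (commute_cent hl hk').symm.mul_mul_mul_comm])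
    rw [e]
    exact inv_mem (mul_mem hk' hk')
  have fin : ∀ l' k' : G, l' ∈ L → k' ∈ centralizer (L : Set G) → l' * l' = 1 → l' * k' = l * k →
      ∃ l k₀ : G, InvL L z l ∧ k₀ ∈ centralizer (L : Set G) ∧ k₀ * k₀ = 1 ∧ l * k₀ = l' * k' := fun l' k' h1 h3 h4 h5 => by
    refine ⟨l', k', ⟨h1, h4, fun e => hk ?_, fun e => hk ?_⟩, h3, ?_, rfl⟩
    · rw [← h5, e, one_mul]; exact h3
    · rw [← h5, e]; exact mul_mem S.t_cent h3
    · rw [← h5, (commute_cent h1 h3).symm.mul_mul_mul_comm, h4, one_mul] at h2; exact h2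
  rcases S.sq_cases hl hll with e | e
  · exact fin l k hl hk' e rfl
  · have hlz : Commute z l := S.z_cen l hl
    have h' : l * z * (z⁻¹ * k) = l * k := by group
    obtain ⟨l', k', r⟩ := fin (l * z) (z⁻¹ * k) (mul_mem hl S.z_mem) (mul_mem (inv_mem S.z_cent) hk')
      (by rw [hlz.mul_mul_mul_comm, e, S.tt]) h'
    exact ⟨l', k', r.1, r.2.1, r.2.2.1, r.2.2.2.trans h'⟩

/-- An inner conjugate of the central involution makes the inverse conjugate inner. -/
theorem inner_back {g : G} (hne : g * (z * z) * g⁻¹ ≠ z * z) (hin : Inner L (g * (z * z) * g⁻¹)) :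
    Inner L (g⁻¹ * (z * z) * g⁻¹⁻¹) := by
  obtain ⟨l, k, hl, hk, -, e⟩ := S.inner_form hin (S.conj_t_sq g) fun h => hne (S.fused_cent ⟨g, rfl⟩ h)
  obtain ⟨p, hp, q, hq, hpl, hql, hpq⟩ := S.derived hl
  have hpa : Commute p (g * (z * z) * g⁻¹) := e ▸ hpl.mul_right (commute_cent hp hk)
  have hqa : Commute q (g * (z * z) * g⁻¹) := e ▸ hql.mul_right (commute_cent hq hk)
  have := S.comm_inner (S.commute_back hpa) (S.commute_back hqa)
  rw [← hpq, inv_inv]
  convert this using 1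
  group

/-- An outer conjugate of the central involution does not centralise `z`. -/
theorem outer_not_z {g : G} (hne : g * (z * z) * g⁻¹ ≠ z * z) (hout : ¬ Inner L (g * (z * z) * g⁻¹)) :
    ¬ Commute (g * (z * z) * g⁻¹) z := fun h => hout (by
  have h1 : Commute (g⁻¹ * z * g) (z * z) := S.commute_back h.symm
  have h2 : Inner L (g⁻¹ * (z * z) * g⁻¹⁻¹) := by
    rw [inv_inv, show g⁻¹ * (z * z) * g = g⁻¹ * z * g * (g⁻¹ * z * g) by group]
    exact S.sq_inner h1
  simpa using S.inner_back (S.back_ne hne) h2)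

theorem exists_loc_invol {a : G} (hc : Commute a (z * z)) (h2 : a * a = 1) (hout : ¬ Inner L a) :
    ∃ D, Nonempty (Loc S D (ext L a)) :=
  S.exists_loc hc (h2 ▸ one_mem L) hout

/-- An inner conjugate exists. -/
theorem exists_inner_fused {g : G} (hc : Commute (g * (z * z) * g⁻¹) (z * z)) (hne : g * (z * z) * g⁻¹ ≠ z * z) :
    ∃ g : G, g * (z * z) * g⁻¹ ≠ z * z ∧ Inner L (g * (z * z) * g⁻¹) := by
  by_contra hno
  push Not at hno
  set a := g * (z * z) * g⁻¹ with ha
  have hout := hno g hne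
  obtain ⟨D, ⟨P⟩⟩ := S.exists_loc_invol hc (S.conj_t_sq g) hout
  rcases (P.outer_invol (mem_ext_self a) (S.conj_t_sq g) hout).2 with h | ⟨c₁, c₂, h1, h2, hc1, hc2, hn1, hn2, hprod⟩
  · exact S.outer_not_z hne hout h
  have hcd : ∀ c : G, Commute (c * a * c⁻¹) a → c * a * c⁻¹ ≠ a →
      Commute (g⁻¹ * (c * a * c⁻¹) * g) (z * z) ∧ ¬ Commute (g⁻¹ * (c * a * c⁻¹) * g) z := fun c hc hn => by
    have e : g⁻¹ * (c * a * c⁻¹) * g = g⁻¹ * c * g * (z * z) * (g⁻¹ * c * g)⁻¹ := by rw [ha]; group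
    have hn' : g⁻¹ * c * g * (z * z) * (g⁻¹ * c * g)⁻¹ ≠ z * z := by
      rw [← e]
      intro h
      exact hn (by rw [ha] at *; calc _ = g * (g⁻¹ * (c * (g * (z * z) * g⁻¹) * c⁻¹) * g) * g⁻¹ := by group
                                    _ = _ := by rw [h])
    exact ⟨S.commute_back hc, e ▸ S.outer_not_z hn' (hno _ hn')⟩
  obtain ⟨k1, m1⟩ := hcd c₁ hc1 hn1
  obtain ⟨k2, m2⟩ := hcd c₂ hc2 hn2
  refine S.outer_not_z (S.back_ne hne) (hno _ (S.back_ne hne)) ?_
  have := S.inv_mul_z k1 k2 m1 m2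
  rw [show g⁻¹ * (c₁ * a * c₁⁻¹) * g * (g⁻¹ * (c₂ * a * c₂⁻¹) * g) =
    g⁻¹ * (c₁ * a * c₁⁻¹ * (c₂ * a * c₂⁻¹)) * g by group, hprod] at this
  rwa [inv_inv]

/-- Only the conjugate itself is an involution of the centraliser in the conjugate of the centraliser of the
subgroup. -/
theorem cent_meet {g w : G} (hne : g * (z * z) * g⁻¹ ≠ z * z) (hin : Inner L (g * (z * z) * g⁻¹))
    (hw : g⁻¹ * w * g ∈ centralizer (L : Set G)) (hwt : Commute w (z * z)) (h2 : w * w = 1) (h1 : w ≠ 1) :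
    w = g * (z * z) * g⁻¹ := by
  classical
  set a := g * (z * z) * g⁻¹ with ha
  have hw2 : g⁻¹ * w * g * (g⁻¹ * w * g) = 1 := by
    rw [show g⁻¹ * w * g * (g⁻¹ * w * g) = g⁻¹ * (w * w) * g by group, h2]; group
  have hw1 : g⁻¹ * w * g ≠ 1 := fun e => h1 (by
    calc w = g * (g⁻¹ * w * g) * g⁻¹ := by group
      _ = 1 := by rw [e]; group)
  have hsub : ∀ {x : G}, Commute x w → Commute x a := by
    intro x hx
    have hx' : Commute (g⁻¹ * x * g) (g⁻¹ * w * g) := by simpa using hx.conj g⁻¹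
    have h := S.tight (g⁻¹ * x * g) (g⁻¹ * w * g) hw (by rw [hx'.inv_left.eq, inv_mul_cancel_right]; exact hw) hw2 hw1
    have := h.conj g
    simpa [mul_assoc, ha] using this
  have hwK : w ∉ centralizer (L : Set G) := fun h => hne (by
    rw [ha, (S.tight g w h hw h2 h1).eq, mul_inv_cancel_right])
  have hwa : Commute w a := hsub (Commute.refl w)
  obtain ⟨l, k, hl, hk, hk2, e⟩ := S.inner_form hin (S.conj_t_sq g) fun h => hne (S.fused_cent ⟨g, rfl⟩ h)
  have hcl : ∀ {x : G}, x ∈ L → Commute x a → Commute x l := fun {x} hx hxa => by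
    have hl' : l = a * k⁻¹ := by rw [← e, mul_inv_cancel_right]
    exact hl' ▸ hxa.mul_right (commute_cent hx hk).inv_right
  by_cases hwin : Inner L w
  · obtain ⟨l₂, k₂, hl₂, hk₂, -, e₂⟩ := S.inner_form hwin h2 hwK
    have hinc : ∀ {x : G}, x ∈ L → Commute x l₂ → Commute x l := fun {x} hx hxl =>
      hcl hx (hsub (e₂ ▸ hxl.mul_right (commute_cent hx hk₂)))
    obtain ⟨m, hm, em⟩ := S.inv_conj hl hl₂
    set A : Set G := {x | x ∈ L ∧ Commute x l₂}
    set B : Set G := {x | x ∈ L ∧ Commute x l}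
    have hcard : B.ncard = A.ncard := by
      rw [← Set.ncard_image_of_injective B (MulAut.conj m).injective]
      congr 1
      ext x
      simp only [A, B, Set.mem_image, Set.mem_setOf_eq, MulAut.conj_apply]
      constructor
      · rintro ⟨y, ⟨hy, hyc⟩, rfl⟩
        exact ⟨mul_mem (mul_mem hm hy) (inv_mem hm), em ▸ hyc.conj m⟩
      · rintro ⟨hx, hxc⟩
        refine ⟨m⁻¹ * x * m, ⟨mul_mem (mul_mem (inv_mem hm) hx) hm, ?_⟩, by group⟩
        rw [← em] at hxc
        simpa [mul_assoc] using hxc.conj m⁻¹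
    have hAB : A = B := Set.eq_of_subset_of_ncard_le (fun x hx => ⟨hx.1, hinc hx.1 hx.2⟩) hcard.le
    have hall : ∀ h ∈ L, Commute h l → Commute l₂ h := fun h hh hhl =>
      ((Set.ext_iff.mp hAB h).mpr ⟨hh, hhl⟩).2.symm
    have hwK' : ∀ x ∈ centralizer (L : Set G), w = a * x → w = a := fun x hx hwx => by
      have hxx : x = a * w := by rw [hwx, ← mul_assoc, S.conj_t_sq g, one_mul]
      by_contra hwa'
      have hx1 : x ≠ 1 := fun h => hwa' (by rw [hwx, h, mul_one])
      have hx2 : x * x = 1 := by rw [hxx, hwa.mul_mul_mul_comm, S.conj_t_sq g, h2, one_mul]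
      have hxg : g⁻¹ * x * g ∈ centralizer (L : Set G) := by
        rw [hxx, show g⁻¹ * (a * w) * g = z * z * (g⁻¹ * w * g) by rw [ha]; group]
        exact mul_mem S.t_cent hw
      exact hne (by rw [ha, (S.tight g x hx hxg hx2 hx1).eq, mul_inv_cancel_right])
    have hk' : k * k = 1 := hk2
    rcases S.central hl hl₂.1 (hcl hl₂.1 (by
      have hlw : Commute l₂ w := e₂ ▸ (Commute.refl l₂).mul_right (commute_cent hl₂.1 hk₂)
      exact hsub hlw)) hl₂.2.1 hall with h | h | h | h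
    · exact absurd h hl₂.2.2.1
    · exact absurd h hl₂.2.2.2
    · refine hwK' (k⁻¹ * k₂) (mul_mem (inv_mem hk) hk₂) ?_
      rw [← e₂, h, ← e]; group
    · refine hwK' (k⁻¹ * (z * z) * k₂) (mul_mem (mul_mem (inv_mem hk) S.t_cent) hk₂) ?_
      rw [← e₂, h, ← e]; group
  · exfalso
    obtain ⟨D, ⟨P⟩⟩ := S.exists_loc_invol hwt h2 hwin
    obtain ⟨r, hr, hr3, hr1, hrw⟩ := (P.outer_invol (mem_ext_self w) h2 hwin).1
    have h8 := S.exp8 hl hr (hcl hr (hsub hrw))
    refine hr1 ?_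
    calc r = r ^ 9 := by rw [show 9 = 8 + 1 from rfl, pow_succ, h8, one_mul]
      _ = 1 := by rw [show 9 = 3 * 3 from rfl, pow_mul, hr3, one_pow]

/-- The inner conjugates lie in the subgroup. -/
theorem inner_fused_mem {g : G} (hne : g * (z * z) * g⁻¹ ≠ z * z) (hin : Inner L (g * (z * z) * g⁻¹)) :
    InvL L z (g * (z * z) * g⁻¹) := by
  set a := g * (z * z) * g⁻¹ with ha
  obtain ⟨l, k, hl, hk, hk2, e⟩ := S.inner_form hin (S.conj_t_sq g) fun h => hne (S.fused_cent ⟨g, rfl⟩ h)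
  by_cases hk1 : k = 1
  · rw [hk1, mul_one] at e; rw [← e]; exact hl
  have hka : Commute k a := e ▸ (commute_cent hl.1 hk).symm.mul_right (Commute.refl k)
  have hb := S.cent_meet (g := g⁻¹) (w := g⁻¹ * k * g) (S.back_ne hne) (S.inner_back hne hin)
    (by rwa [inv_inv, show g * (g⁻¹ * k * g) * g⁻¹ = k by group]) (S.commute_back hka)
    (by rw [show g⁻¹ * k * g * (g⁻¹ * k * g) = g⁻¹ * (k * k) * g by group, hk2]; group)
    (fun h => hk1 (by calc k = g * (g⁻¹ * k * g) * g⁻¹ := by group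
                           _ = 1 := by rw [h]; group))
  have hkt : k = z * z := by
    calc k = g * (g⁻¹ * k * g) * g⁻¹ := by group
      _ = z * z := by rw [hb]; group
  refine ⟨?_, S.conj_t_sq g, S.conj_t_ne g, hne⟩
  rw [← e, hkt]
  exact mul_mem hl.1 S.t_mem

/-- An element swapping the central involution with an involution of the subgroup. -/
theorem exists_swap {g : G} (hc : Commute (g * (z * z) * g⁻¹) (z * z)) (hne : g * (z * z) * g⁻¹ ≠ z * z) :
    ∃ a h : G, InvL L z a ∧ h * (z * z) * h⁻¹ = a ∧ h * a * h⁻¹ = z * z := by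
  obtain ⟨g, hne, hin⟩ := S.exists_inner_fused hc hne
  have hb := S.inner_fused_mem (S.back_ne hne) (S.inner_back hne hin)
  have ha := S.inner_fused_mem hne hin
  obtain ⟨x, hx, e⟩ := S.inv_conj hb ha
  refine ⟨_, x * g⁻¹, ha, ?_, ?_⟩
  · rw [← e]; group
  · calc x * g⁻¹ * (g * (z * z) * g⁻¹) * (x * g⁻¹)⁻¹ = x * (z * z) * x⁻¹ := by group
      _ = z * z := S.conjL_t hx

end Base

end CfsgLib.StdON
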