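import Cfsg.Agent.Lib.StdON.LFacts

/-!
The facts on involutions of the standard subgroup, on the elements of the whole group.
-/

set_option autoImplicit false
set_option maxHeartbeats 800000
set_option linter.unusedSectionVars false

namespace CfsgLib.StdON

open Subgroup CfsgON CfsgPC
open CfsgLib.StemSylow.PlaneFour

universe u

variable {G : Type u} [Group G]

/-- An involution of the subgroup other than the central one. -/
def InvL (L : Subgroup G) (z a : G) : Prop := a ∈ L ∧ a * a = 1 ∧ a ≠ 1 ∧ a ≠ z * z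

/-- The elements of the subgroup commuting with the first move the second at most to its product with the first. -/
def NormL (L : Subgroup G) (a r : G) : Prop :=
  ∀ h ∈ L, Commute h a → h * r * h⁻¹ = r ∨ h * r * h⁻¹ = r * a

variable [Finite G] {L : Subgroup G} {z : G} {o : ℕ}

theorem NormL.conj {a r : G} (h : NormL L a r) {l : G} (hl : l ∈ L) : NormL L (l * a * l⁻¹) (l * r * l⁻¹) := by
  intro x hx hxc
  have hx' : Commute (l⁻¹ * x * l) a := by simpa [mul_assoc] using hxc.conj l⁻¹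
  rcases h _ (mul_mem (mul_mem (inv_mem hl) hx) hl) hx' with e | e
  · left
    calc x * (l * r * l⁻¹) * x⁻¹ = l * (l⁻¹ * x * l * r * (l⁻¹ * x * l)⁻¹) * l⁻¹ := by group
      _ = l * r * l⁻¹ := by rw [e]
  · right
    calc x * (l * r * l⁻¹) * x⁻¹ = l * (l⁻¹ * x * l * r * (l⁻¹ * x * l)⁻¹) * l⁻¹ := by group
      _ = l * r * l⁻¹ * (l * a * l⁻¹) := by rw [e]; group

namespace Base

variable (S : Base L z o)
include S

theorem conjL_z {l : G} (hl : l ∈ L) : l * z * l⁻¹ = z := by rw [(S.z_cen l hl).symm.eq, mul_inv_cancel_right]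

theorem conjL_t {l : G} (hl : l ∈ L) : l * (z * z) * l⁻¹ = z * z := by rw [(S.comm_mem hl).eq, mul_inv_cancel_right]

theorem invL_conj {a : G} (ha : InvL L z a) {l : G} (hl : l ∈ L) : InvL L z (l * a * l⁻¹) := by
  obtain ⟨h0, h1, h2, h3⟩ := ha
  refine ⟨mul_mem (mul_mem hl h0) (inv_mem hl),
    by rw [show l * a * l⁻¹ * (l * a * l⁻¹) = l * (a * a) * l⁻¹ by group, h1]; group,
    fun e => h2 (conj_eq_one_iff.mp e), fun e => h3 ?_⟩
  calc a = l⁻¹ * (l * a * l⁻¹) * l⁻¹⁻¹ := by group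
    _ = z * z := by rw [e, S.conjL_t (inv_mem hl)]

theorem toInv {a : G} (ha : InvL L z a) : Inv (⟨z, S.z_mem⟩ : L) ⟨a, ha.1⟩ :=
  ⟨Subtype.ext ha.2.1, fun e => ha.2.2.1 (congrArg Subtype.val e), fun e => ha.2.2.2 (congrArg Subtype.val e)⟩

theorem inv_conj {a b : G} (ha : InvL L z a) (hb : InvL L z b) : ∃ l ∈ L, l * a * l⁻¹ = b := by
  obtain ⟨l, hl⟩ := S.lfacts0.conj _ _ (S.toInv ha) (S.toInv hb)
  exact ⟨l, l.2, congrArg Subtype.val hl⟩

theorem sq_ne {x : G} (hx : x ∈ L) : x * x ≠ z ∧ x * x ≠ z * z * z :=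
  ⟨fun e => (S.lfacts0.sq_ne ⟨x, hx⟩).1 (Subtype.ext e), fun e => (S.lfacts0.sq_ne ⟨x, hx⟩).2 (Subtype.ext e)⟩

/-- A square in the centre is the square of an element times one or the central involution. -/
theorem sq_cases {x : G} (hx : x ∈ L) (hc : x * x ∈ centralizer (L : Set G)) : x * x = 1 ∨ x * x = z * z := by
  rcases S.inter_cases (mul_mem hx hx) hc with e | e | e | e
  exacts [.inl e, absurd e (S.sq_ne hx).1, .inr e, absurd e (S.sq_ne hx).2]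

/-- Transport from the base involution. -/
theorem exists_base : ∃ a₀ : G, InvL L z a₀ ∧
    (∃ p ∈ L, ∃ q ∈ L, Commute p a₀ ∧ Commute q a₀ ∧ p * q * p⁻¹ * q⁻¹ = z * z) ∧
    (∀ r ∈ L, Commute r a₀ → r * r = 1 → (∀ h ∈ L, Commute h a₀ → Commute r h) →
      r = 1 ∨ r = z * z ∨ r = a₀ ∨ r = a₀ * (z * z)) ∧
    (∀ r ∈ L, Commute r a₀ → r ^ 4 ≠ a₀ ∧ r ^ 4 ≠ a₀ * (z * z)) ∧
    (∀ r ∈ L, Commute r a₀ → r ^ 8 = 1) ∧
    (∀ r ∈ L, Commute r a₀ → (r * r = a₀ * z ∨ r * r = a₀ * (z * z * z)) → ¬ NormL L a₀ r) ∧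
    (o = 1 → ∀ r ∈ L, r * r = a₀ → ¬ NormL L a₀ r) ∧
    (o = 0 → {r : G | r ∈ L ∧ Commute r a₀ ∧ r * r = z * z}.ncard = 24 ∧
      {r : G | r ∈ L ∧ Commute r a₀ ∧ r * r = a₀}.ncard = 8) := by
  obtain ⟨a, ⟨h1, h2, h3⟩, ⟨p, q, hp, hq, hpq⟩, hcen, h8, hexp, hnr, hk, hcnt⟩ := S.lfacts0.base
  have up : ∀ {x y : L}, Commute x y → Commute (x : G) y := fun h => congrArg Subtype.val h.eq
  have down : ∀ {x y : G} (hx : x ∈ L) (hy : y ∈ L), Commute x y → Commute (⟨x, hx⟩ : L) ⟨y, hy⟩ :=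
    fun _ _ h => Subtype.ext h.eq
  have nm : ∀ {r : G} (hr : r ∈ L), NormL L (a : G) r → Norm a ⟨r, hr⟩ := fun hr hN h hh =>
    (hN h h.2 (up hh)).imp Subtype.ext Subtype.ext
  refine ⟨a, ⟨a.2, congrArg Subtype.val h1, fun e => h2 (Subtype.ext e), fun e => h3 (Subtype.ext e)⟩,
    ⟨p, p.2, q, q.2, up hp, up hq, congrArg Subtype.val hpq⟩, fun r hr hc h2' hall => ?_, fun r hr hc => ?_,
    fun r hr hc => ?_, fun r hr hc e hN => hnr ⟨r, hr⟩ (down hr a.2 hc) (e.imp Subtype.ext Subtype.ext) (nm hr hN),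
    fun ho r hr e hN => hk ho ⟨r, hr⟩ (Subtype.ext e) (nm hr hN), fun ho => ?_⟩
  · rcases hcen ⟨r, hr⟩ (down hr a.2 hc) (Subtype.ext h2') (fun h hh => Subtype.ext (hall h h.2 (up hh)).eq) with
      e | e | e | e
    exacts [.inl (congrArg Subtype.val e), .inr (.inl (congrArg Subtype.val e)),
      .inr (.inr (.inl (congrArg Subtype.val e))), .inr (.inr (.inr (congrArg Subtype.val e)))]
  · exact ⟨fun e => (h8 ⟨r, hr⟩ (down hr a.2 hc)).1 (Subtype.ext e),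
      fun e => (h8 ⟨r, hr⟩ (down hr a.2 hc)).2 (Subtype.ext e)⟩
  · exact congrArg Subtype.val (hexp ⟨r, hr⟩ (down hr a.2 hc))
  · have key : ∀ w : L, {r : G | r ∈ L ∧ Commute r (a : G) ∧ r * r = (w : G)}.ncard =
        {r : L | Commute r a ∧ r * r = w}.ncard := fun w => by
      rw [← Set.ncard_image_of_injective _ (Subtype.val_injective (p := (· ∈ L)))]
      congr 1
      ext r
      simp only [Set.mem_setOf_eq, Set.mem_image]
      exact ⟨fun ⟨hr, hc, e⟩ => ⟨⟨r, hr⟩, ⟨down hr a.2 hc, Subtype.ext e⟩, rfl⟩,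
        fun ⟨x, ⟨hc, e⟩, hx⟩ => hx ▸ ⟨x.2, up hc, congrArg Subtype.val e⟩⟩
    exact ⟨(key (⟨z, S.z_mem⟩ * ⟨z, S.z_mem⟩)).trans (hcnt ho).1, (key a).trans (hcnt ho).2⟩

theorem commute_conj_iff {l r a : G} : Commute (l * r * l⁻¹) (l * a * l⁻¹) ↔ Commute r a :=
  ⟨fun h => by simpa [mul_assoc] using h.conj l⁻¹, fun h => h.conj l⟩

theorem derived {a : G} (ha : InvL L z a) :
    ∃ p ∈ L, ∃ q ∈ L, Commute p a ∧ Commute q a ∧ p * q * p⁻¹ * q⁻¹ = z * z := by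
  obtain ⟨a₀, h₀, ⟨p, hp, q, hq, hpa, hqa, e⟩, -⟩ := S.exists_base
  obtain ⟨l, hl, rfl⟩ := S.inv_conj h₀ ha
  refine ⟨l * p * l⁻¹, mul_mem (mul_mem hl hp) (inv_mem hl), l * q * l⁻¹, mul_mem (mul_mem hl hq) (inv_mem hl),
    hpa.conj l, hqa.conj l, ?_⟩
  rw [show l * p * l⁻¹ * (l * q * l⁻¹) * (l * p * l⁻¹)⁻¹ * (l * q * l⁻¹)⁻¹ = l * (p * q * p⁻¹ * q⁻¹) * l⁻¹ by group,
    e, S.conjL_t hl]

theorem central {a r : G} (ha : InvL L z a) (hr : r ∈ L) (hc : Commute r a) (h2 : r * r = 1)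
    (hall : ∀ h ∈ L, Commute h a → Commute r h) : r = 1 ∨ r = z * z ∨ r = a ∨ r = a * (z * z) := by
  obtain ⟨a₀, h₀, -, hcen, -⟩ := S.exists_base
  obtain ⟨l, hl, rfl⟩ := S.inv_conj ha h₀
  rcases hcen (l * r * l⁻¹) (mul_mem (mul_mem hl hr) (inv_mem hl)) (hc.conj l)
    (by rw [show l * r * l⁻¹ * (l * r * l⁻¹) = l * (r * r) * l⁻¹ by group, h2]; group) (fun h hh hhc => by
      have := (hall (l⁻¹ * h * l) (mul_mem (mul_mem (inv_mem hl) hh) hl) (by simpa [mul_assoc] using hhc.conj l⁻¹)).conj l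
      simpa [mul_assoc] using this) with e | e | e | e
  · exact .inl (conj_eq_one_iff.mp e)
  · right; left
    rw [← S.conjL_t hl] at e
    exact mul_left_cancel (mul_right_cancel e)
  · exact .inr (.inr (.inl (mul_left_cancel (mul_right_cancel e))))
  · right; right; right
    have e' : l * r * l⁻¹ = l * (a * (z * z)) * l⁻¹ := by
      rw [e, mul_assoc (l * a) l⁻¹, (S.comm_mem (inv_mem hl)).eq]; group
    exact mul_left_cancel (mul_right_cancel e')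

theorem no8 {a r : G} (ha : InvL L z a) (hr : r ∈ L) (hc : Commute r a) : r ^ 4 ≠ a ∧ r ^ 4 ≠ a * (z * z) := by
  obtain ⟨a₀, h₀, -, -, h8, -⟩ := S.exists_base
  obtain ⟨l, hl, rfl⟩ := S.inv_conj ha h₀
  obtain ⟨h1, h2⟩ := h8 (l * r * l⁻¹) (mul_mem (mul_mem hl hr) (inv_mem hl)) (hc.conj l)
  refine ⟨fun e => h1 (by rw [conj_pow, e]), fun e => h2 ?_⟩
  rw [conj_pow, e, mul_assoc (l * a) l⁻¹, (S.comm_mem (inv_mem hl)).eq]
  group

theorem exp8 {a r : G} (ha : InvL L z a) (hr : r ∈ L) (hc : Commute r a) : r ^ 8 = 1 := by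
  obtain ⟨a₀, h₀, -, -, -, hexp, -⟩ := S.exists_base
  obtain ⟨l, hl, rfl⟩ := S.inv_conj ha h₀
  have h := hexp (l * r * l⁻¹) (mul_mem (mul_mem hl hr) (inv_mem hl)) (hc.conj l)
  rwa [conj_pow, conj_eq_one_iff] at h

theorem no_root {a r : G} (ha : InvL L z a) (hr : r ∈ L) (hc : Commute r a)
    (e : r * r = a * z ∨ r * r = a * (z * z * z)) : ¬ NormL L a r := by
  obtain ⟨a₀, h₀, -, -, -, -, hnr, -⟩ := S.exists_base
  obtain ⟨l, hl, rfl⟩ := S.inv_conj ha h₀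
  intro hN
  have hz : ∀ w, Commute l w → l * a * l⁻¹ * w = l * (a * w) * l⁻¹ := fun w hw => by
    rw [mul_assoc (l * a), hw.inv_left.eq]; group
  refine hnr (l * r * l⁻¹) (mul_mem (mul_mem hl hr) (inv_mem hl)) (hc.conj l) ?_ (hN.conj hl)
  rw [show l * r * l⁻¹ * (l * r * l⁻¹) = l * (r * r) * l⁻¹ by group]
  have hlz : Commute l z := (S.z_cen l hl).symm
  exact e.imp (fun e => by rw [e, hz z hlz]) fun e => by rw [e, hz _ ((hlz.mul_right hlz).mul_right hlz)]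

theorem kind_zero {a r : G} (ha : InvL L z a) (hr : r ∈ L) (e : r * r = a) (hN : NormL L a r) : o = 0 := by
  obtain ⟨a₀, h₀, -, -, -, -, -, hk, -⟩ := S.exists_base
  obtain ⟨l, hl, rfl⟩ := S.inv_conj ha h₀
  by_contra ho
  exact hk (by have := S.o_lt; omega) (l * r * l⁻¹) (mul_mem (mul_mem hl hr) (inv_mem hl))
    (by rw [← e]; group) (hN.conj hl)

theorem roots {a : G} (ha : InvL L z a) (ho : o = 0) :
    {r : G | r ∈ L ∧ Commute r a ∧ r * r = z * z}.ncard = 24 ∧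
      {r : G | r ∈ L ∧ Commute r a ∧ r * r = a}.ncard = 8 := by
  obtain ⟨a₀, h₀, -, -, -, -, -, -, hcnt⟩ := S.exists_base
  obtain ⟨l, hl, rfl⟩ := S.inv_conj ha h₀
  have key : ∀ w : G, {r : G | r ∈ L ∧ Commute r a ∧ r * r = w}.ncard =
      {r : G | r ∈ L ∧ Commute r (l * a * l⁻¹) ∧ r * r = l * w * l⁻¹}.ncard := fun w => by
    rw [← Set.ncard_image_of_injective {r : G | r ∈ L ∧ Commute r a ∧ r * r = w} (MulAut.conj l).injective]
    congr 1
    ext r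
    simp only [Set.mem_setOf_eq, Set.mem_image, MulAut.conj_apply]
    constructor
    · rintro ⟨x, ⟨hx, hc, e⟩, rfl⟩
      exact ⟨mul_mem (mul_mem hl hx) (inv_mem hl), hc.conj l, by rw [← e]; group⟩
    · rintro ⟨hx, hc, e⟩
      refine ⟨l⁻¹ * r * l, ⟨mul_mem (mul_mem (inv_mem hl) hx) hl, by simpa [mul_assoc] using hc.conj l⁻¹, ?_⟩, by group⟩
      calc l⁻¹ * r * l * (l⁻¹ * r * l) = l⁻¹ * (r * r) * l := by group
        _ = w := by rw [e]; group
  obtain ⟨c1, c2⟩ := hcnt ho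
  constructor
  · rw [key, S.conjL_t hl]; exact c1
  · rw [key]; exact c2

end Base

end CfsgLib.StdON
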