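import Cfsg.Agent.Lib.StdON.Roots
import Cfsg.Agent.Lib.TransferExtremal

/-!
The Sylow subgroup, and outer involutions of the third type.
-/

set_option autoImplicit false
set_option maxHeartbeats 800000
set_option linter.unusedSectionVars false
set_option linter.style.haveILetI false

namespace CfsgLib.StdON

open Subgroup CfsgON CfsgPC
open CfsgLib.StemSylow.PlaneFour

universe u

attribute [local irreducible] pGens xGens zWords gsX certP certQ

variable {G : Type u} [Group G] [Finite G] {L : Subgroup G} {z : G} {o : ℕ}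

theorem certW_ok : okW certP = true ∧ okW certQ = true ∧ parW (certP ++ certQ ++ invW certP ++ invW certQ) = true := by
  with_unfolding_all exact ⟨rfl, rfl, rfl⟩

namespace Loc

variable {S : Base L z o} {D : FData} {C : Subgroup G} (P : Loc S D C)
include P

theorem rep_facts {O : OutRep} (hO : O ∈ D.outs) :
    ((P.E.cd.v O.rep : C) : G) * ((P.E.cd.v O.rep : C) : G) = 1 ∧ ¬ Inner L ((P.E.cd.v O.rep : C) : G) := by
  obtain ⟨hx, hp, -⟩ := FData.ok_out P.good hO
  refine ⟨?_, fun h => ?_⟩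
  · have hch := P.good.out
    simp only [FData.outChk, List.all_eq_true, Bool.and_eq_true] at hch
    have := (FData.K_sq P.good P.E.cd hx).mp (Nat.eq_of_beq_eq_true (hch O hO).1.1.1.1)
    exact congrArg Subtype.val this
  · have := (P.E.mem_range_iff hx).mp ((P.range_inner _).mpr h)
    rw [hp] at this
    exact Bool.noConfusion this

/-- An outer involution is a conjugate in the extension of a representative. -/
theorem exists_rep {x : G} (hx : x ∈ C) (h2 : x * x = 1) (hout : ¬ Inner L x) :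
    ∃ O ∈ D.outs, ∃ g : G, Commute g (z * z) ∧ g * x * g⁻¹ = ((P.E.cd.v O.rep : C) : G) := by
  have hne : x ≠ z * z := fun e => hout (e ▸ inner_of_mem S.t_mem)
  have h1 : x ≠ 1 := fun e => hout (e ▸ inner_of_mem (one_mem L))
  obtain ⟨w, hw, r, hr, e⟩ := FData.classes P.good P.E.cd (P.E.mem_cent _) (s := (⟨x, hx⟩ : C)) (Subtype.ext h2)
    (fun e => h1 (congrArg Subtype.val e)) fun e => hne ((congrArg Subtype.val e).trans P.ι_t)
  have hg : Commute ((P.E.cd.v w : C) : G) (z * z) := P.comm _ (P.E.cd.v w).2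
  have e' : ((P.E.cd.v w : C) : G) * x * ((P.E.cd.v w : C) : G)⁻¹ = ((P.E.cd.v r : C) : G) := congrArg Subtype.val e
  rcases List.mem_cons.mp hr with rfl | hr
  · refine absurd ?_ hout
    rw [← S.conj_inner_iff hg, e']
    exact inner_of_mem P.u_inv.1
  · obtain ⟨O, hO, rfl⟩ := List.mem_map.mp hr
    exact ⟨O, hO, _, hg, e'⟩

theorem no_invol {x : G} (hx : x ∈ C) (h2 : x * x = 1) (hno : D.outs.isEmpty = true) : Inner L x := by
  by_contra hout
  obtain ⟨O, hO, -⟩ := P.exists_rep hx h2 hout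
  rw [List.isEmpty_iff.mp hno] at hO
  exact List.not_mem_nil hO

/-- A two-group containing the Sylow subgroup of the extension has the central involution as only central one. -/
theorem zs_center (hzs : D.zsChk = true) {T : Subgroup G} (hTC : T ≤ C) (hT : IsPGroup 2 T)
    (hcard : ∀ Q : Subgroup G, Q ≤ C → IsPGroup 2 Q → Nat.card Q ≤ Nat.card T) {w : G} (hw : w ∈ C)
    (hw2 : w * w = 1) (hw1 : w ≠ 1) (hcom : ∀ p ∈ T, Commute p w) : w = z * z := by
  classical
  haveI : Fact (Nat.Prime 2) := ⟨Nat.prime_two⟩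
  obtain ⟨hc512, hmem⟩ := FData.sylSub_spec P.good P.E.cd
  set Y : Subgroup C := FData.sylSub P.E.cd with hY
  have hY2 : IsPGroup 2 Y := IsPGroup.of_card (n := 9) (hc512.trans (by norm_num))
  have hCcard : Nat.card C = 161280 := by
    rw [← P.E.cd.card, P.E.top]
    exact (Nat.card_congr Subgroup.topEquiv.toEquiv).symm
  have hidx : ¬ 2 ∣ Y.index := by
    have h := Y.card_mul_index
    rw [hc512, hCcard] at h
    omega
  let PY : Sylow 2 C := hY2.toSylow hidx
  have hT2 : IsPGroup 2 (T.subgroupOf C) := hT.comap_subtype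
  obtain ⟨Q, hQ⟩ := hT2.exists_le_sylow
  obtain ⟨g, hg⟩ := MulAction.exists_smul_eq C Q PY
  have hsub : ∀ p : C, (p : G) ∈ T → g * p * g⁻¹ ∈ Y := fun p hp => by
    show g * p * g⁻¹ ∈ (PY : Subgroup C)
    rw [← hg, Sylow.coe_subgroup_smul]
    exact Subgroup.smul_mem_pointwise_smul p (MulAut.conj g) _ (hQ hp)
  have hY' : ∀ q ∈ Y, ((g⁻¹ * q * g : C) : G) ∈ T := by
    have h512 : 512 ≤ Nat.card T := by
      rw [← hc512, ← Subgroup.card_map_of_injective C.subtype_injective]
      exact hcard _ (Subgroup.map_subtype_le _) (hY2.map _)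
    let f : T → Y := fun p => ⟨g * ⟨p, hTC p.2⟩ * g⁻¹, hsub _ p.2⟩
    have hf : Function.Injective f := fun p q e => by
      have e' : g * ⟨(p : G), hTC p.2⟩ * g⁻¹ = g * ⟨(q : G), hTC q.2⟩ * g⁻¹ := congrArg Subtype.val e
      exact Subtype.ext (congrArg (Subtype.val (p := (· ∈ C))) (mul_left_cancel (mul_right_cancel e')))
    haveI := Fintype.ofFinite T
    haveI := Fintype.ofFinite Y
    have hb : Function.Bijective f := (Fintype.bijective_iff_injective_and_card f).mpr ⟨hf, by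
      have := Nat.card_le_card_of_injective f hf
      rw [hc512] at this
      rw [← Nat.card_eq_fintype_card, ← Nat.card_eq_fintype_card, hc512]
      omega⟩
    intro q hq
    obtain ⟨p, hp⟩ := hb.2 ⟨q, hq⟩
    have e : g * ⟨(p : G), hTC p.2⟩ * g⁻¹ = q := congrArg Subtype.val hp
    rw [show g⁻¹ * q * g = (⟨(p : G), hTC p.2⟩ : C) by rw [← e]; group]
    exact p.2
  -- the conjugate commutes with the whole subgroup
  have hcomY : ∀ q ∈ Y, Commute q (g * ⟨w, hw⟩ * g⁻¹) := fun q hq => by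
    have h1 : Commute (g⁻¹ * q * g) (⟨w, hw⟩ : C) := Subtype.ext (hcom _ (hY' q hq)).eq
    simpa [mul_assoc] using h1.conj g
  have hwY : g * ⟨w, hw⟩ * g⁻¹ ∈ Y := by
    by_contra hno
    let W : Subgroup C := zpowers (g * ⟨w, hw⟩ * g⁻¹)
    have hW2 : IsPGroup 2 W := IsPGroup.of_card (n := 1) (by
      rw [Nat.card_zpowers, pow_one, show g * ⟨w, hw⟩ * g⁻¹ = MulAut.conj g ⟨w, hw⟩ from rfl, MulEquiv.orderOf_eq,
        Subgroup.orderOf_mk]
      exact orderOf_eq_prime (by rw [pow_two, hw2]) hw1)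
    have hnorm : W ≤ normalizer (Y : Set C) := by
      refine zpowers_le.mpr (mem_normalizer_iff.mpr fun q => ⟨fun hq => ?_, fun hq => ?_⟩)
      · rwa [← (hcomY q hq).eq, mul_inv_cancel_right]
      · have h1 := hcomY _ hq
        set m := g * ⟨w, hw⟩ * g⁻¹
        have h2 : q = m * q * m⁻¹ := by
          calc q = m⁻¹ * (m * q * m⁻¹ * m) := by group
            _ = m⁻¹ * (m * (m * q * m⁻¹)) := by rw [h1.eq]
            _ = m * q * m⁻¹ := by group
        rwa [← h2] at hq
    have hsup : IsPGroup 2 (Y ⊔ W : Subgroup C) := hY2.to_sup_of_normal_left' hW2 hnorm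
    have := PY.3 hsup le_sup_left
    exact hno (this.le (mem_sup_right (mem_zpowers _)))
  obtain ⟨i, hi, ei⟩ := (hmem _).mp hwY
  have hm2 : g * ⟨w, hw⟩ * g⁻¹ * (g * ⟨w, hw⟩ * g⁻¹) = 1 := by
    rw [show g * ⟨w, hw⟩ * g⁻¹ * (g * ⟨w, hw⟩ * g⁻¹) = g * (⟨w, hw⟩ * ⟨w, hw⟩) * g⁻¹ by group,
      show (⟨w, hw⟩ : C) * ⟨w, hw⟩ = 1 from Subtype.ext hw2, mul_one, mul_inv_cancel]
  have hm1 : g * ⟨w, hw⟩ * g⁻¹ ≠ 1 := fun e => hw1 (congrArg Subtype.val (conj_eq_one_iff.mp e))
  simp only [FData.zsChk, List.all_eq_true, List.mem_range, Bool.or_eq_true, Bool.not_eq_true',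
    List.any_eq_true] at hzs
  rcases hzs i hi with ((h0 | h0) | h0) | ⟨q, hq, h0⟩
  · exact absurd ((FData.K_sq P.good P.E.cd (FData.ok_s P.good hi).1).mpr (ei ▸ hm2)) (Nat.ne_of_beq_eq_false h0)
  · have h1 := Nat.eq_of_beq_eq_true h0
    rw [FData.sKey_eq P.good P.E.cd hi, FData.K_one P.good P.E.cd (FData.ok_s P.good hi).1, ei] at h1
    exact absurd h1 hm1
  · have h1 := Nat.eq_of_beq_eq_true h0
    rw [FData.sKey_eq P.good P.E.cd hi, FData.K_t P.good P.E.cd (FData.ok_s P.good hi).1, ei] at h1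
    have h2 : (g : G) * w * (g : G)⁻¹ = z * z := (congrArg Subtype.val h1).trans P.ι_t
    have h3 := P.comm _ g.2
    calc w = (g : G)⁻¹ * ((g : G) * w * (g : G)⁻¹) * g := by group
      _ = z * z := by rw [h2, mul_assoc, ← h3.eq, inv_mul_cancel_left]
  · refine absurd ((FData.K_comm P.good P.E.cd (FData.ok_sgens P.good hq) (FData.ok_s P.good hi).1).mpr ?_)
      (Nat.ne_of_beq_eq_false h0)
    rw [ei]
    exact hcomY _ (subset_closure ⟨q, hq, rfl⟩)

end Loc

namespace IsSwap

variable {S : Base L z o} {a h : G} (W : IsSwap S a h)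
include W

/-- Inner involutions are conjugates of the central one. -/
theorem fused_inner {x : G} (hx : Inner L x) (h2 : x * x = 1) (h1 : x ≠ 1) : Fused z x := by
  by_cases ht : x = z * z
  · exact ⟨1, by rw [ht]; group⟩
  obtain ⟨l, -, e⟩ := S.inv_conj W.inv ⟨W.inner_invol_mem hx h2, h2, h1, ht⟩
  exact ⟨l * h, by rw [← e, ← W.ht]; group⟩

/-- An outer involution is fused if a conjugate in the centraliser is inner. -/
theorem fused_of_conj {x g : G} (h2 : x * x = 1) (h1 : x ≠ 1) (hin : Inner L (g * x * g⁻¹)) : Fused z x := by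
  obtain ⟨k, hk⟩ := W.fused_inner hin (by rw [show g * x * g⁻¹ * (g * x * g⁻¹) = g * (x * x) * g⁻¹ by group, h2]; group)
    fun e => h1 (conj_eq_one_iff.mp e)
  exact ⟨g⁻¹ * k, by rw [show g⁻¹ * k * (z * z) * (g⁻¹ * k)⁻¹ = g⁻¹ * (k * (z * z) * k⁻¹) * g by group, hk]; group⟩

/-- No outer involution of the third type is a conjugate of the central one. -/
theorem graph_false {D : FData} {C : Subgroup G} (P : Loc S D C) (hgr : graphChk D D.K = true)
    (hcert : certChk D D.K = true) {x : G} (hx : x ∈ C) (h2 : x * x = 1) (hout : ¬ Inner L x) (hf : Fused z x) :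
    False := by
  obtain ⟨O, hO, g₀, hg₀, e₀⟩ := P.exists_rep hx h2 hout
  obtain ⟨hrep2, hrepout⟩ := P.rep_facts hO
  set y := ((P.E.cd.v O.rep : C) : G) with hy
  obtain ⟨g, hg⟩ : Fused z y := by
    obtain ⟨g, hg⟩ := hf
    exact ⟨g₀ * g, by rw [← e₀, ← hg]; group⟩
  have hyC : y ∈ C := (P.E.cd.v O.rep).2
  obtain ⟨hP, hQ, hpar⟩ := certW_ok
  have hOk := (FData.ok_out P.good hO).1
  set e' := certP ++ certQ ++ invW certP ++ invW certQ with he'
  have hok : okW e' = true := okW_append.mpr ⟨okW_append.mpr ⟨okW_append.mpr ⟨hP, hQ⟩, okW_invW _⟩, okW_invW _⟩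
  simp only [certChk, Bool.and_eq_true, Bool.not_eq_true', List.all_eq_true] at hcert
  obtain ⟨⟨⟨c1, c2⟩, c3⟩, c4⟩ := hcert
  set p := ((P.E.cd.v certP : C) : G) with hp
  set q := ((P.E.cd.v certQ : C) : G) with hq
  set e := p * q * p⁻¹ * q⁻¹ with he
  have hev : ((P.E.cd.v e' : C) : G) = e := by
    rw [he', P.E.cd.v_append (okW_append.mpr ⟨okW_append.mpr ⟨hP, hQ⟩, okW_invW _⟩) (okW_invW _),
      P.E.cd.v_append (okW_append.mpr ⟨hP, hQ⟩) (okW_invW _), P.E.cd.v_append hP hQ, P.E.cd.v_invW hP,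
      P.E.cd.v_invW hQ]
    simp only [Subgroup.coe_mul, InvMemClass.coe_inv]
    rfl
  have hpy : Commute p y := P.commute_coe ((P.E.commK_iff P.good hP hOk).mp (c4 O hO).1)
  have hqy : Commute q y := P.commute_coe ((P.E.commK_iff P.good hQ hOk).mp (c4 O hO).2)
  have heL : InvL L z e := by
    refine ⟨?_, ?_, fun h => ?_, fun h => ?_⟩
    · rw [← hev]
      exact (P.range_iff _).mp ((P.E.mem_range_iff hok).mpr hpar)
    · rw [← hev]
      exact congrArg Subtype.val ((FData.K_sq P.good P.E.cd hok).mp (Nat.eq_of_beq_eq_true c1))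
    · exact (P.E.K_false P.good hok rfl).mp c2 (by rw [P.E.cd.v_nil]; exact Subtype.ext (hev.trans h))
    · exact (P.E.K_false P.good hok okW_tW).mp c3 (Subtype.ext ((hev.trans h).trans P.v_t'.symm))
  obtain ⟨l, hl, el⟩ := S.inv_conj W.inv heL
  set m := l * h with hm
  have hmt : m * (z * z) * m⁻¹ = e := by rw [← el, ← W.ht, hm]; group
  -- the preimage of the representative
  have hce : Commute y e := (((hpy.symm.mul_right hqy.symm).mul_right hpy.symm.inv_right).mul_right hqy.symm.inv_right)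
  have hback : Inner L (g⁻¹ * e * g) := by
    rw [he, show g⁻¹ * (p * q * p⁻¹ * q⁻¹) * g =
      g⁻¹ * p * g * (g⁻¹ * q * g) * (g⁻¹ * p * g)⁻¹ * (g⁻¹ * q * g)⁻¹ by group]
    exact S.comm_inner (S.commute_back (hg.symm ▸ hpy)) (S.commute_back (hg.symm ▸ hqy))
  have e2 : g⁻¹ * m * (z * z) * (g⁻¹ * m)⁻¹ = g⁻¹ * e * g := by rw [← hmt]; group
  have hne : g⁻¹ * m * (z * z) * (g⁻¹ * m)⁻¹ ≠ z * z := fun h => hrepout (by
    rw [e2] at h
    have : e = y := by
      calc e = g * (g⁻¹ * e * g) * g⁻¹ := by group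
        _ = y := by rw [h, hg]
    exact this ▸ inner_of_mem heL.1)
  have hy' := S.inner_fused_mem (S.back_ne hne) (S.inner_back hne (e2.symm ▸ hback))
  have e3 : (g⁻¹ * m)⁻¹ * (z * z) * (g⁻¹ * m)⁻¹⁻¹ = m⁻¹ * y * m := by rw [← hg]; group
  rw [e3] at hy'
  -- so it commutes with a normalised root
  have hyc : Commute y (l * (h * z * h⁻¹) * l⁻¹) := by
    have := ((S.z_cen _ hy'.1).symm.conj m)
    rw [show m * (m⁻¹ * y * m) * m⁻¹ = y by group, show m * z * m⁻¹ = l * (h * z * h⁻¹) * l⁻¹ by rw [hm]; group] at this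
    exact this
  obtain ⟨n, hn, en, hmove⟩ := P.exists_moved heL
  obtain ⟨r, hr, er⟩ := hmove y hyC hrepout hce
  obtain ⟨-, hsq, -, hN⟩ := W.zc_facts
  obtain ⟨s, hs, hcand, es⟩ := P.exists_cand (c := l * (h * z * h⁻¹) * l⁻¹)
    (mul_mem (mul_mem hl W.zc_mem.1) (inv_mem hl)) (by rw [← el]; calc
      _ = l * (h * z * h⁻¹ * (h * z * h⁻¹)) * l⁻¹ := by group
      _ = _ := by rw [hsq]) (el ▸ hN.conj hl) hn en
  have hr' := P.E.ok_r P.good (mem_outR hr).1
  have h := List.all_eq_true.mp hgr r hr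
  simp only [Bool.or_eq_true, Bool.not_eq_true', List.all_eq_true] at h
  rcases h with h | h
  · refine absurd ?_ ((P.E.K_false P.good (okW_append.mpr ⟨hr', hr'⟩) rfl).mp h)
    rw [P.E.cd.v_nil, P.E.cd.v_append hr' hr']
    refine Subtype.ext ?_
    rw [Subgroup.coe_mul, er, show n * y * n⁻¹ * (n * y * n⁻¹) = n * (y * y) * n⁻¹ by group, hrep2]
    simp
  · rcases h s hs with h | h
    · rw [hcand] at h; exact Bool.noConfusion h
    · have : commK D.K r s = true := (P.E.commK_iff P.good hr' (P.E.ok_r P.good (mem_inR hs).1)).mpr (P.commute_of (by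
        rw [er, es]; exact hyc.conj n))
      rw [this] at h
      exact Bool.noConfusion h

end IsSwap

end CfsgLib.StdON
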