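import Cfsg.Agent.Lib.StdON.Graph
import Cfsg.Agent.Lib.HallPi

/-!
The inner elements have index two in the centraliser of the central involution.
-/

set_option autoImplicit false
set_option maxHeartbeats 800000
set_option linter.unusedSectionVars false
set_option linter.style.haveILetI false

namespace CfsgLib.StdON

open Subgroup CfsgON CfsgPC
open CfsgLib.StemSylow.PlaneFour

universe u

attribute [local irreducible] pGens xGens zWords gsX certP certQ

variable {G : Type u} [Group G] [Finite G] {L : Subgroup G} {z : G} {o : ℕ}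

/-- The transversal of the odd part on the inner elements. -/
def inT (L : Subgroup G) (a : G) : Set G := {x | x ∈ L ∧ Commute x a}

/-- The transversal of the odd part on one outer coset. -/
def outT (L C : Subgroup G) (a : G) : Set G := {x | x ∈ C ∧ ¬ Inner L x ∧ Commute x a}

namespace IsSwap

variable {S : Base L z o} {a h : G} (W : IsSwap S a h)
include W

theorem kind0 {D : FData} {C : Subgroup G} (P : Loc S D C) :
    D.zsChk = true ∧ (TypeP D D.K ∨ TypeU D D.K ∨ TypeG D D.K) := P.kind0 W.zc_mem.2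

theorem inT_spec {x : G} (hx : x ∈ inT L a) : Commute x (z * z) ∧ Commute x a ∧ x * x ∈ L :=
  ⟨S.comm_mem hx.1, hx.2, mul_mem hx.1 hx.1⟩

theorem outT_spec {D : FData} {C : Subgroup G} (P : Loc S D C) {x : G} (hx : x ∈ outT L C a) :
    Commute x (z * z) ∧ Commute x a ∧ x * x ∈ L :=
  ⟨P.comm x hx.1, hx.2.2, P.sq_mem hx.1⟩

/-- The part in the odd part does not matter for commuting. -/
theorem commute_a {w d : G} (hd : d ∈ dCore L h) (hc : Commute (w * d) a) : Commute w a := by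
  simpa using hc.mul_left (W.cent_comm_a (W.dCore_le hd)).inv_left

/-- Some element is outer. -/
theorem exists_outer : ∃ x, Commute x (z * z) ∧ ¬ Inner L x := by
  by_contra hall
  push Not at hall
  have h := (W.transfer_roots (inT L a) (fun x hx => W.inT_spec hx)
    (fun x hx y hy hd => (inv_mul_eq_one.mp (W.inter_dCore (mul_mem (inv_mem hy.1) hx.1) hd)).symm)
    fun x hx hxa => by
      obtain ⟨l, hl, d, hd, e⟩ := W.inner_decomp (hall x hx)
      exact ⟨l, ⟨hl, W.commute_a hd (e.symm ▸ hxa)⟩, d, hd, e⟩).1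
  have e : ∀ w, {x ∈ inT L a | x * x = w} = inSet L a w := fun w => by
    ext x
    simp [inT, inSet, and_assoc]
  rw [e, e] at h
  obtain ⟨h1, h2⟩ := S.roots W.inv W.zc_mem.2
  unfold inSet at h
  omega

/-- A Sylow subgroup lies in the centraliser and contains an outer element. -/
theorem exists_sylow : ∃ P : Sylow 2 G, (∀ p ∈ (P : Subgroup G), Commute p (z * z)) ∧
    ∃ e ∈ (P : Subgroup G), ¬ Inner L e := by
  classical
  haveI : Fact (Nat.Prime 2) := ⟨Nat.prime_two⟩
  set C : Subgroup G := centralizer ({z * z} : Set G) with hCdef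
  have hC : ∀ {x : G}, x ∈ C ↔ Commute x (z * z) := fun {x} => mem_centralizer_singleton_iff
  obtain ⟨P₀⟩ := (inferInstance : Nonempty (Sylow 2 C))
  set T : Subgroup G := (P₀ : Subgroup C).map C.subtype with hT
  have hTC : T ≤ C := map_subtype_le _
  have hT2 : IsPGroup 2 T := P₀.2.map _
  have hmax : ∀ Q : Subgroup G, IsPGroup 2 Q → Q ≤ C → T ≤ Q → Q = T := by
    intro Q hQ hQC hTQ
    have := P₀.3 (Q := Q.subgroupOf C) hQ.comap_subtype fun x hx => hTQ ⟨x, hx, rfl⟩
    rw [hT, ← this, subgroupOf_map_subtype, inf_eq_left.mpr hQC]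
  -- an outer element of two-power order
  obtain ⟨e, heT, heout⟩ : ∃ e ∈ T, ¬ Inner L e := by
    by_contra hno
    push Not at hno
    obtain ⟨x, hx, hxout⟩ := W.exists_outer
    let I : Subgroup C := (innerSub L).subgroupOf C
    haveI : I.Normal := ⟨fun n hn g => by
      show Inner L ((g : G) * (n : G) * (g : G)⁻¹)
      exact S.conj_inner (hC.mp g.2) hn⟩
    have hle : (P₀ : Subgroup C) ≤ I := fun y hy => hno _ ⟨y, hy, rfl⟩
    have h2 : orderOf (QuotientGroup.mk' I ⟨x, hC.mpr hx⟩) = 2 := by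
      refine orderOf_eq_prime ?_ fun e => hxout ((QuotientGroup.eq_one_iff _).mp e)
      rw [pow_two, ← map_mul]
      exact (QuotientGroup.eq_one_iff _).mpr (S.sq_inner hx)
    exact P₀.not_dvd_index (((h2 ▸ orderOf_dvd_natCard _) : 2 ∣ I.index).trans (index_dvd_of_le hle))
  have htT : z * z ∈ T := by
    let Z : Subgroup G := zpowers (z * z)
    have hZ2 : IsPGroup 2 Z := IsPGroup.of_card (n := 1) (by rw [Nat.card_zpowers, S.t_ord, pow_one])
    have hnorm : Z ≤ normalizer (T : Set G) := by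
      refine zpowers_le.mpr (mem_normalizer_iff.mpr fun q => ⟨fun hq => ?_, fun hq => ?_⟩)
      · rwa [← (hC.mp (hTC hq)).eq, mul_inv_cancel_right]
      · have h1 : Commute (z * z * q * (z * z)⁻¹) (z * z) := hC.mp (hTC hq)
        have h2 : q = z * z * q * (z * z)⁻¹ := by
          calc q = (z * z)⁻¹ * (z * z * q * (z * z)⁻¹ * (z * z)) := by group
            _ = (z * z)⁻¹ * (z * z * (z * z * q * (z * z)⁻¹)) := by rw [h1.eq]
            _ = _ := by simp [mul_assoc]
        rwa [← h2] at hq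
    have hsup : IsPGroup 2 (T ⊔ Z : Subgroup G) := hT2.to_sup_of_normal_left' hZ2 hnorm
    rw [← hmax _ hsup (sup_le hTC (zpowers_le.mpr (hC.mpr (Commute.refl _)))) le_sup_left]
    exact mem_sup_right (mem_zpowers _)
  obtain ⟨P, hTP⟩ := hT2.exists_le_sylow
  haveI : Nontrivial (P : Subgroup G) :=
    ⟨⟨1, one_mem _⟩, ⟨z * z, hTP htT⟩, fun e => S.t_ne (congrArg Subtype.val e).symm⟩
  haveI := P.2.center_nontrivial
  obtain ⟨c, hc⟩ := exists_prime_orderOf_dvd_card' 2 (G := center (P : Subgroup G)) (by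
    obtain ⟨n, hn⟩ := IsPGroup.iff_card.mp (P.2.to_subgroup (center (P : Subgroup G)))
    rw [hn]
    refine dvd_pow_self 2 fun h0 => ?_
    rw [h0, pow_zero] at hn
    exact (Finite.one_lt_card).ne' hn)
  set w : G := ((c : (P : Subgroup G)) : G) with hw
  have hwP : ∀ p ∈ (P : Subgroup G), Commute p w := fun p hp =>
    congrArg Subtype.val (mem_center_iff.mp c.2 ⟨p, hp⟩)
  have hwo : orderOf w = 2 := by rw [hw, orderOf_coe, orderOf_coe, hc]
  have hw2 : w * w = 1 := by rw [← pow_two, ← hwo, pow_orderOf_eq_one]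
  have hw1 : w ≠ 1 := fun e => by rw [e, orderOf_one] at hwo; omega
  have hwT : w ∈ T := by
    have hsup : (P : Subgroup G) ⊓ C = T := hmax _ (P.2.to_le inf_le_left) inf_le_right (le_inf hTP hTC)
    rw [← hsup]
    exact ⟨(c : (P : Subgroup G)).2, hC.mpr (hwP _ (hTP htT)).symm⟩
  -- choose the extension containing the central involution of the Sylow subgroup
  obtain ⟨e, heT, heout, hwe⟩ : ∃ e ∈ T, ¬ Inner L e ∧ w ∈ ext L e := by
    by_cases hwi : Inner L w
    · exact ⟨e, heT, heout, le_ext e (W.inner_invol_mem hwi hw2)⟩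
    · exact ⟨w, hwT, hwi, mem_ext_self w⟩
  have het : Commute e (z * z) := hC.mp (hTC heT)
  have he2 : e * e ∈ L := by
    obtain ⟨n, hn⟩ := hT2 ⟨e, heT⟩
    refine W.inner_two_mem (S.sq_inner het) (n := n) ?_
    have : e ^ 2 ^ n = 1 := congrArg Subtype.val hn
    rw [(Commute.refl e).mul_pow, this, one_mul]
  obtain ⟨D, ⟨E⟩⟩ := S.exists_loc het he2 heout
  have hwt : w = z * z := by
    refine E.zs_center (W.kind0 E).1 (T := T ⊓ ext L e) inf_le_right (hT2.to_le inf_le_left) (fun Q hQE hQ => ?_)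
      hwe hw2 hw1 fun p hp => hwP p (hTP hp.1)
    have h2 := S.ext_index het he2 heout
    have hQi : L.relIndex Q ≤ 2 := h2 ▸ relIndex_le_of_le_right hQE (by rw [h2]; norm_num)
    have hTi : L.relIndex (T ⊓ ext L e) = 2 := by
      have h1 := h2 ▸ relIndex_le_of_le_right (inf_le_right : T ⊓ ext L e ≤ ext L e) (by rw [h2]; norm_num : L.relIndex (ext L e) ≠ 0)
      have h0 : L.relIndex (T ⊓ ext L e) ≠ 1 := fun h => heout (inner_of_mem (relIndex_eq_one.mp h ⟨heT, mem_ext_self e⟩))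
      have h3 : L.relIndex (T ⊓ ext L e) ≠ 0 := index_ne_zero_of_finite
      omega
    have key : ∀ R : Subgroup G, L.relIndex R * Nat.card ↥(R ⊓ L) = Nat.card R := fun R => by
      rw [mul_comm, ← CfsgLib.card_mul_relIndex (inf_le_left : R ⊓ L ≤ R), inf_relIndex_left]
    have hcl : Nat.card ↥(Q ⊓ L) ≤ Nat.card ↥(T ⊓ ext L e ⊓ L) := by
      have hQC : Q ⊓ L ≤ C := fun x hx => hC.mpr (S.comm_mem hx.2)
      obtain ⟨Q', hQ'⟩ := (((hQ.to_le inf_le_left : IsPGroup 2 ↥(Q ⊓ L))).comap_subtype (K := C)).exists_le_sylow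
      obtain ⟨g, hg⟩ := MulAction.exists_smul_eq C Q' P₀
      refine Nat.card_le_card_of_injective (fun x => ⟨(g : G) * (x : G) * (g : G)⁻¹, ?_⟩) fun x y exy =>
        Subtype.ext (mul_left_cancel (mul_right_cancel (congrArg Subtype.val exy)))
      have hmem : g * ⟨(x : G), hQC x.2⟩ * g⁻¹ ∈ (P₀ : Subgroup C) := by
        rw [← hg, Sylow.coe_subgroup_smul]
        exact Subgroup.smul_mem_pointwise_smul (⟨(x : G), hQC x.2⟩ : C) (MulAut.conj g) _ (hQ' x.2)
      have hL := S.conj_mem (hC.mp g.2) x.2.2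
      exact ⟨⟨⟨_, hmem, rfl⟩, le_ext e hL⟩, hL⟩
    rw [← key Q, ← key (T ⊓ ext L e), hTi]
    exact Nat.mul_le_mul hQi hcl
  refine ⟨P, fun p hp => hwt ▸ hwP p hp, e, hTP heT, heout⟩

/-- An outer involution is fused if it lies outside a subgroup of index two with inner involutions. -/
theorem fused_outer [IsSimpleGroup G] (Q : Subgroup G)
    (hidx : ∀ p q : G, Commute p (z * z) → Commute q (z * z) → p ∉ Q → q ∉ Q → p * q ∈ Q)
    (hQ : ∀ w ∈ Q, Commute w (z * z) → w * w = 1 → Inner L w) {x : G} (hx : Commute x (z * z)) (h2 : x * x = 1)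
    (hxQ : x ∉ Q) : Fused z x := by
  classical
  haveI : Fact (Nat.Prime 2) := ⟨Nat.prime_two⟩
  obtain ⟨P, hP, -⟩ := W.exists_sylow
  set C : Subgroup G := centralizer ({z * z} : Set G)
  have hC : ∀ {x : G}, x ∈ C ↔ Commute x (z * z) := fun {x} => mem_centralizer_singleton_iff
  have h1 : x ≠ 1 := fun e => hxQ (e ▸ one_mem Q)
  have hx' : IsPGroup 2 (zpowers (⟨x, hC.mpr hx⟩ : C)) := IsPGroup.of_card (n := 1) (by
    rw [Nat.card_zpowers, pow_one, Subgroup.orderOf_mk]
    exact orderOf_eq_prime (by rw [pow_two, h2]) h1)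
  obtain ⟨R, hR⟩ := hx'.exists_le_sylow
  obtain ⟨g, hg⟩ := MulAction.exists_smul_eq C R (P.subtype fun p hp => hC.mpr (hP p hp))
  have hy : (g : G) * x * (g : G)⁻¹ ∈ (P : Subgroup G) := by
    have h : g * ⟨x, hC.mpr hx⟩ * g⁻¹ ∈ ((P.subtype fun p hp => hC.mpr (hP p hp) : Sylow 2 C) : Subgroup C) := by
      rw [← hg, Sylow.coe_subgroup_smul]
      exact Subgroup.smul_mem_pointwise_smul (⟨x, hC.mpr hx⟩ : C) (MulAut.conj g) _ (hR (mem_zpowers _))
    exact h
  set y := (g : G) * x * (g : G)⁻¹ with hy'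
  have hy2 : y * y = 1 := by rw [hy', show (g : G) * x * (g : G)⁻¹ * ((g : G) * x * (g : G)⁻¹) = g * (x * x) * (g : G)⁻¹ by group, h2]; group
  have hy1 : y ≠ 1 := fun e => h1 (conj_eq_one_iff.mp e)
  suffices Fused z y by
    obtain ⟨k, hk⟩ := this
    exact ⟨(g : G)⁻¹ * k, by
      rw [show (g : G)⁻¹ * k * (z * z) * ((g : G)⁻¹ * k)⁻¹ = (g : G)⁻¹ * (k * (z * z) * k⁻¹) * g by group, hk, hy']
      group⟩
  by_cases hyQ : y ∈ Q
  · exact W.fused_inner (hQ _ hyQ (hP _ hy) hy2) hy2 hy1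
  have hQi : ((P : Subgroup G) ⊓ Q).relIndex (P : Subgroup G) = 2 := by
    rw [relIndex, index_eq_two_iff]
    refine ⟨⟨y, hy⟩, fun b => ?_⟩
    simp only [mem_subgroupOf, Subgroup.coe_mul, mem_inf, mul_mem b.2 hy, b.2, true_and]
    by_cases hb : (b : G) ∈ Q
    · exact .inr ⟨hb, fun h => hyQ ((Q.mul_mem_cancel_left hb).mp h)⟩
    · exact .inl ⟨hidx _ _ (hP _ b.2) (hP _ hy) hb hyQ, hb⟩
  have hG2 : ∀ M : Subgroup G, M.Normal → M.index ≠ 2 := by
    intro M hM hi
    rcases IsSimpleGroup.eq_bot_or_eq_top_of_normal M hM with e | e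
    · rw [e, index_bot] at hi
      have h4 : orderOf z ∣ Nat.card G := orderOf_dvd_natCard z
      rw [S.z_ord, hi] at h4
      omega
    · rw [e, index_top] at hi; omega
  obtain ⟨k, hk, -⟩ := CfsgLib.TransferExtremal.exists_conj hG2 P _ inf_le_left hQi y (by rw [pow_two]; exact hy2)
  exact W.fused_of_conj hy2 hy1 (hQ _ hk.2 (hP _ hk.1)
    (by rw [show k * y * k⁻¹ * (k * y * k⁻¹) = k * (y * y) * k⁻¹ by group, hy2]; group))

/-- The outer elements form one coset. -/
theorem index_two [IsSimpleGroup G] {x x' : G} (hx : Commute x (z * z)) (hx' : Commute x' (z * z))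
    (h1 : ¬ Inner L x) (h2 : ¬ Inner L x') : Inner L (x * x') := by
  by_contra hne
  have h3 : ¬ Inner L (x'⁻¹ * x) := fun h' => hne (by
    rw [show x * x' = x * x * (x'⁻¹ * x)⁻¹ by group]
    exact (S.sq_inner hx).mul h'.inv)
  obtain ⟨hall, hdiff⟩ := W.exists_types hx hx' h1 h2 h3
  obtain ⟨D₀, C₀, P₀, i₀⟩ := hall 0 (by norm_num)
  obtain ⟨D₁, C₁, P₁, i₁⟩ := hall 1 (by norm_num)
  obtain ⟨D₂, C₂, P₂, i₂⟩ := hall 2 (by norm_num)
  obtain ⟨hc₀, hz₀, hvar⟩ : TypeP D₀ D₀.K := by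
    rcases (W.kind0 P₀).2 with h | h | h
    exacts [h, absurd h.1 (by omega), absurd h.1 (by omega)]
  obtain ⟨hc₁, hz₁, hu₁⟩ : TypeU D₁ D₁.K := by
    rcases (W.kind0 P₁).2 with h | h | h
    exacts [absurd h.1 (by omega), h, absurd h.1 (by omega)]
  obtain ⟨hc₂, hz₂, hu₂, hvar₂⟩ : TypeG D₂ D₂.K := by
    rcases (W.kind0 P₂).2 with h | h | h
    exacts [absurd h.1 (by omega), absurd h.1 (by omega), h]
  set T : Set G := inT L a ∪ outT L C₀ a ∪ outT L C₁ a ∪ outT L C₂ a with hT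
  have hTin : ∀ {x : G}, x ∈ T → x ∈ inT L a ∨ x ∈ outT L C₀ a ∨ x ∈ outT L C₁ a ∨ x ∈ outT L C₂ a := fun hx => by
    rcases hx with ((h | h) | h) | h
    exacts [.inl h, .inr (.inl h), .inr (.inr (.inl h)), .inr (.inr (.inr h))]
  have mix : ∀ {D D' : FData} {C C' : Subgroup G} (P : Loc S D C) (P' : Loc S D' C') {u v : G},
      u ∈ outT L C a → v ∈ outT L C' a → v⁻¹ * u ∈ dCore L h → D.c.2.1 ≠ D'.c.2.1 → False := by
    intro D D' C C' P P' u v hu hv hd hne
    refine hdiff P P' hne ?_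
    have h1 := P.same_coset hu.1 P.y_mem hu.2.1 P.y_out
    have h2 := P'.same_coset hv.1 P'.y_mem hv.2.1 P'.y_out
    have := (h2.mul (W.dCore_inner hd)).mul h1.inv
    rwa [show P'.y⁻¹ * v * (v⁻¹ * u) * (P.y⁻¹ * u)⁻¹ = P'.y⁻¹ * P.y by group] at this
  have mixin : ∀ {u v : G}, Inner L v → ¬ Inner L u → (v⁻¹ * u ∈ dCore L h ∨ u⁻¹ * v ∈ dCore L h) → False := by
    intro u v hv hu hd
    refine hu ((Inner.mul_iff_right hv.inv).mp (hd.elim W.dCore_inner fun h' => ?_))
    simpa using (W.dCore_inner h').inv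
  have key := W.transfer_roots T
    (fun x hx => by
      rcases hTin hx with h | h | h | h
      exacts [W.inT_spec h, W.outT_spec P₀ h, W.outT_spec P₁ h, W.outT_spec P₂ h])
    (fun u hu v hv hd => by
      rcases hTin hu with hu | hu | hu | hu <;> rcases hTin hv with hv | hv | hv | hv
      exacts [(inv_mul_eq_one.mp (W.inter_dCore (mul_mem (inv_mem hv.1) hu.1) hd)).symm,
        (mixin (inner_of_mem hu.1) hv.2.1 (.inr hd)).elim, (mixin (inner_of_mem hu.1) hv.2.1 (.inr hd)).elim,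
        (mixin (inner_of_mem hu.1) hv.2.1 (.inr hd)).elim,
        (mixin (inner_of_mem hv.1) hu.2.1 (.inl hd)).elim, W.ext_unique P₀ hu.1 hv.1 hd,
        (mix P₀ P₁ hu hv hd (by omega)).elim, (mix P₀ P₂ hu hv hd (by omega)).elim,
        (mixin (inner_of_mem hv.1) hu.2.1 (.inl hd)).elim, (mix P₁ P₀ hu hv hd (by omega)).elim,
        W.ext_unique P₁ hu.1 hv.1 hd, (mix P₁ P₂ hu hv hd (by omega)).elim,
        (mixin (inner_of_mem hv.1) hu.2.1 (.inl hd)).elim, (mix P₂ P₀ hu hv hd (by omega)).elim,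
        (mix P₂ P₁ hu hv hd (by omega)).elim, W.ext_unique P₂ hu.1 hv.1 hd])
    (fun u hu hua => by
      by_cases hin : Inner L u
      · obtain ⟨l, hl, d, hd, e⟩ := W.inner_decomp hin
        exact ⟨l, .inl (.inl (.inl ⟨hl, W.commute_a hd (e.symm ▸ hua)⟩)), d, hd, e⟩
      obtain ⟨i, hi, hco⟩ := W.mem_some_coset hall hu hin
      have fin : ∀ {D : FData} {C : Subgroup G} (P : Loc S D C), D.c.2.1 = i → outT L C a ⊆ T →
          ∃ r ∈ T, ∃ d ∈ dCore L h, r * d = u := fun P hc hsub => by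
        obtain ⟨w, hw, ho, d, hd, e⟩ := W.coset_form P (hco P hc)
        exact ⟨w, hsub ⟨hw, ho, W.commute_a hd (e.symm ▸ hua)⟩, d, hd, e⟩
      rcases (show i = 0 ∨ i = 1 ∨ i = 2 by omega) with rfl | rfl | rfl
      · exact fin P₀ i₀ fun _ h => .inl (.inl (.inr h))
      · exact fin P₁ i₁ fun _ h => .inl (.inr h)
      · exact fin P₂ i₂ fun _ h => .inr h)
  obtain ⟨r1, r2⟩ := S.roots W.inv W.zc_mem.2
  change (inSet L a (z * z)).ncard = 24 at r1
  change (inSet L a a).ncard = 8 at r2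
  have hu₁' : (outSet L C₁ a a).ncard ≤ 16 := by
    rw [P₁.outRoots_a W.inv]; simpa [Nat.ble_eq] using hu₁
  have hu₂' : (outSet L C₂ a a).ncard = 0 := by
    rw [P₂.outRoots_a W.inv]; exact Nat.eq_of_beq_eq_true hu₂
  have sub : ∀ {q : G → Prop}, {x ∈ T | x * x = a ∧ q x} ⊆
      inSet L a a ∪ {x ∈ outSet L C₀ a a | q x} ∪ outSet L C₁ a a ∪ outSet L C₂ a a := by
    intro q x hx
    rcases hTin hx.1 with h | h | h | h
    · exact .inl (.inl (.inl ⟨h.1, h.2, hx.2.1⟩))
    · exact .inl (.inl (.inr ⟨⟨h.1, h.2.1, h.2.2, hx.2.1⟩, hx.2.2⟩))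
    · exact .inl (.inr ⟨h.1, h.2.1, h.2.2, hx.2.1⟩)
    · exact .inr ⟨h.1, h.2.1, h.2.2, hx.2.1⟩
  have upper : ∀ {q : G → Prop} {n : ℕ}, {x ∈ outSet L C₀ a a | q x}.ncard ≤ n →
      {x ∈ T | x * x = a ∧ q x}.ncard ≤ 8 + n + 16 := by
    intro q n hn
    refine (Set.ncard_le_ncard (sub) (Set.toFinite _)).trans ?_
    have b1 := Set.ncard_union_le (inSet L a a) {x ∈ outSet L C₀ a a | q x}
    have b2 := Set.ncard_union_le (inSet L a a ∪ {x ∈ outSet L C₀ a a | q x}) (outSet L C₁ a a)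
    have b3 := Set.ncard_union_le (inSet L a a ∪ {x ∈ outSet L C₀ a a | q x} ∪ outSet L C₁ a a) (outSet L C₂ a a)
    omega
  have disj : ∀ {C : Subgroup G} {w : G}, (inSet L a w ∪ outSet L C a w).ncard =
      (inSet L a w).ncard + (outSet L C a w).ncard := fun {C w} =>
    Set.ncard_union_eq (Set.disjoint_left.mpr fun x h1 h2 => h2.2.1 (inner_of_mem h1.1)) (Set.toFinite _) (Set.toFinite _)
  rcases hvar with ⟨ht₀, hu₀, hcand⟩ | ⟨hu₀, hno₀⟩
  · obtain ⟨hzL, -⟩ := W.zc_mem
    obtain ⟨-, hsq, -, hN⟩ := W.zc_facts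
    have hlow : inSet L a (z * z) ∪ outSet L C₀ a (z * z) ⊆ {x ∈ T | x * x = z * z ∧ Commute x z} := by
      rintro x (h | h)
      · exact ⟨.inl (.inl (.inl ⟨h.1, h.2.1⟩)), h.2.2, (S.z_cen _ h.1).symm⟩
      · exact ⟨.inl (.inl (.inr ⟨h.1, h.2.1, h.2.2.1⟩)), h.2.2.2, (P₀.z_iff h.1 h.2.1).mpr (P₀.y_z_iff.1 hz₀)⟩
    have h1 := (Set.ncard_le_ncard hlow (Set.toFinite _)).trans key.2
    have h2 := upper (q := fun x => Commute x (h * z * h⁻¹)) (n := 8) (P₀.candRoots_le W.inv hzL hsq hN hcand)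
    rw [disj, r1, P₀.outRoots_t W.inv, Nat.eq_of_beq_eq_true ht₀] at h1
    omega
  · rcases hvar₂ with ⟨hno₂, ht₂⟩ | ⟨hne₂, hgr, hcert⟩
    · have hlow : inSet L a (z * z) ∪ outSet L C₂ a (z * z) ⊆ {x ∈ T | x * x = z * z} := by
        rintro x (h | h)
        · exact ⟨.inl (.inl (.inl ⟨h.1, h.2.1⟩)), h.2.2⟩
        · exact ⟨.inr ⟨h.1, h.2.1, h.2.2.1⟩, h.2.2.2⟩
      have h1 := (Set.ncard_le_ncard hlow (Set.toFinite _)).trans key.1
      have h2 := upper (q := fun _ => True) (n := 0) (by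
        refine (Set.ncard_le_ncard (fun x hx => hx.1) (Set.toFinite _)).trans ?_
        rw [P₀.outRoots_a W.inv, Nat.eq_of_beq_eq_true hu₀])
      simp only [and_true] at h2
      rw [disj, r1, P₂.outRoots_t W.inv, Nat.eq_of_beq_eq_true ht₂] at h1
      omega
    · obtain ⟨O, hO⟩ : ∃ O, O ∈ D₂.outs := by
        cases hl : D₂.outs with
        | nil => simp [hl] at hne₂
        | cons O _ => exact ⟨O, List.mem_cons_self ..⟩
      obtain ⟨hx2, hxout⟩ := P₂.rep_facts hO
      set v := ((P₂.E.cd.v O.rep : C₂) : G) with hv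
      have hvC : v ∈ C₂ := (P₂.E.cd.v O.rep).2
      have hvz : ¬ Commute v z := fun h => P₂.y_z_iff.2 hz₂ ((P₂.z_iff hvC hxout).mp h)
      refine W.graph_false P₂ hgr hcert hvC hx2 hxout (W.fused_outer (centralizer ({z} : Set G)) ?_ ?_
        (P₂.comm v hvC) hx2 fun h => hvz (mem_centralizer_singleton_iff.mp h))
      · intro p q hp hq hpz hqz
        exact mem_centralizer_singleton_iff.mpr (S.inv_mul_z hp hq (fun h => hpz (mem_centralizer_singleton_iff.mpr h))
          fun h => hqz (mem_centralizer_singleton_iff.mpr h))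
      · intro w hwz hwt hw2
        have hwz' : Commute w z := mem_centralizer_singleton_iff.mp hwz
        by_contra hwo
        obtain ⟨i, hi, hco⟩ := W.mem_some_coset hall hwt hwo
        have out : ∀ {D : FData} {C : Subgroup G} (P : Loc S D C), D.c.2.1 = i → zInvChk D.K = true → False :=
          fun P hc hzi => by
            obtain ⟨u, hu, huo, d, hd, e⟩ := W.coset_form P (hco P hc)
            refine P.y_z_iff.2 hzi ((P.z_iff hu huo).mp ?_)
            rw [show u = w * d⁻¹ by rw [← e]; group]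
            exact hwz'.mul_left (W.z_commute_dCore hd).inv_left
        rcases (show i = 0 ∨ i = 1 ∨ i = 2 by omega) with rfl | rfl | rfl
        · obtain ⟨u, hu, huo, d, hd, e⟩ := W.coset_form P₀ (hco P₀ i₀)
          refine huo (P₀.no_invol hu ?_ hno₀)
          refine (W.decomp_unique (P₀.sq_mem hu) (one_mem L)
            (mul_mem (W.dCore_conj (P₀.comm u hu).inv_left hd) hd) (one_mem _) ?_).1
          rw [one_mul, ← hw2, ← e]; group
        · exact out P₁ i₁ hz₁
        · exact out P₂ i₂ hz₂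

/-- All involutions of the centraliser are fused. -/
theorem all_fused [IsSimpleGroup G] {x : G} (hx : Commute x (z * z)) (h2 : x * x = 1) (h1 : x ≠ 1) : Fused z x := by
  by_cases hin : Inner L x
  · exact W.fused_inner hin h2 h1
  · exact W.fused_outer (innerSub L) (fun p q hp hq hp' hq' => W.index_two hp hq hp' hq') (fun w hw _ _ => hw) hx h2 hin

end IsSwap

end CfsgLib.StdON
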