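import Cfsg.Agent.Lib.StdON.Model
import Cfsg.Agent.Lib.StdON.Chk.I0
import Cfsg.Agent.Lib.StdON.Chk.C110
import Cfsg.Agent.Lib.ONRecog.Fusion

/-!
Facts on the involutions of 4.L₃(4).
-/

set_option autoImplicit false
set_option maxHeartbeats 800000
set_option linter.unusedSectionVars false
set_option linter.style.haveILetI false

namespace CfsgLib.StdON

open Subgroup CfsgON CfsgPC
open CfsgLib.StemSylow.PlaneFour
open scoped Pointwise

universe u

attribute [local irreducible] pGens xGens zWords gsX fd010 fd110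

section Defs

variable {H : Type u} [Group H]

/-- An involution other than the central one. -/
def Inv (z a : H) : Prop := a * a = 1 ∧ a ≠ 1 ∧ a ≠ z * z

/-- The centraliser of the involution moves the element at most to its product with the involution. -/
def Norm (a r : H) : Prop := ∀ h : H, Commute h a → h * r * h⁻¹ = r ∨ h * r * h⁻¹ = r * a

/-- The facts on the involutions, at one of them. -/
structure LFacts0 (z : H) (o : ℕ) : Prop where
  sq_ne : ∀ x : H, x * x ≠ z ∧ x * x ≠ z * z * z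
  conj : ∀ a b : H, Inv z a → Inv z b → ∃ l : H, l * a * l⁻¹ = b
  base : ∃ a : H, Inv z a ∧ (∃ p q : H, Commute p a ∧ Commute q a ∧ p * q * p⁻¹ * q⁻¹ = z * z) ∧
    (∀ r : H, Commute r a → r * r = 1 → (∀ h, Commute h a → Commute r h) →
      r = 1 ∨ r = z * z ∨ r = a ∨ r = a * (z * z)) ∧
    (∀ r : H, Commute r a → r ^ 4 ≠ a ∧ r ^ 4 ≠ a * (z * z)) ∧
    (∀ r : H, Commute r a → r ^ 8 = 1) ∧
    (∀ r : H, Commute r a → (r * r = a * z ∨ r * r = a * (z * z * z)) → ¬ Norm a r) ∧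
    (o = 1 → ∀ r : H, r * r = a → ¬ Norm a r) ∧
    (o = 0 → {r : H | Commute r a ∧ r * r = z * z}.ncard = 24 ∧ {r : H | Commute r a ∧ r * r = a}.ncard = 8)

theorem Inv.conj {z a : H} (hz : ∀ h : H, Commute h z) (ha : Inv z a) (l : H) : Inv z (l * a * l⁻¹) := by
  obtain ⟨h1, h2, h3⟩ := ha
  refine ⟨by rw [show l * a * l⁻¹ * (l * a * l⁻¹) = l * (a * a) * l⁻¹ by group, h1]; group,
    fun e => h2 (conj_eq_one_iff.mp e), fun e => h3 ?_⟩
  calc a = l⁻¹ * (l * a * l⁻¹) * l := by group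
    _ = l⁻¹ * (z * z) * l := by rw [e]
    _ = z * z := by rw [mul_assoc, ((hz l).mul_right (hz l)).symm.eq, inv_mul_cancel_left]

theorem Norm.conj {a r : H} (h : Norm a r) (l : H) : Norm (l * a * l⁻¹) (l * r * l⁻¹) := fun x hx => by
  have hx' : Commute (l⁻¹ * x * l) a := by
    have := hx.conj l⁻¹
    simpa [mul_assoc] using this
  rcases h _ hx' with e | e
  · left
    calc x * (l * r * l⁻¹) * x⁻¹ = l * (l⁻¹ * x * l * r * (l⁻¹ * x * l)⁻¹) * l⁻¹ := by group
      _ = l * r * l⁻¹ := by rw [e]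
  · right
    calc x * (l * r * l⁻¹) * x⁻¹ = l * (l⁻¹ * x * l * r * (l⁻¹ * x * l)⁻¹) * l⁻¹ := by group
      _ = l * r * l⁻¹ * (l * a * l⁻¹) := by rw [e]; group

end Defs

variable {H : Type u} [Group H] [Finite H] {Γ : Type u} [Group Γ] [Finite Γ] {z : H} {φ : PC →* H}
variable {D : FData} (hD : D.Good) (E : Emb Γ z φ D.c)

namespace Emb

include E hD

/-- A subgroup of two-power order is conjugate into the listed Sylow subgroup. -/
theorem exists_conj_syl (Q : Subgroup Γ) (hQ : IsPGroup 2 Q) :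
    ∃ g : Γ, ∀ x ∈ Q, ∃ i < 512, E.cd.v (D.s i) = g * x * g⁻¹ := by
  classical
  haveI : Fact (Nat.Prime 2) := ⟨Nat.prime_two⟩
  obtain ⟨hcard, hmem⟩ := FData.sylSub_spec hD E.cd
  have hΓ : Nat.card Γ = 161280 := by
    rw [← card_top (G := Γ), ← E.top]; exact E.cd.card
  have hS : IsPGroup 2 (FData.sylSub E.cd) := IsPGroup.of_card (n := 9) (hcard.trans (by norm_num))
  have hidx : ¬ 2 ∣ (FData.sylSub E.cd).index := by
    have h := (FData.sylSub E.cd).card_mul_index
    rw [hcard, hΓ] at h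
    omega
  let P : Sylow 2 Γ := hS.toSylow hidx
  obtain ⟨T, hT⟩ := hQ.exists_le_sylow
  obtain ⟨g, hg⟩ := MulAction.exists_smul_eq Γ T P
  refine ⟨g, fun x hx => (hmem _).mp ?_⟩
  have h1 : g * x * g⁻¹ ∈ (P : Subgroup Γ) := by
    rw [← hg, Sylow.coe_subgroup_smul]
    exact Subgroup.smul_mem_pointwise_smul x (MulAut.conj g) _ (hT hx)
  exact h1

theorem range_normal (hout : (outR D).isEmpty = false) : E.ι.range.Normal := by
  refine normal_of_index_eq_two ?_
  rw [index_eq_two_iff]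
  obtain ⟨q, hq⟩ := List.exists_mem_of_ne_nil (outR D) (fun h => by rw [h] at hout; exact Bool.noConfusion hout)
  refine ⟨E.cd.v q, fun g => ?_⟩
  obtain ⟨s, hs, rfl⟩ := E.exists_word g
  have hq' := E.ok_r hD (mem_outR hq).1
  rw [← E.cd.v_append hs hq', E.mem_range_iff (okW_append.mpr ⟨hs, hq'⟩), E.mem_range_iff hs, parW_append,
    (mem_outR hq).2]
  cases parW s <;> simp [Xor']

/-- Conjugating one inner involution to the representative by an inner element. -/
theorem exists_conj_u (hout : (outR D).isEmpty = false) {a b : H} (hb : E.ι b = E.cd.v D.u) (ha : Inv z a) :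
    ∃ l : H, l * a * l⁻¹ = b := by
  obtain ⟨h1, h2, h3⟩ := ha
  obtain ⟨w, hw, r, hr, e⟩ := FData.classes hD E.cd (E.mem_cent _) (s := E.ι a) (by rw [← map_mul, h1, map_one])
    (fun e => h2 (E.inj (e.trans (map_one _).symm))) (fun e => h3 (E.inj e))
  have hu : r = D.u := by
    rcases List.mem_cons.mp hr with h | h
    · exact h
    · obtain ⟨o', ho', rfl⟩ := List.mem_map.mp h
      refine absurd ?_ (FData.out_spec hD E.cd ho').1
      rw [← e, ← E.range]
      exact (E.range_normal hD hout).conj_mem _ ⟨a, rfl⟩ _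
  rw [hu, ← hb] at e
  by_cases hin : E.cd.v w ∈ E.ι.range
  · obtain ⟨l, hl⟩ := hin
    exact ⟨l, E.inj (by rw [map_mul, map_mul, map_inv, hl, e])⟩
  · obtain ⟨q, hq⟩ := List.exists_mem_of_ne_nil (outR D) (fun h => by rw [h] at hout; exact Bool.noConfusion hout)
    have hq' := E.ok_r hD (mem_outR hq).1
    obtain ⟨l, hl⟩ := (E.mem_range_iff (okW_append.mpr ⟨hq', hw⟩)).mpr (by
      rw [parW_append, (mem_outR hq).2]
      cases hp : parW w with
      | false => rfl
      | true => exact absurd ((E.mem_range_iff hw).mpr hp) hin)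
    refine ⟨l, E.inj ?_⟩
    rw [map_mul, map_mul, map_inv, hl, E.cd.v_append hq' hw,
      show E.cd.v q * E.cd.v w * E.ι a * (E.cd.v q * E.cd.v w)⁻¹ =
        E.cd.v q * (E.cd.v w * E.ι a * (E.cd.v w)⁻¹) * (E.cd.v q)⁻¹ by group, e, hb,
      (E.comm_u hD (mem_outR hq).1).eq, mul_inv_cancel_right]

/-- The outer letter inverts the generator of the centre, hence every element sends it to itself or its inverse. -/
theorem conj_z_cases (hi : zInvChk D.K = true) (hz : ∀ h : H, Commute h z) (h4 : z ^ 4 = 1) (g : Γ) :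
    g * E.ι z * g⁻¹ = E.ι z ∨ g * E.ι z * g⁻¹ = E.ι (z * z * z) := by
  simp only [zInvChk, Bool.and_eq_true] at hi
  have h2 : okW [2] = true := okW_single (by norm_num)
  have hzz : okW (zW ++ zW ++ zW) = true := okW_append.mpr ⟨okW_append.mpr ⟨okW_zW, okW_zW⟩, okW_zW⟩
  have hy : E.cd.v [2] * E.ι z = E.ι (z * z * z) * E.cd.v [2] := by
    have h := (E.K_eq hD (okW_append.mpr ⟨h2, okW_zW⟩) (okW_append.mpr ⟨hzz, h2⟩)).mp hi.1
    rwa [E.cd.v_append h2 okW_zW, E.cd.v_append hzz h2, E.cd.v_append (okW_append.mpr ⟨okW_zW, okW_zW⟩) okW_zW,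
      E.cd.v_append okW_zW okW_zW, E.v_zW, ← map_mul, ← map_mul] at h
  obtain ⟨q, hq, rfl⟩ := E.exists_word g
  cases hp : parW q with
  | true =>
    obtain ⟨h, hh⟩ := (E.mem_range_iff hq).mpr hp
    left
    rw [← hh, ((hz h).map E.ι).eq, mul_inv_cancel_right]
  | false =>
    obtain ⟨h, hh⟩ := (E.mem_range_iff (okW_append.mpr ⟨hq, h2⟩)).mpr (by rw [parW_append, hp]; rfl)
    right
    rw [E.cd.v_append hq h2] at hh
    have hy' : (E.cd.v [2])⁻¹ * E.ι z * E.cd.v [2] = E.ι (z * z * z) := by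
      rw [show z * z * z = z ^ 3 by simp [pow_succ], map_pow] at hy ⊢
      have e : E.cd.v [2] * E.ι z ^ 3 * (E.cd.v [2])⁻¹ = E.ι z := by
        rw [← conj_pow, mul_inv_eq_iff_eq_mul.mpr hy, ← pow_mul, ← map_pow, show 3 * 3 = 4 * 2 + 1 from rfl, pow_succ,
          pow_mul, h4, one_pow, one_mul]
      conv_lhs => rw [← e]
      group
    rw [show E.cd.v q = E.ι h * (E.cd.v [2])⁻¹ by rw [hh, mul_inv_cancel_right],
      show E.ι h * (E.cd.v [2])⁻¹ * E.ι z * (E.ι h * (E.cd.v [2])⁻¹)⁻¹ =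
        E.ι h * ((E.cd.v [2])⁻¹ * E.ι z * E.cd.v [2]) * (E.ι h)⁻¹ by group, hy',
      ((((hz h).mul_right (hz h)).mul_right (hz h)).map E.ι).eq, mul_inv_cancel_right]

theorem sq_ne_of_check (hs : ((List.range 512).all fun i => !parW (D.s i) ||
    (!Nat.beq (D.K (D.s i ++ D.s i)) (D.K zW) && !Nat.beq (D.K (D.s i ++ D.s i)) (D.K (zW ++ zW ++ zW)))) = true)
    (hn : E.ι.range.Normal) (hi : zInvChk D.K = true) (hz : ∀ h : H, Commute h z) (h4 : z ^ 4 = 1) (x : H) :
    x * x ≠ z ∧ x * x ≠ z * z * z := by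
  classical
  haveI : Fact (Nat.Prime 2) := ⟨Nat.prime_two⟩
  suffices main : ∀ w : H, (w = z ∨ w = z * z * z) → x * x ≠ w from ⟨main _ (.inl rfl), main _ (.inr rfl)⟩
  intro w hw hxx
  have h8 : E.ι x ^ 8 = 1 := by
    rw [← map_pow, show 8 = 2 * 4 from rfl, pow_mul, pow_two, hxx]
    rcases hw with rfl | rfl
    · rw [h4, map_one]
    · rw [show z * z * z = z ^ 3 by simp [pow_succ], ← pow_mul, Nat.mul_comm, pow_mul, h4, one_pow, map_one]
  have hP : IsPGroup 2 (zpowers (E.ι x)) := by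
    obtain ⟨k, -, hk⟩ := (Nat.dvd_prime_pow Nat.prime_two).mp
      (show orderOf (E.ι x) ∣ 2 ^ 3 from orderOf_dvd_of_pow_eq_one h8)
    exact IsPGroup.of_card (n := k) (by rw [Nat.card_zpowers, hk])
  obtain ⟨g, hg⟩ := E.exists_conj_syl hD _ hP
  obtain ⟨i, hi', ei⟩ := hg _ (mem_zpowers _)
  have hsi := (FData.ok_s hD hi').1
  have hpar : parW (D.s i) = true := (E.mem_range_iff hsi).mp (ei ▸ hn.conj_mem _ ⟨x, rfl⟩ g)
  have h := List.all_eq_true.mp hs i (List.mem_range.mpr hi')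
  simp only [hpar, Bool.not_true, Bool.false_or, Bool.and_eq_true, Bool.not_eq_true'] at h
  have hzz := okW_append.mpr ⟨okW_append.mpr ⟨okW_zW, okW_zW⟩, okW_zW⟩
  rw [E.K_false hD (okW_append.mpr ⟨hsi, hsi⟩) okW_zW, E.K_false hD (okW_append.mpr ⟨hsi, hsi⟩) hzz,
    E.cd.v_append hsi hsi, E.cd.v_append (okW_append.mpr ⟨okW_zW, okW_zW⟩) okW_zW,
    E.cd.v_append okW_zW okW_zW, E.v_zW, ← map_mul, ← map_mul] at h
  have e : E.cd.v (D.s i) * E.cd.v (D.s i) = g * E.ι w * g⁻¹ := by rw [ei, ← hxx, map_mul]; group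
  rcases hw with rfl | rfl
  · rcases E.conj_z_cases hD hi hz h4 g with c | c
    · exact h.1 (e.trans c)
    · exact h.2 (e.trans c)
  · have e3 : g * E.ι (z * z * z) * g⁻¹ = (g * E.ι z * g⁻¹) ^ 3 := by
      rw [map_mul, map_mul]; simp only [pow_succ, pow_zero, one_mul]; group
    rcases E.conj_z_cases hD hi hz h4 g with c | c
    · refine h.2 (e.trans (e3.trans ?_))
      rw [c, map_mul, map_mul]; simp only [pow_succ, pow_zero, one_mul]
    · refine h.1 (e.trans (e3.trans ?_))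
      rw [c, ← map_pow, show z * z * z = z ^ 3 by simp [pow_succ], ← pow_mul, show 3 * 3 = 4 * 2 + 1 from rfl,
        pow_succ, pow_mul, h4, one_pow, one_mul]

/-- The roots of an element are counted by the list. -/
theorem ncard_roots {a x : H} {w : List ℕ} (ha : E.ι a = E.cd.v D.u) (hw : okW w = true) (hx : E.ι x = E.cd.v w) :
    {r : H | Commute r a ∧ r * r = x}.ncard = inRoots D D.K w := by
  classical
  have hnd := (FData.cent_u hD E.cd).2.2.1
  set F := ((inR D).filter fun r => Nat.beq (D.K (r ++ r)) (D.K w)).map E.cd.v with hF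
  have hFn : F.Nodup := hnd.sublist ((List.filter_sublist.trans List.filter_sublist).map _)
  have e : E.ι '' {r : H | Commute r a ∧ r * r = x} = {g | g ∈ F.toFinset} := by
    ext g
    simp only [Set.mem_image, Set.mem_setOf_eq, hF, List.mem_toFinset, List.mem_map, List.mem_filter]
    constructor
    · rintro ⟨r, ⟨hr, hrr⟩, rfl⟩
      obtain ⟨s, hs, es⟩ := E.exists_inR hD ha hr
      have hs' := E.ok_r hD (mem_inR hs).1
      exact ⟨s, ⟨hs, (E.K_eq hD (okW_append.mpr ⟨hs', hs'⟩) hw).mpr (by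
        rw [E.cd.v_append hs' hs', es, ← map_mul, hrr, hx])⟩, es⟩
    · rintro ⟨s, ⟨hs, hK⟩, rfl⟩
      obtain ⟨r, er, hr⟩ := E.inR_preimage hD ha hs
      have hs' := E.ok_r hD (mem_inR hs).1
      refine ⟨r, ⟨hr, E.inj ?_⟩, er⟩
      rw [map_mul, er, ← E.cd.v_append hs' hs', hx]
      exact (E.K_eq hD (okW_append.mpr ⟨hs', hs'⟩) hw).mp hK
  rw [← Set.ncard_image_of_injective _ E.inj, e, show {g | g ∈ F.toFinset} = (↑F.toFinset : Set Γ) from rfl,
    Set.ncard_coe_finset,
    List.toFinset_card_of_nodup hFn, hF, List.length_map]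
  rfl

/-- All the facts, from the checks on one table. -/
theorem lfacts {o : ℕ} (hout : (outR D).isEmpty = false) (hin : innerChk D D.K = true)
    (hcnt : o = 0 → inCountChk D D.K = true) (hno : o = 1 → noCandChk D D.K = true) (hi : zInvChk D.K = true)
    (hz : ∀ h : H, Commute h z) (h4 : z ^ 4 = 1) : LFacts0 z o := by
  simp only [innerChk, Bool.and_eq_true] at hin
  obtain ⟨⟨⟨⟨⟨hs, hder⟩, hcen⟩, h8⟩, hexp⟩, hnr⟩ := hin
  simp only [List.all_eq_true] at hcen h8 hexp hnr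
  simp only [List.any_eq_true] at hder
  have hn := E.range_normal hD hout
  obtain ⟨a₀, ha₀⟩ := E.exists_u hD
  have hu := FData.ok_u hD
  have htW : okW tW = true := okW_z 8
  have hA : Inv z a₀ := E.u_facts hD ha₀
  refine ⟨E.sq_ne_of_check hD hs hn hi hz h4, ?_, a₀, hA, ?_, ?_, ?_, ?_, ?_, ?_, ?_⟩
  · intro a b ha hb
    obtain ⟨l, hl⟩ := E.exists_conj_u hD hout ha₀ ha
    obtain ⟨m, hm⟩ := E.exists_conj_u hD hout ha₀ hb
    refine ⟨m⁻¹ * l, ?_⟩
    calc m⁻¹ * l * a * (m⁻¹ * l)⁻¹ = m⁻¹ * (l * a * l⁻¹) * m := by group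
      _ = m⁻¹ * (m * b * m⁻¹) * m := by rw [hl, hm]
      _ = b := by group
  · obtain ⟨p, hp, q, hq, e⟩ := hder
    obtain ⟨p', ep, hp'⟩ := E.inR_preimage hD ha₀ hp
    obtain ⟨q', eq', hq'⟩ := E.inR_preimage hD ha₀ hq
    have op := E.ok_r hD (mem_inR hp).1
    have oq := E.ok_r hD (mem_inR hq).1
    refine ⟨p', q', hp', hq', E.inj ?_⟩
    rw [map_mul, map_mul, map_mul, map_inv, map_inv, ep, eq', ← E.cd.v_invW op, ← E.cd.v_invW oq,
      ← E.cd.v_append op oq, ← E.cd.v_append (okW_append.mpr ⟨op, oq⟩) (okW_invW p),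
      ← E.cd.v_append (okW_append.mpr ⟨okW_append.mpr ⟨op, oq⟩, okW_invW p⟩) (okW_invW q)]
    exact ((E.K_eq hD (okW_append.mpr ⟨okW_append.mpr ⟨okW_append.mpr ⟨op, oq⟩, okW_invW p⟩, okW_invW q⟩) htW).mp
      e).trans E.v_tW
  · intro r hr hr2 hall
    obtain ⟨s, hs', es⟩ := E.exists_inR hD ha₀ hr
    have os := E.ok_r hD (mem_inR hs').1
    have h := hcen s hs'
    simp only [Bool.or_eq_true, Bool.not_eq_true', List.any_eq_true] at h
    rcases h with ((((h | h) | h) | h) | h) | ⟨x, hx, h⟩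
    · refine absurd ?_ ((E.K_false hD (okW_append.mpr ⟨os, os⟩) rfl).mp h)
      rw [E.cd.v_append os os, es, ← map_mul, hr2, map_one, E.cd.v_nil]
    · left
      rw [E.K_eq hD os rfl, es, E.cd.v_nil, ← map_one E.ι] at h
      exact E.inj h
    · right; left
      rw [E.K_eq hD os htW, es, E.v_tW] at h
      exact E.inj h
    · right; right; left
      rw [E.K_eq hD os hu, es, ← ha₀] at h
      exact E.inj h
    · right; right; right
      rw [E.K_eq hD os (okW_append.mpr ⟨hu, htW⟩), es, E.cd.v_append hu htW, E.v_tW, ← ha₀, ← map_mul] at h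
      exact E.inj h
    · exfalso
      obtain ⟨x', ex, hx'⟩ := E.inR_preimage hD ha₀ hx
      rw [← Bool.not_eq_true, E.commK_iff hD os (E.ok_r hD (mem_inR hx).1), es, ← ex] at h
      exact h ((hall x' hx').map E.ι)
  · intro r hr
    obtain ⟨s, hs', es⟩ := E.exists_inR hD ha₀ hr
    have os := E.ok_r hD (mem_inR hs').1
    have o4 : okW (s ++ s ++ s ++ s) = true :=
      okW_append.mpr ⟨okW_append.mpr ⟨okW_append.mpr ⟨os, os⟩, os⟩, os⟩
    have h := h8 s hs'
    simp only [Bool.and_eq_true, Bool.not_eq_true'] at h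
    rw [E.K_false hD o4 hu, E.K_false hD o4 (okW_append.mpr ⟨hu, htW⟩), E.v_pow4 os, es, E.cd.v_append hu htW,
      E.v_tW, ← ha₀, ← map_pow, ← map_mul] at h
    exact ⟨fun e => h.1 (congrArg E.ι e), fun e => h.2 (congrArg E.ι e)⟩
  · intro r hr
    obtain ⟨s, hs', es⟩ := E.exists_inR hD ha₀ hr
    have os := E.ok_r hD (mem_inR hs').1
    have o4 : okW (s ++ s ++ s ++ s) = true :=
      okW_append.mpr ⟨okW_append.mpr ⟨okW_append.mpr ⟨os, os⟩, os⟩, os⟩
    have h := (E.K_eq hD (okW_append.mpr ⟨o4, o4⟩) rfl).mp (hexp s hs')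
    rw [E.cd.v_append o4 o4, E.v_pow4 os, es, E.cd.v_nil, ← map_pow, ← map_mul, ← map_one E.ι, ← pow_add] at h
    exact E.inj h
  · intro r hr hrr hN
    obtain ⟨s, hs', es⟩ := E.exists_inR hD ha₀ hr
    have os := E.ok_r hD (mem_inR hs').1
    have ozzz : okW (D.u ++ zW ++ zW ++ zW) = true :=
      okW_append.mpr ⟨okW_append.mpr ⟨okW_append.mpr ⟨hu, okW_zW⟩, okW_zW⟩, okW_zW⟩
    have hnorm : normRoot D D.K s = true := (E.normRoot_iff hD ha₀ os).mpr fun h hh => by
      rw [es, ← map_inv, ← map_mul, ← map_mul, ← map_mul]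
      exact (hN h hh).imp (congrArg E.ι) (congrArg E.ι)
    have h := hnr s hs'
    simp only [hnorm, Bool.and_true, Bool.not_eq_true', Bool.or_eq_false_iff] at h
    rw [E.K_false hD (okW_append.mpr ⟨os, os⟩) (okW_append.mpr ⟨hu, okW_zW⟩),
      E.K_false hD (okW_append.mpr ⟨os, os⟩) ozzz, E.cd.v_append os os, es,
      E.cd.v_append (okW_append.mpr ⟨okW_append.mpr ⟨hu, okW_zW⟩, okW_zW⟩) okW_zW,
      E.cd.v_append (okW_append.mpr ⟨hu, okW_zW⟩) okW_zW, E.cd.v_append hu okW_zW, E.v_zW, ← ha₀, ← map_mul,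
      ← map_mul, ← map_mul, ← map_mul] at h
    rcases hrr with e | e
    · exact h.1 (congrArg E.ι e)
    · exact h.2 (congrArg E.ι (by rw [e]; simp [mul_assoc]))
  · intro ho r hrr hN
    have hr : Commute r a₀ := hrr ▸ (Commute.refl r).mul_right (Commute.refl r)
    obtain ⟨s, hs', es⟩ := E.exists_inR hD ha₀ hr
    have os := E.ok_r hD (mem_inR hs').1
    have hnorm : normRoot D D.K s = true := (E.normRoot_iff hD ha₀ os).mpr fun h hh => by
      rw [es, ← map_inv, ← map_mul, ← map_mul, ← map_mul]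
      exact (hN h hh).imp (congrArg E.ι) (congrArg E.ι)
    have hc := hno ho
    simp only [noCandChk, List.all_eq_true] at hc
    have h := hc s hs'
    rw [isCand, (mem_inR hs').2, hnorm, Bool.and_true, Bool.true_and, Bool.not_eq_true',
      E.K_false hD (okW_append.mpr ⟨os, os⟩) hu, E.cd.v_append os os, es, ← ha₀, ← map_mul] at h
    exact h (congrArg E.ι hrr)
  · intro ho
    have hc := hcnt ho
    simp only [inCountChk, Bool.and_eq_true] at hc
    exact ⟨(E.ncard_roots hD ha₀ htW E.v_tW.symm).trans (Nat.eq_of_beq_eq_true hc.1),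
      (E.ncard_roots hD ha₀ hu ha₀).trans (Nat.eq_of_beq_eq_true hc.2)⟩

end Emb

theorem outR010 : (outR fd010).isEmpty = false := by decide +kernel

theorem outR110 : (outR fd110).isEmpty = false := by decide +kernel

theorem good010 : fd010.Good :=
  ⟨fd010_shapeChk, fd010_sylChk, fd010_closChk, fd010_clsChk, fd010_centChk, fd010_outChk, fd010_elimChk⟩

theorem good110 : fd110.Good :=
  ⟨fd110_shapeChk, fd110_sylChk, fd110_closChk, fd110_clsChk, fd110_centChk, fd110_outChk, fd110_elimChk⟩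

theorem c010 : fd010.c = (0, 1, 0) := by with_unfolding_all rfl

theorem c110 : fd110.c = (1, 1, 0) := by with_unfolding_all rfl

section

variable {G : Type u} [Group G] [Finite G] {L : Subgroup G} {z₀ : G} {o : ℕ}

/-- The facts hold in the standard subgroup. -/
theorem Base.lfacts0 (S : Base L z₀ o) : LFacts0 (⟨z₀, S.z_mem⟩ : L) o := by
  obtain ⟨Γ, _, _, ⟨E⟩⟩ := S.exists_model
  have hz : ∀ h : L, Commute h (⟨z₀, S.z_mem⟩ : L) := fun h => Subtype.ext (S.z_cen h h.2).symm.eq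
  have h4 : (⟨z₀, S.z_mem⟩ : L) ^ 4 = 1 := by rw [← S.ord_zL, pow_orderOf_eq_one]
  have ho := S.o_lt
  interval_cases o
  · rw [← c010] at E
    exact E.lfacts good010 outR010 innerChk010 (fun _ => inCountChk010) (fun h => absurd h (by norm_num)) zInvChk010 hz h4
  · rw [← c110] at E
    exact E.lfacts good110 outR110 innerChk110 (fun h => absurd h (by norm_num)) (fun _ => noCandChk110) zInvChk110 hz h4

end

end CfsgLib.StdON
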