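import Cfsg.Agent.Lib.StdON.GFacts
import Cfsg.Agent.Lib.StdON.Chk.C000
import Cfsg.Agent.Lib.StdON.Chk.C001
import Cfsg.Agent.Lib.StdON.Chk.C012
import Cfsg.Agent.Lib.StdON.Chk.C020
import Cfsg.Agent.Lib.StdON.Chk.C022
import Cfsg.Agent.Lib.StdON.Chk.C100
import Cfsg.Agent.Lib.StdON.Chk.C102
import Cfsg.Agent.Lib.StdON.Chk.C112
import Cfsg.Agent.Lib.StdON.Chk.C120
import Cfsg.Agent.Lib.StdON.Chk.C121

/-!
The extensions of the standard subgroup inside the whole group, and what holds in each.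
-/

set_option autoImplicit false
set_option maxHeartbeats 800000
set_option linter.unusedSectionVars false
set_option linter.style.haveILetI false

namespace CfsgLib.StdON

open Subgroup CfsgON CfsgPC
open CfsgLib.StemSylow.PlaneFour

universe u

attribute [local irreducible] pGens xGens zWords gsX fd000 fd001 fd010 fd012 fd020 fd022 fd100 fd102 fd110 fd112 fd120
  fd121

/-- The tables exist for every case. -/
theorem exists_data {c : ℕ × ℕ × ℕ} (hc : c ∈ caseList) :
    ∃ D : FData, D.c = c ∧ D.Good ∧ outerChk D D.K = true ∧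
      (c.1 = 0 → D.zsChk = true ∧ (TypeP D D.K ∨ TypeU D D.K ∨ TypeG D D.K)) := by
  simp only [caseList, List.mem_cons, List.not_mem_nil, or_false] at hc
  rcases hc with rfl | rfl | rfl | rfl | rfl | rfl | rfl | rfl | rfl | rfl | rfl | rfl
  exacts [⟨fd000, by with_unfolding_all rfl, ⟨fd000_shapeChk, fd000_sylChk, fd000_closChk, fd000_clsChk, fd000_centChk, fd000_outChk, fd000_elimChk⟩, outerChk000, fun _ => ⟨zsChk000, .inl ⟨by with_unfolding_all rfl, zCenChk000, .inl ⟨rootT000, rootU000, candRoots000⟩⟩⟩⟩,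
    ⟨fd001, by with_unfolding_all rfl, ⟨fd001_shapeChk, fd001_sylChk, fd001_closChk, fd001_clsChk, fd001_centChk, fd001_outChk, fd001_elimChk⟩, outerChk001, fun _ => ⟨zsChk001, .inl ⟨by with_unfolding_all rfl, zCenChk001, .inr ⟨rootU001, outs001⟩⟩⟩⟩,
    ⟨fd010, c010, good010, outerChk010, fun _ => ⟨fd010_zsChk, .inr (.inl ⟨by with_unfolding_all rfl, zInvChk010, rootU010⟩)⟩⟩,
    ⟨fd012, by with_unfolding_all rfl, ⟨fd012_shapeChk, fd012_sylChk, fd012_closChk, fd012_clsChk, fd012_centChk, fd012_outChk, fd012_elimChk⟩, outerChk012, fun _ => ⟨zsChk012, .inr (.inl ⟨by with_unfolding_all rfl, zInvChk012, rootU012⟩)⟩⟩,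
    ⟨fd020, by with_unfolding_all rfl, ⟨fd020_shapeChk, fd020_sylChk, fd020_closChk, fd020_clsChk, fd020_centChk, fd020_outChk, fd020_elimChk⟩, outerChk020, fun _ => ⟨zsChk020, .inr (.inr ⟨by with_unfolding_all rfl, zInvChk020, rootU020, .inr ⟨outsNonempty020, graphChk020, certChk020⟩⟩)⟩⟩,
    ⟨fd022, by with_unfolding_all rfl, ⟨fd022_shapeChk, fd022_sylChk, fd022_closChk, fd022_clsChk, fd022_centChk, fd022_outChk, fd022_elimChk⟩, outerChk022, fun _ => ⟨zsChk022, .inr (.inr ⟨by with_unfolding_all rfl, zInvChk022, rootU022, .inl ⟨outs022, rootT022⟩⟩)⟩⟩,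
    ⟨fd100, by with_unfolding_all rfl, ⟨fd100_shapeChk, fd100_sylChk, fd100_closChk, fd100_clsChk, fd100_centChk, fd100_outChk, fd100_elimChk⟩, outerChk100, fun h => absurd h (by decide)⟩,
    ⟨fd102, by with_unfolding_all rfl, ⟨fd102_shapeChk, fd102_sylChk, fd102_closChk, fd102_clsChk, fd102_centChk, fd102_outChk, fd102_elimChk⟩, outerChk102, fun h => absurd h (by decide)⟩,
    ⟨fd110, c110, good110, outerChk110, fun h => absurd h (by decide)⟩,
    ⟨fd112, by with_unfolding_all rfl, ⟨fd112_shapeChk, fd112_sylChk, fd112_closChk, fd112_clsChk, fd112_centChk, fd112_outChk, fd112_elimChk⟩, outerChk112, fun h => absurd h (by decide)⟩,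
    ⟨fd120, by with_unfolding_all rfl, ⟨fd120_shapeChk, fd120_sylChk, fd120_closChk, fd120_clsChk, fd120_centChk, fd120_outChk, fd120_elimChk⟩, outerChk120, fun h => absurd h (by decide)⟩,
    ⟨fd121, by with_unfolding_all rfl, ⟨fd121_shapeChk, fd121_sylChk, fd121_closChk, fd121_clsChk, fd121_centChk, fd121_outChk, fd121_elimChk⟩, outerChk121, fun h => absurd h (by decide)⟩]

variable {G : Type u} [Group G] [Finite G] {L : Subgroup G} {z : G} {o : ℕ}

/-- An extension by one outer element with coordinates. -/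
structure Loc (S : Base L z o) (D : FData) (C : Subgroup G) where
  E : Emb ↥C (⟨z, S.z_mem⟩ : L) S.φ D.c
  good : D.Good
  outer : outerChk D D.K = true
  kind0 : o = 0 → D.zsChk = true ∧ (TypeP D D.K ∨ TypeU D D.K ∨ TypeG D D.K)
  kindc : D.c.1 = o
  hi : D.c.2.1 < 3
  le : L ≤ C
  comm : ∀ x ∈ C, Commute x (z * z)
  inner_iff : ∀ x ∈ C, (Inner L x ↔ x ∈ L)
  coe_ι : ∀ l : L, ((E.ι l : C) : G) = (l : G)
  y_conj : ∀ p : PC, (E.cd.v [2] : G) * (S.φ p : G) * (E.cd.v [2] : G)⁻¹ = (S.φ (outerTheta hi p) : G)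
  split : ∀ x ∈ C, x ∈ L ∨ ∃ l ∈ L, l * (E.cd.v [2] : G) = x

namespace Base

variable (S : Base L z o)

/-- Coordinates on the extension by an outer element squaring into the subgroup. -/
theorem exists_loc {e : G} (he : Commute e (z * z)) (he2 : e * e ∈ L) (hout : ¬ Inner L e) :
    ∃ D, Nonempty (Loc S D (ext L e)) := by
  classical
  obtain ⟨i, j, hi, y, hy, ht, cd, hyo, hconj, hcM, hcv, hcy⟩ := S.exists_coord_ext he he2 hout
  obtain ⟨D, hDc, hgood, houter, hk0⟩ := exists_data cd.mem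
  refine ⟨D, ?_⟩
  have hLC : L ≤ ext L e := le_ext e
  let ι : L →* ext L e := Subgroup.inclusion hLC
  let cd' : Coord ↥(ext L e) (ι (⟨z, S.z_mem⟩ * ⟨z, S.z_mem⟩)) (o, i, j) := cd
  have key : ∀ {c : ℕ × ℕ × ℕ} (hc : D.c = c) (cd'' : Coord ↥(ext L e) (ι (⟨z, S.z_mem⟩ * ⟨z, S.z_mem⟩)) c),
      c.2.1 < 3 → c.1 = o → cd''.M = L.subgroupOf (ext L e) →
      (∀ {w : List ℕ} (hw : okP w = true), (cd''.v w : G) = (S.φ ⟨ev (gen 0) w, ev_mem_PC 0 hw⟩ : G)) →
      (∀ (h : c.2.1 < 3) (p : PC),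
        (cd''.v [2] : G) * (S.φ p : G) * (cd''.v [2] : G)⁻¹ = (S.φ (outerTheta h p) : G)) →
      ¬ Inner L (cd''.v [2] : G) → Nonempty (Loc S D (ext L e)) := by
    intro c hc cd'' h3 hco hM hv hy2 hout2
    subst hc
    have hr : ι.range = cd''.M := by
      rw [hM]
      exact Subgroup.inclusion_range hLC
    refine ⟨⟨⟨ι, Subgroup.inclusion_injective hLC, cd'', hr, fun {w} hw => Subtype.ext (hv hw), ?_, S.φ_z⟩, hgood,
      houter, hk0, hco, h3, hLC, fun x hx => S.ext_comm he he2 hx, fun x hx => S.ext_inner he he2 hout hx, fun l => rfl,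
      hy2 h3, fun x hx => ?_⟩⟩
    · exact eq_top_iff.mpr fun x _ => mem_centralizer_singleton_iff.mpr (Subtype.ext (S.ext_comm he he2 x.2).eq)
    · rcases (S.mem_ext_iff he he2).mp hx with h | ⟨l, hl, rfl⟩
      · exact .inl h
      · right
        rcases (S.mem_ext_iff he he2).mp (cd''.v [2]).2 with h | ⟨m, hm, em⟩
        · exact absurd (inner_of_mem h) hout2
        · exact ⟨l * m⁻¹, mul_mem hl (inv_mem hm), by rw [← em]; group⟩
  exact key (hDc.trans rfl) cd' hi rfl hcM hcv (fun h p => by rw [show (cd'.v [2] : G) = y from hcy]; exact hconj p)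
    (by rw [show (cd'.v [2] : G) = y from hcy]; exact hyo)

end Base

namespace Loc

variable {S : Base L z o} {D : FData} {C : Subgroup G} (P : Loc S D C)
include P

theorem ι_t : ((P.E.ι (⟨z, S.z_mem⟩ * ⟨z, S.z_mem⟩) : C) : G) = z * z := P.coe_ι _

theorem commute_coe {a b : C} (h : Commute a b) : Commute (a : G) (b : G) := congrArg Subtype.val h.eq

theorem commute_of {a b : C} (h : Commute (a : G) (b : G)) : Commute a b := Subtype.ext h.eq

theorem range_iff (x : C) : x ∈ P.E.ι.range ↔ (x : G) ∈ L := by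
  constructor
  · rintro ⟨l, rfl⟩; rw [P.coe_ι]; exact l.2
  · intro hx; exact ⟨⟨x, hx⟩, Subtype.ext (P.coe_ι _)⟩

theorem range_inner (x : C) : x ∈ P.E.ι.range ↔ Inner L (x : G) := (P.range_iff x).trans (P.inner_iff _ x.2).symm

theorem M_iff (x : C) : x ∈ P.E.cd.M ↔ (x : G) ∈ L := by rw [← P.E.range]; exact P.range_iff x

/-- The representative, as an involution of the subgroup. -/
theorem u_inv : InvL L z ((P.E.cd.v D.u : C) : G) := by
  obtain ⟨a, ha⟩ := P.E.exists_u P.good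
  obtain ⟨h1, h2, h3⟩ := P.E.u_facts P.good ha
  rw [← ha, P.coe_ι]
  exact ⟨a.2, congrArg Subtype.val h1, fun e => h2 (Subtype.ext e), fun e => h3 (Subtype.ext e)⟩

/-- An outer involution: an element of order three commutes with it, and it centralises the generator of the centre
or has two conjugates commuting with it whose product is the central involution. -/
theorem outer_invol {a : G} (haC : a ∈ C) (h2 : a * a = 1) (hout : ¬ Inner L a) :
    (∃ r ∈ L, r ^ 3 = 1 ∧ r ≠ 1 ∧ Commute r a) ∧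
      (Commute a z ∨ ∃ c₁ c₂ : G, Commute c₁ (z * z) ∧ Commute c₂ (z * z) ∧ Commute (c₁ * a * c₁⁻¹) a ∧
        Commute (c₂ * a * c₂⁻¹) a ∧ c₁ * a * c₁⁻¹ ≠ a ∧ c₂ * a * c₂⁻¹ ≠ a ∧
        c₁ * a * c₁⁻¹ * (c₂ * a * c₂⁻¹) = z * z) := by
  classical
  haveI : Fact (Nat.Prime 3) := ⟨Nat.prime_three⟩
  set t' : C := P.E.ι (⟨z, S.z_mem⟩ * ⟨z, S.z_mem⟩)
  have ha1 : (⟨a, haC⟩ : C) ≠ 1 := fun e => hout (by
    rw [show a = 1 from congrArg Subtype.val e]; exact inner_of_mem (one_mem L))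
  have hat : (⟨a, haC⟩ : C) ≠ t' := fun e => hout (by
    rw [show a = z * z from (congrArg Subtype.val e).trans P.ι_t]; exact inner_of_mem S.t_mem)
  obtain ⟨w, hw, r, hr, e⟩ := FData.classes P.good P.E.cd (P.E.mem_cent _) (s := (⟨a, haC⟩ : C)) (Subtype.ext h2) ha1 hat
  set g : G := ((P.E.cd.v w : C) : G) with hg
  have hgt : Commute g (z * z) := P.comm _ (P.E.cd.v w).2
  have e' : g * a * g⁻¹ = ((P.E.cd.v r : C) : G) := congrArg Subtype.val e
  rcases List.mem_cons.mp hr with rfl | hr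
  · refine absurd ?_ hout
    rw [← S.conj_inner_iff hgt, e']
    exact inner_of_mem P.u_inv.1
  obtain ⟨O, hO, rfl⟩ := List.mem_map.mp hr
  obtain ⟨-, h3, hcase⟩ := FData.out_spec P.good P.E.cd hO
  have hback : ∀ {x : G}, Commute x ((P.E.cd.v O.rep : C) : G) → Commute (g⁻¹ * x * g) a := fun {x} hx => by
    have := hx.conj g⁻¹
    rw [← e'] at this
    simpa [mul_assoc] using this
  constructor
  · obtain ⟨r, hr3⟩ := exists_prime_orderOf_dvd_card' 3 h3
    have hr1 : ((r : C) : G) ^ 3 = 1 := by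
      rw [← orderOf_dvd_iff_pow_eq_one, Subgroup.orderOf_coe, Subgroup.orderOf_coe, hr3]
    have hrne : ((r : C) : G) ≠ 1 := fun e => by
      rw [← orderOf_eq_one_iff, Subgroup.orderOf_coe, Subgroup.orderOf_coe, hr3] at e
      omega
    have hrL : ((r : C) : G) ∈ L := by
      rw [← P.inner_iff _ (r : C).2]
      have h4 : ((r : C) : G) = ((r : C) : G) * ((r : C) : G) * (((r : C) : G) * ((r : C) : G)) := by
        calc ((r : C) : G) = ((r : C) : G) ^ 3 * ((r : C) : G) := by rw [hr1, one_mul]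
          _ = _ := by simp [pow_succ, mul_assoc]
      rw [h4]
      exact (S.sq_inner (P.comm _ (r : C).2)).mul (S.sq_inner (P.comm _ (r : C).2))
    refine ⟨g⁻¹ * ((r : C) : G) * g, by simpa using S.conj_mem hgt.inv_left hrL, ?_, fun e => hrne ?_,
      hback (commute_coe P (mem_centralizer_singleton_iff.mp r.2.2))⟩
    · rw [show g⁻¹ * ((r : C) : G) * g = g⁻¹ * ((r : C) : G) * g⁻¹⁻¹ by rw [inv_inv], conj_pow, hr1]; group
    · calc ((r : C) : G) = g * (g⁻¹ * ((r : C) : G) * g) * g⁻¹ := by group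
        _ = 1 := by rw [e]; group
  · rcases hcase with ⟨w0, -, hww, hall⟩ | ⟨l, -, m, -, hc1, hc2, hn1, hn2, hprod⟩
    · left
      have hw0 : ((w0 : C) : G) ∈ L := by
        rw [← P.inner_iff _ w0.2]
        refine inner_of_cent (mem_centralizer_iff.mpr fun h hh => ?_)
        exact congrArg Subtype.val (hall ⟨h, P.le hh⟩ (P.E.mem_cent _)).eq
      have hw0c : ((w0 : C) : G) ∈ centralizer (L : Set G) := mem_centralizer_iff.mpr fun h hh =>
        congrArg Subtype.val (hall ⟨h, P.le hh⟩ (P.E.mem_cent _)).eq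
      have ha0 : Commute a ((w0 : C) : G) := congrArg Subtype.val (hall ⟨a, haC⟩ (P.E.mem_cent _)).eq
      have hsq : ((w0 : C) : G) * ((w0 : C) : G) = z * z := (congrArg Subtype.val hww).trans P.ι_t
      rcases S.inter_cases hw0 hw0c with h | h | h | h
      · rw [h, one_mul] at hsq; exact absurd hsq.symm S.t_ne
      · rwa [h] at ha0
      · rw [h, S.tt] at hsq; exact absurd hsq.symm S.t_ne
      · rw [h, ← S.z_inv] at ha0
        simpa using ha0.inv_right
    · right
      have key : ∀ x : C, Commute (g⁻¹ * (x : G) * g) (z * z) ∧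
          g⁻¹ * (x : G) * g * a * (g⁻¹ * (x : G) * g)⁻¹ = g⁻¹ * ((x * P.E.cd.v O.rep * x⁻¹ : C) : G) * g := fun x => by
        refine ⟨(hgt.inv_left.mul_left (P.comm _ x.2)).mul_left hgt, ?_⟩
        rw [Subgroup.coe_mul, Subgroup.coe_mul, InvMemClass.coe_inv, ← e']
        group
      refine ⟨g⁻¹ * (l : G) * g, g⁻¹ * (m : G) * g, (key l).1, (key m).1, ?_, ?_, ?_, ?_, ?_⟩ <;>
        (first | rw [(key l).2] | skip) <;> (first | rw [(key m).2] | skip)
      · exact hback (commute_coe P hc1)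
      · exact hback (commute_coe P hc2)
      · intro e
        refine hn1 (Subtype.ext ?_)
        calc _ = g * (g⁻¹ * ((l * P.E.cd.v O.rep * l⁻¹ : C) : G) * g) * g⁻¹ := by group
          _ = _ := by rw [e, e']
      · intro e
        refine hn2 (Subtype.ext ?_)
        calc _ = g * (g⁻¹ * ((m * P.E.cd.v O.rep * m⁻¹ : C) : G) * g) * g⁻¹ := by group
          _ = _ := by rw [e, e']
      · calc g⁻¹ * ((l * P.E.cd.v O.rep * l⁻¹ : C) : G) * g * (g⁻¹ * ((m * P.E.cd.v O.rep * m⁻¹ : C) : G) * g)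
            = g⁻¹ * (((l * P.E.cd.v O.rep * l⁻¹ * (m * P.E.cd.v O.rep * m⁻¹) : C)) : G) * g := by
              simp only [Subgroup.coe_mul]; group
          _ = g⁻¹ * (z * z) * g := by rw [hprod, P.ι_t]
          _ = z * z := by rw [mul_assoc, ← hgt.eq, inv_mul_cancel_left]

end Loc

end CfsgLib.StdON
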