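import Cfsg.Agent.Lib.StdON.Loc

/-!
Outer elements with a power at a given involution.
-/

set_option autoImplicit false
set_option maxHeartbeats 800000
set_option linter.unusedSectionVars false

namespace CfsgLib.StdON

open Subgroup CfsgON CfsgPC
open CfsgLib.StemSylow.PlaneFour

universe u

attribute [local irreducible] pGens xGens zWords gsX

variable {G : Type u} [Group G] [Finite G] {L : Subgroup G} {z : G} {o : ℕ}

namespace Loc

variable {S : Base L z o} {D : FData} {C : Subgroup G} (P : Loc S D C)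
include P

/-- An element of the extension commuting with an involution of the subgroup, moved to the listed centraliser. -/
theorem exists_moved {a : G} (ha : InvL L z a) :
    ∃ l ∈ L, l * a * l⁻¹ = ((P.E.cd.v D.u : C) : G) ∧ ∀ x ∈ C, ¬ Inner L x → Commute x a →
      ∃ r ∈ outR D, ((P.E.cd.v r : C) : G) = l * x * l⁻¹ := by
  obtain ⟨l, hl, e⟩ := S.inv_conj ha P.u_inv
  refine ⟨l, hl, e, fun x hx hout hc => ?_⟩
  have hm : l * x * l⁻¹ ∈ C := mul_mem (mul_mem (P.le hl) hx) (inv_mem (P.le hl))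
  obtain ⟨r, hr, er⟩ := P.E.exists_outR P.good (g := (⟨_, hm⟩ : C)) (P.commute_of (e ▸ hc.conj l)) fun h => hout ((S.conj_inner_iff (S.comm_mem hl)).mp ((P.range_inner ⟨_, hm⟩).mp h))
  exact ⟨r, hr, congrArg Subtype.val er⟩

theorem v_z : ((P.E.cd.v zW : C) : G) = z := by rw [P.E.v_zW]; exact P.coe_ι _

theorem inR_back {s : List ℕ} (hs : s ∈ inR D) :
    ((P.E.cd.v s : C) : G) ∈ L ∧ Commute ((P.E.cd.v s : C) : G) ((P.E.cd.v D.u : C) : G) := by
  obtain ⟨h1, h2⟩ := mem_inR hs
  exact ⟨(P.range_iff _).mp ((P.E.mem_range_iff (P.E.ok_r P.good h1)).mpr h2), P.commute_coe (P.E.comm_u P.good h1)⟩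

/-- No outer element with the involution as square commutes with `z` and is normalised. -/
theorem no_outer_root {a x : G} (ha : InvL L z a) (hx : x ∈ C) (hout : ¬ Inner L x) (hz : Commute x z)
    (hxx : x * x = a) (hN : NormL L a x) : False := by
  have hc : Commute x a := hxx ▸ (Commute.refl x).mul_right (Commute.refl x)
  obtain ⟨l, hl, el, hmove⟩ := P.exists_moved ha
  obtain ⟨r, hr, er⟩ := hmove x hx hout hc
  have hch := P.outer
  simp only [outerChk, Bool.and_eq_true, List.all_eq_true] at hch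
  have h := hch.1 r hr
  have hr' := P.E.ok_r P.good (mem_outR hr).1
  rw [Bool.not_eq_true', ← Bool.not_eq_true] at h
  refine h (by
    simp only [Bool.and_eq_true]
    refine ⟨⟨?_, ?_⟩, ?_⟩
    · rw [P.E.K_eq P.good (okW_append.mpr ⟨hr', hr'⟩) (FData.ok_u P.good), P.E.cd.v_append hr' hr']
      refine Subtype.ext ?_
      rw [Subgroup.coe_mul, er, ← el, ← hxx]; group
    · rw [P.E.commK_iff P.good hr' okW_zW]
      refine P.commute_of ?_
      rw [er, P.v_z]
      have := hz.conj l
      rwa [S.conjL_z hl] at this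
    · obtain ⟨a', ha'⟩ := P.E.exists_u P.good
      have ea : (a' : G) = l * a * l⁻¹ := by rw [el, ← ha', P.coe_ι]
      refine (P.E.normRoot_iff P.good ha' hr').mpr fun h hh => ?_
      refine ((hN.conj hl) h h.2 (ea ▸ congrArg Subtype.val hh.eq)).imp (fun e => Subtype.ext ?_) (fun e => Subtype.ext ?_)
      · rw [Subgroup.coe_mul, Subgroup.coe_mul, InvMemClass.coe_inv, P.coe_ι, er, e]
      · rw [Subgroup.coe_mul, Subgroup.coe_mul, InvMemClass.coe_inv, Subgroup.coe_mul, P.coe_ι, P.coe_ι, er, e, ea])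

/-- No outer element of order eight with the involution as fourth power commutes with `z` and is normalised. -/
theorem no_outer_root8 {a x : G} (ha : InvL L z a) (hx : x ∈ C) (hout : ¬ Inner L x) (hz : Commute x z)
    (hx4 : x ^ 4 = a) (hN : ∀ h ∈ L, Commute h a → ∃ k ∈ [1, 3, 5, 7], h * x * h⁻¹ = x ^ k) : False := by
  have hc : Commute x a := hx4 ▸ (Commute.refl x).pow_right 4
  obtain ⟨l, hl, el, hmove⟩ := P.exists_moved ha
  obtain ⟨r, hr, er⟩ := hmove x hx hout hc
  have hch := P.outer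
  simp only [outerChk, Bool.and_eq_true, List.all_eq_true] at hch
  have h := hch.2 r hr
  have hr' := P.E.ok_r P.good (mem_outR hr).1
  have hu := FData.ok_u P.good
  have o4 : okW (r ++ r ++ r ++ r) = true := okW_append.mpr ⟨okW_append.mpr ⟨okW_append.mpr ⟨hr', hr'⟩, hr'⟩, hr'⟩
  rw [Bool.not_eq_true', ← Bool.not_eq_true] at h
  refine h (by
    simp only [Bool.and_eq_true]
    refine ⟨⟨?_, ?_⟩, ?_⟩
    · rw [P.E.K_eq P.good o4 hu, P.E.v_pow4 hr']
      refine Subtype.ext ?_
      rw [SubgroupClass.coe_pow, er, conj_pow, hx4, el]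
    · rw [P.E.commK_iff P.good hr' okW_zW]
      refine P.commute_of ?_
      rw [er, P.v_z]
      have := hz.conj l
      rwa [S.conjL_z hl] at this
    · simp only [List.all_eq_true, List.any_eq_true]
      intro s hs
      obtain ⟨hsL, hsc⟩ := P.inR_back hs
      have hs' := P.E.ok_r P.good (mem_inR hs).1
      have hback : Commute (l⁻¹ * ((P.E.cd.v s : C) : G) * l) a := by
        rw [← el] at hsc
        simpa [mul_assoc] using hsc.conj l⁻¹
      obtain ⟨k, hk, ek⟩ := hN _ (mul_mem (mul_mem (inv_mem hl) hsL) hl) hback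
      have e2 : ((P.E.cd.v s : C) : G) * ((P.E.cd.v r : C) : G) =
          ((P.E.cd.v r : C) : G) ^ k * ((P.E.cd.v s : C) : G) := by
        rw [er, conj_pow, ← ek]; group
      have o2 : okW (r ++ r ++ r) = true := okW_append.mpr ⟨okW_append.mpr ⟨hr', hr'⟩, hr'⟩
      have o5 : okW (r ++ r ++ r ++ r ++ r) = true := okW_append.mpr ⟨o4, hr'⟩
      have o6 : okW (r ++ r ++ r ++ r ++ r ++ r) = true := okW_append.mpr ⟨o5, hr'⟩
      have o7 : okW (r ++ r ++ r ++ r ++ r ++ r ++ r) = true := okW_append.mpr ⟨o6, hr'⟩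
      have fin : ∀ q, okW q = true → P.E.cd.v q = P.E.cd.v r ^ k →
          Nat.beq (D.K (s ++ r)) (D.K (q ++ s)) = true := fun q hq eq => by
        rw [P.E.K_eq P.good (okW_append.mpr ⟨hs', hr'⟩) (okW_append.mpr ⟨hq, hs'⟩), P.E.cd.v_append hs' hr',
          P.E.cd.v_append hq hs', eq]
        exact Subtype.ext e2
      simp only [List.mem_cons, List.not_mem_nil, or_false] at hk ⊢
      rcases hk with rfl | rfl | rfl | rfl
      · exact ⟨_, .inl rfl, fin _ hr' (pow_one _).symm⟩
      · exact ⟨_, .inr (.inl rfl), fin _ o2 (by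
          rw [P.E.cd.v_append (okW_append.mpr ⟨hr', hr'⟩) hr', P.E.cd.v_append hr' hr']; simp [pow_succ])⟩
      · exact ⟨_, .inr (.inr (.inl rfl)), fin _ o5 (by
          rw [P.E.cd.v_append o4 hr', P.E.v_pow4 hr', ← pow_succ])⟩
      · exact ⟨_, .inr (.inr (.inr rfl)), fin _ o7 (by
          rw [P.E.cd.v_append o6 hr', P.E.cd.v_append o5 hr', P.E.cd.v_append o4 hr', P.E.v_pow4 hr', ← pow_succ,
            ← pow_succ, ← pow_succ])⟩)

end Loc

end CfsgLib.StdON
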