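import Cfsg.Agent.Lib.StdON.Finish
import Cfsg.Agent.Lib.ZStar.Main

/-!
A simple group with a standard subgroup of type 4.L₃(4) is the O'Nan group.
-/

set_option autoImplicit false
set_option maxHeartbeats 800000
set_option linter.unusedSectionVars false
set_option linter.style.haveILetI false

namespace CfsgLib.StdON

open Subgroup CfsgON CfsgPC
open CfsgLib.StemSylow.PlaneFour

universe u v

attribute [local irreducible] pGens xGens zWords gsX certP certQ

variable {G : Type u} [Group G] [Finite G]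

/-- The data from the hypotheses. -/
theorem exists_base {L : Subgroup G} (hL : Cfsg.IsStandardSubgroup L) {F : Type v} [Field F] [Fintype F]
    (hF : Fintype.card F = 4) (hZc : IsCyclic (center L)) (hZ4 : Nat.card (center L) = 4)
    (e : L ⧸ center L ≃* Matrix.ProjectiveSpecialLinearGroup (Fin 3) F) : ∃ z o, Nonempty (Base L z o) := by
  classical
  obtain ⟨⟨hperf, -⟩, ⟨-, htight⟩, -, hnorm⟩ := hL
  have hp : commutator L = ⊤ := Group.isPerfect_def.mp hperf
  let K : Type := GaloisField 2 2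
  haveI : Fintype K := Fintype.ofFinite _
  have hK : Fintype.card K = 4 := by
    rw [← Nat.card_eq_fintype_card, GaloisField.card 2 2 (by norm_num)]; norm_num
  obtain ⟨eF⟩ := equiv_small (F := F) hF
  obtain ⟨eK⟩ := equiv_small (F := K) hK
  obtain ⟨σ, φ, ζ, o, hσs, hσk, hφs, hφ, ho, hZ, hord, hval⟩ :=
    exists_phi L hp hZc hZ4 (F := K) hK ((e.trans eF).trans eK.symm)
  set C := centralizer (L : Set G) with hC
  have hζc : ∀ l : L, Commute ζ l := fun l => (mem_center_iff.mp (hZ ▸ mem_zpowers ζ) l).symm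
  have hzC : (ζ : G) ∈ C := mem_centralizer_iff.mpr fun l hl => (congrArg Subtype.val (hζc ⟨l, hl⟩).eq).symm
  have tight : ∀ g w : G, w ∈ C → g⁻¹ * w * g ∈ C → w * w = 1 → w ≠ 1 → g ∈ normalizer (L : Set G) := by
    intro g w hw hg h2 h1
    by_contra hn
    have hodd := htight g (hnorm ▸ hn)
    have hmem : w ∈ C ⊓ C.map (MulAut.conj g).toMonoidHom :=
      ⟨hw, g⁻¹ * w * g, hg, by show g * (g⁻¹ * w * g) * g⁻¹ = w; group⟩
    haveI : Fact (Nat.Prime 2) := ⟨Nat.prime_two⟩
    exact Nat.not_even_iff_odd.mpr hodd (even_iff_two_dvd.mpr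
      (orderOf_eq_prime (by rw [pow_two, h2]) h1 ▸ Subgroup.orderOf_dvd_natCard _ hmem))
  have hz4 : (ζ : G) * ζ * (ζ * ζ) = 1 := by
    have h := pow_orderOf_eq_one ζ
    rw [hord] at h
    simpa [pow_succ, mul_assoc] using congrArg Subtype.val h
  have hzz : (ζ : G) * ζ ≠ 1 := fun h => by
    have hd := orderOf_dvd_of_pow_eq_one (show ζ ^ 2 = 1 from Subtype.ext (by rw [SubgroupClass.coe_pow, pow_two, h]; rfl))
    rw [hord] at hd
    norm_num at hd
  have cent_norm : ∀ g : G, Commute g ((ζ : G) * ζ) ↔ g ∈ normalizer (L : Set G) := by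
    intro g
    refine ⟨fun hg => tight g _ (mul_mem hzC hzC) ?_ hz4 hzz, fun hg => ?_⟩
    · rw [show g⁻¹ * ((ζ : G) * ζ) * g = (ζ : G) * ζ by rw [mul_assoc, ← hg.eq, inv_mul_cancel_left]]
      exact mul_mem hzC hzC
    · have h1 : g * (ζ : G) * g⁻¹ ∈ L := (mem_normalizer_iff.mp hg _).mp ζ.2
      have h2 : g * (ζ : G) * g⁻¹ ∈ C := (mem_normalizer_iff.mp (hnorm ▸ hg) _).mp hzC
      have h3 : (⟨_, h1⟩ : L) ∈ zpowers ζ := by
        rw [← hZ]
        exact mem_center_iff.mpr fun l => Subtype.ext (mem_centralizer_iff.mp h2 l l.2)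
      obtain ⟨p, hp4, ep⟩ := exists_pow_lt hord h3
      have eg : g * (ζ : G) * g⁻¹ = (ζ : G) ^ p := (congrArg Subtype.val ep).symm
      have hsq : g * ((ζ : G) * ζ) * g⁻¹ = (ζ : G) ^ p * (ζ : G) ^ p := by rw [← eg]; group
      refine mul_inv_eq_iff_eq_mul.mp (hsq.trans ?_)
      have hne : g * ((ζ : G) * ζ) * g⁻¹ ≠ 1 := fun h => hzz (conj_eq_one_iff.mp h)
      rw [hsq] at hne
      interval_cases p
      · exact absurd (by simp) hne
      · simp
      · refine absurd ?_ hne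
        rw [pow_two]; exact hz4
      · calc (ζ : G) ^ 3 * (ζ : G) ^ 3 = ζ * ζ * (ζ * ζ) * (ζ * ζ) := by simp [pow_succ, mul_assoc]
          _ = ζ * ζ := by rw [hz4, one_mul]
  refine ⟨ζ, o, ⟨{
    z_mem := ζ.2
    z_ord := by rw [Subgroup.orderOf_coe, hord]
    z_cen := fun l hl => congrArg Subtype.val (hζc ⟨l, hl⟩).eq
    cen_sub := fun x hx hc => ?_
    cent_norm := cent_norm
    normK := hnorm
    tight := fun g w h1 h2 h3 h4 => (cent_norm g).mpr (tight g w h1 h2 h3 h4)
    perfect := hp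
    σ := σ
    φ := φ
    o_lt := ho
    σ_surj := hσs
    σ_ker := hσk
    φ_surj := hφs
    σφ := hφ
    center_eq := hZ
    φ_val := hval }⟩⟩
  have h3 : (⟨x, hx⟩ : L) ∈ zpowers ζ := by
    rw [← hZ]
    exact mem_center_iff.mpr fun l => Subtype.ext (mem_centralizer_iff.mp hc l l.2)
  obtain ⟨k, hk⟩ := mem_zpowers_iff.mp h3
  exact mem_zpowers_iff.mpr ⟨k, (Subgroup.coe_zpow L ζ k).symm.trans (congrArg Subtype.val hk)⟩

/-- The central involution is not isolated. -/
theorem Base.exists_fused [IsSimpleGroup G] {L : Subgroup G} {z : G} {o : ℕ} (S : Base L z o)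
    (hG : ¬ IsMulCommutative G) :
    ∃ g : G, Commute (g * (z * z) * g⁻¹) (z * z) ∧ g * (z * z) * g⁻¹ ≠ z * z := by
  by_contra! hno
  have hiso : Cfsg.IsIsolated (z * z) := fun g hg => hno g hg.symm
  have hodd : ¬ 2 ∣ Nat.card (Cfsg.oddCore G) := CfsgLib.not_dvd_card_pPrimeCore Nat.prime_two
  have hbot : Cfsg.oddCore G = ⊥ := by
    rcases (inferInstance : (Cfsg.oddCore G).Normal).eq_bot_or_eq_top with h | h
    · exact h
    · rw [h, Subgroup.card_top, ← S.t_ord] at hodd
      exact absurd (orderOf_dvd_natCard (z * z)) hodd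
  have hc : z * z ∈ center G := mem_center_iff.mpr fun g => by
    have h : g * (z * z) * g⁻¹ * (z * z)⁻¹ ∈ Cfsg.oddCore G := CfsgLib.ZStar.inZStar S.t_ord hiso g
    rw [hbot, mem_bot, mul_inv_eq_one, mul_inv_eq_iff_eq_mul] at h
    exact h
  rcases (inferInstance : (center G).Normal).eq_bot_or_eq_top with h | h
  · rw [h, mem_bot] at hc; exact S.t_ne hc
  · exact hG ⟨⟨fun a b => (mem_center_iff.mp (h ▸ mem_top a : a ∈ center G) b).symm⟩⟩

/-- Recognition. -/
theorem isoON_of_standard [IsSimpleGroup G] (hG : ¬ IsMulCommutative G) {L : Subgroup G}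
    (hL : Cfsg.IsStandardSubgroup L) {F : Type v} [Field F] [Fintype F] (hF : Fintype.card F = 4)
    (hZc : IsCyclic (center L)) (hZ4 : Nat.card (center L) = 4)
    (e : L ⧸ center L ≃* Matrix.ProjectiveSpecialLinearGroup (Fin 3) F) : Cfsg.Spor.IsoON G := by
  obtain ⟨z, o, ⟨S⟩⟩ := exists_base hL hF hZc hZ4 e
  obtain ⟨g, hc, hne⟩ := S.exists_fused hG
  obtain ⟨a, h, ha, ht, ha'⟩ := S.exists_swap hc hne
  exact (IsSwap.mk (S := S) ha ht ha').isoON

end CfsgLib.StdON
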