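import Cfsg.Agent.Lib.StdON.Setup

/-!
Elements outside the product with the centraliser: squares, and coordinates on the extensions by them.
-/

set_option autoImplicit false
set_option maxRecDepth 30000
set_option maxHeartbeats 800000
set_option linter.unusedSectionVars false
set_option linter.style.haveILetI false

namespace CfsgLib.StdON

open Subgroup CfsgON CfsgPC
open CfsgLib.StemSylow.PlaneFour

universe u

attribute [local irreducible] pGens xGens pChain smallChain smallGens zWords cWords conjWords outPerm outGens outPairs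
  outActs outWords outTable

/-- An action respecting a character squares to the trivial action. -/
theorem act_sq : ((List.range 12).all fun k => (List.range 2).all fun o => [1, 3].all fun s =>
    let A := outTable.getD k (0, 0)
    !((List.range 16).all fun a => fval (kind o) (comb A.1 A.2 a) == (s * fval (kind o) a) % 4) ||
      (comb A.1 A.2 A.1 == 4 && comb A.1 A.2 A.2 == 1)) = true := by
  decide +kernel

theorem table_zero : (outTable.getD 0 (0, 0) == (4, 1)) = true := by decide +kernel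

theorem rep_zero : rep 0 = 1 := by
  rw [rep, show outWords.getD 0 [] = [] from by
    have h := out_zero
    rw [beq_iff_eq] at h
    rw [List.getD_eq_getElem?_getD] at h ⊢
    cases hh : outWords[0]? <;> simp [hh] at h ⊢
    exact h]
  rfl

variable {G : Type u} [Group G] [Finite G] {L : Subgroup G} {z : G} {o : ℕ}

/-- The subgroup generated by the standard subgroup and one element. -/
def ext (L : Subgroup G) (e : G) : Subgroup G := L ⊔ zpowers e

theorem le_ext (e : G) : L ≤ ext L e := le_sup_left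

theorem mem_ext_self (e : G) : e ∈ ext L e := le_sup_right (a := L) (mem_zpowers e)

namespace Base

variable (S : Base L z o)
include S

/-- Squares act on the subgroup as its elements. -/
theorem sq_inner {x : G} (hx : Commute x (z * z)) : Inner L (x * x) := by
  classical
  let conjM : ∀ g : G, Commute g (z * z) → MulAut L := fun g hg =>
    { toFun := fun m => ⟨g * m * g⁻¹, S.conj_mem hg m.2⟩
      invFun := fun m => ⟨g⁻¹ * m * g, by simpa using S.conj_mem hg.inv_left m.2⟩
      left_inv := fun m => Subtype.ext (by group)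
      right_inv := fun m => Subtype.ext (by group)
      map_mul' := fun m n => Subtype.ext (by simp only [Subgroup.coe_mul]; group) }
  obtain ⟨γ, hγ⟩ := exists_induced S.σ_surj (conjM x hx)
    (by rw [S.σ_ker]; exact Subgroup.characteristic_iff_map_eq.mp inferInstance _)
  have hlift : ∀ p, conjM x hx (S.φ p) = S.φ (lift γ p) := fun p =>
    DFunLike.congr_fun (hom_unique PC_perfect S.σ S.σ_ker.le
      (f₁ := (conjM x hx).toMonoidHom.comp S.φ) (f₂ := S.φ.comp (lift γ)) (MonoidHom.ext fun q => by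
        simp only [MonoidHom.comp_apply, MulEquiv.coe_toMonoidHom]
        rw [hγ, show S.σ (S.φ q) = proj q from DFunLike.congr_fun S.σφ q,
          show S.σ (S.φ (lift γ q)) = proj (lift γ q) from DFunLike.congr_fun S.σφ _]
        exact (DFunLike.congr_fun (proj_lift γ) q).symm)) p
  obtain ⟨s₀, k, hk, -, hact⟩ := exists_rep γ
  set A := outTable.getD k (0, 0) with hA
  obtain ⟨s, hs, es⟩ : ∃ s, (s = 1 ∨ s = 3) ∧ conjM x hx ⟨z, S.z_mem⟩ = (⟨z, S.z_mem⟩ : L) ^ s := by
    rcases S.conj_z hx with h | h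
    · exact ⟨1, .inl rfl, Subtype.ext (by rw [SubgroupClass.coe_pow, pow_one]; exact h)⟩
    · refine ⟨3, .inr rfl, Subtype.ext ?_⟩
      rw [SubgroupClass.coe_pow]
      show x * z * x⁻¹ = z ^ 3
      rw [h, S.z_inv, pow_three']
  have hord : orderOf (⟨z, S.z_mem⟩ : L) = 4 := by rw [Subgroup.orderOf_mk, S.z_ord]
  have hfix : ∀ a < 16, fval (kind o) (comb A.1 A.2 a) = (s * fval (kind o) a) % 4 := by
    intro a ha
    have h := hlift ⟨zel a, ev_mem_PC 0 (z_okP a)⟩
    rw [show lift γ ⟨zel a, ev_mem_PC 0 (z_okP a)⟩ =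
        ⟨zel (comb A.1 A.2 a), ev_mem_PC 0 (z_okP (comb A.1 A.2 a))⟩ from Subtype.ext (hact.image ha),
      S.φ_val _ (comb_lt _ _ _), S.φ_val a ha, map_pow, es, ← pow_mul, pow_inj_mod, hord] at h
    rw [h]
    have : fval (kind o) (comb A.1 A.2 a) < 4 := Nat.mod_lt _ (by norm_num)
    omega
  have hA2 : comb A.1 A.2 A.1 = 4 ∧ comb A.1 A.2 A.2 = 1 := by
    have h := List.all_eq_true.mp (List.all_eq_true.mp (List.all_eq_true.mp act_sq k (List.mem_range.mpr hk)) o
      (List.mem_range.mpr S.o_lt)) s (by simp; exact hs)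
    simp only [Bool.or_eq_true, Bool.not_eq_true', Bool.and_eq_true, beq_iff_eq, List.all_eq_false,
      List.mem_range, ← hA] at h
    rcases h with ⟨a, ha, hne⟩ | h
    · exact absurd (hfix a ha) (by simpa using hne)
    · exact h
  obtain ⟨s', k', hk', e', hact'⟩ := exists_rep (γ * γ)
  have h0 := (hact.mul hact).unique hact'
  rw [hA2.1, hA2.2, ← eq_of_beq table_zero] at h0
  obtain rfl := table_inj (by norm_num) hk' h0
  rw [rep_zero, mul_one] at e'
  obtain ⟨m, hm⟩ := S.σ_surj s'
  have hxx : Commute (x * x) (z * z) := hx.mul_left hx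
  have hy : Commute ((m : G)⁻¹ * (x * x)) (z * z) := (S.comm_mem m.2).inv_left.mul_left hxx
  have hid : ∀ n, conjM _ hy n = n := fun n => DFunLike.congr_fun (hom_unique S.perfect S.σ S.σ_ker.le
    (f₁ := (conjM _ hy).toMonoidHom) (f₂ := MonoidHom.id L) (MonoidHom.ext fun q => by
      simp only [MonoidHom.comp_apply, MulEquiv.coe_toMonoidHom, MonoidHom.id_apply]
      rw [show conjM _ hy q = m⁻¹ * conjM x hx (conjM x hx q) * m from Subtype.ext (by
        show (m : G)⁻¹ * (x * x) * q * ((m : G)⁻¹ * (x * x))⁻¹ = ((m⁻¹ : L) : G) * (x * (x * q * x⁻¹) * x⁻¹) * m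
        rw [InvMemClass.coe_inv]
        group), map_mul, map_mul, map_inv, hγ, hγ, hm, ← MulAut.mul_apply, e', MulAut.conj_apply]
      group)) n
  refine ⟨m, m.2, (m : G)⁻¹ * (x * x), mem_centralizer_iff.mpr fun l hl => ?_, mul_inv_cancel_left _ _⟩
  exact (mul_inv_eq_iff_eq_mul.mp (congrArg Subtype.val (hid ⟨l, hl⟩))).symm

/-- Commutators act on the subgroup as its elements. -/
theorem comm_inner {x y : G} (hx : Commute x (z * z)) (hy : Commute y (z * z)) : Inner L (x * y * x⁻¹ * y⁻¹) := by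
  rw [show x * y * x⁻¹ * y⁻¹ = x * x * (x⁻¹ * y * (x⁻¹ * y)) * (y⁻¹ * y⁻¹) by group]
  exact ((S.sq_inner hx).mul (S.sq_inner (hx.inv_left.mul_left hy))).mul (S.sq_inner hy.inv_left)

section

variable {e : G} (he : Commute e (z * z)) (he2 : e * e ∈ L)
include he he2

theorem mem_ext_iff {x : G} : x ∈ ext L e ↔ x ∈ L ∨ ∃ l ∈ L, l * e = x := by
  let M : Subgroup G :=
    { carrier := {x | x ∈ L ∨ ∃ l ∈ L, l * e = x}
      one_mem' := .inl (one_mem _)
      mul_mem' := by
        rintro a b (ha | ⟨l, hl, rfl⟩) (hb | ⟨m, hm, rfl⟩)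
        · exact .inl (mul_mem ha hb)
        · exact .inr ⟨a * m, mul_mem ha hm, by group⟩
        · exact .inr ⟨l * (e * b * e⁻¹), mul_mem hl (S.conj_mem he hb), by group⟩
        · refine .inl ?_
          rw [show l * e * (m * e) = l * (e * m * e⁻¹) * (e * e) by group]
          exact mul_mem (mul_mem hl (S.conj_mem he hm)) he2
      inv_mem' := by
        rintro a (ha | ⟨l, hl, rfl⟩)
        · exact .inl (inv_mem ha)
        · refine .inr ⟨(e * e)⁻¹ * (e * l⁻¹ * e⁻¹), mul_mem (inv_mem he2) (S.conj_mem he (inv_mem hl)), by group⟩ }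
  refine ⟨fun hx => (show ext L e ≤ M from sup_le (fun l hl => .inl hl)
    (zpowers_le.mpr (.inr ⟨1, one_mem _, one_mul e⟩))) hx, ?_⟩
  rintro (hx | ⟨l, hl, rfl⟩)
  · exact le_ext e hx
  · exact mul_mem (le_ext e hl) (mem_ext_self e)

theorem ext_comm {x : G} (hx : x ∈ ext L e) : Commute x (z * z) := by
  rcases (S.mem_ext_iff he he2).mp hx with h | ⟨l, hl, rfl⟩
  · exact S.comm_mem h
  · exact (S.comm_mem hl).mul_left he

theorem ext_inner (hout : ¬ Inner L e) {x : G} (hx : x ∈ ext L e) : Inner L x ↔ x ∈ L := by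
  refine ⟨fun h => ?_, inner_of_mem⟩
  rcases (S.mem_ext_iff he he2).mp hx with hx | ⟨l, hl, rfl⟩
  · exact hx
  · exact absurd ((Inner.mul_iff_right (inner_of_mem hl)).mp h) hout

theorem ext_index (hout : ¬ Inner L e) : L.relIndex (ext L e) = 2 := by
  rw [relIndex, index_eq_two_iff]
  refine ⟨⟨e, mem_ext_self e⟩, fun b => ?_⟩
  simp only [mem_subgroupOf, Subgroup.coe_mul]
  rcases (S.mem_ext_iff he he2).mp b.2 with hb | ⟨l, hl, hb⟩
  · exact Or.inr ⟨hb, fun h => hout (inner_of_mem ((L.mul_mem_cancel_left hb).mp h))⟩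
  · refine Or.inl ⟨?_, fun h => hout (inner_of_mem ((L.mul_mem_cancel_left hl).mp (hb ▸ h)))⟩
    rw [← hb, mul_assoc]
    exact mul_mem hl he2

/-- Coordinates on the extension by an element outside the product with the centraliser. -/
theorem exists_coord_ext (hout : ¬ Inner L e) :
    ∃ (i j : ℕ) (hi : i < 3) (y : G) (_ : y ∈ ext L e) (ht : z * z ∈ ext L e)
      (cd : Coord ↥(ext L e) (⟨z * z, ht⟩ : ext L e) (o, i, j)),
      ¬ Inner L y ∧ (∀ p : PC, y * (S.φ p : G) * y⁻¹ = (S.φ (outerTheta hi p) : G)) ∧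
      cd.M = L.subgroupOf (ext L e) ∧
      (∀ {w : List ℕ} (hw : okP w = true), (cd.v w : G) = (S.φ ⟨ev (gen 0) w, ev_mem_PC 0 hw⟩ : G)) ∧
      (cd.v [2] : G) = y := by
  classical
  have hLC : L ≤ ext L e := le_ext e
  have hord : orderOf (⟨z, S.z_mem⟩ : L) = 4 := by rw [Subgroup.orderOf_mk, S.z_ord]
  have hcent : ∀ x ∈ ext L e, (∀ m ∈ L, x * m = m * x) → x ∈ L := fun x hx h =>
    (S.ext_inner he he2 hout hx).mp (inner_of_cent (mem_centralizer_iff.mpr fun m hm => (h m hm).symm))
  obtain ⟨i, j, hi, y, hmem, hyC, hyM, hconj, hyy⟩ := exists_outer (ext L e) L hLC (S.ext_index he he2 hout)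
    (fun x hx m hm => S.conj_mem (S.ext_comm he he2 hx) hm) S.perfect hcent S.σ_surj S.σ_ker S.φ_surj S.σφ S.o_lt
    S.center_eq hord S.φ_val
  set t' : ext L e := ⟨z * z, hLC S.t_mem⟩ with ht'
  let Mg : Subgroup (ext L e) := L.subgroupOf (ext L e)
  let em : Mg ≃* L := subgroupOfEquivOfLe hLC
  have hC : (⊤ : Subgroup (ext L e)) = centralizer ({t'} : Set (ext L e)) :=
    (eq_top_iff.mpr fun x _ => mem_centralizer_singleton_iff.mpr (Subtype.ext (S.ext_comm he he2 x.2).eq)).symm
  have hidx : Mg.relIndex ⊤ = 2 := by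
    rw [relIndex_top_right]; exact S.ext_index he he2 hout
  have hσk : (S.σ.comp em.toMonoidHom).ker = center Mg := by
    ext m
    rw [MonoidHom.mem_ker, MonoidHom.comp_apply, ← MonoidHom.mem_ker, S.σ_ker, mem_center_iff, mem_center_iff]
    refine ⟨fun h n => em.injective ?_, fun h n => ?_⟩
    · rw [map_mul, map_mul]; exact h (em n)
    · obtain ⟨n, rfl⟩ := em.surjective n
      exact (map_mul em n m).symm.trans ((congrArg em (h n)).trans (map_mul em m n))
  have hZ : center Mg = zpowers (em.symm ⟨z, S.z_mem⟩) := by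
    rw [← hσk]
    ext m
    rw [MonoidHom.mem_ker, MonoidHom.comp_apply, ← MonoidHom.mem_ker, S.σ_ker, S.center_eq, mem_zpowers_iff,
      mem_zpowers_iff]
    refine exists_congr fun k => ?_
    rw [← map_zpow, MulEquiv.symm_apply_eq]
    rfl
  obtain ⟨cd, hcM, hcv, hcy⟩ := coord_of_outer t' (by rw [ht', Subgroup.orderOf_mk, S.t_ord]) ⊤ Mg hC le_top hidx
    (fun x _ h => mem_subgroupOf.mpr (hcent x x.2 fun m hm => congrArg Subtype.val (h ⟨m, hLC hm⟩ (mem_subgroupOf.mpr hm))))
    (σ := S.σ.comp em.toMonoidHom) (φ := em.symm.toMonoidHom.comp S.φ) (ζ := em.symm ⟨z, S.z_mem⟩)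
    (S.σ_surj.comp em.surjective) hσk (em.symm.surjective.comp S.φ_surj)
    (MonoidHom.ext fun p => (congrArg S.σ (em.apply_symm_apply (S.φ p))).trans (DFunLike.congr_fun S.σφ p))
    S.o_lt hZ (by rw [MulEquiv.orderOf_eq, hord]) (fun a ha => by
      rw [MonoidHom.comp_apply, S.φ_val a ha, map_pow]; rfl) hi (y := ⟨y, hyC⟩) hmem (mem_top _)
    (fun h => hyM (mem_subgroupOf.mp h)) (fun p => Subtype.ext (hconj p)) (Subtype.ext hyy)
  refine ⟨i, j, hi, y, hyC, hLC S.t_mem, cd, fun h => hyM ((S.ext_inner he he2 hout hyC).mp h), hconj, hcM,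
    fun {w} hw => ?_, by rw [hcy]⟩
  rw [hcv hw]
  rfl

end

end Base

end CfsgLib.StdON
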