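import Cfsg.Agent.Lib.StdON.Emb
import Cfsg.Agent.Lib.StdON.Types

/-!
An outer element can always be adjoined to the standard subgroup.
-/

set_option autoImplicit false
set_option maxRecDepth 30000
set_option maxHeartbeats 800000
set_option linter.unusedSectionVars false
set_option linter.style.haveILetI false

namespace CfsgLib.StdON

open Subgroup CfsgON CfsgPC
open CfsgLib.StemSylow.PlaneFour

universe u

attribute [local irreducible] pGens xGens pChain smallChain smallGens zWords cWords conjWords outPerm outGens outPairs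
  outActs outWords outTable

/-- The second outer permutation preserves both kernels. -/
theorem act_one_kernel : ((List.range 2).all fun o => (List.range 16).all fun a =>
    !(fval (kind o) a == 0) || fval (kind o) (comb (outActs.getD 1 (0, 0)).1 (outActs.getD 1 (0, 0)).2 a) == 0) = true := by
  decide +kernel

variable {G : Type u} [Group G] [Finite G] {L : Subgroup G} {z : G} {o : ℕ}

namespace Base

variable (S : Base L z o)
include S

theorem ord_zL : orderOf (⟨z, S.z_mem⟩ : L) = 4 := by rw [Subgroup.orderOf_mk, S.z_ord]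

theorem φ_z : S.φ ⟨zel 4, ev_mem_PC 0 (z_okP 4)⟩ = ⟨z, S.z_mem⟩ := by
  rw [S.φ_val 4 (by norm_num)]
  have ho := S.o_lt
  rw [show fval (kind o) 4 = 1 from by interval_cases o <;> rfl, pow_one]

theorem ker_φ {p : PC} (hp : S.φ p = 1) :
    ∃ a < 16, p = ⟨zel a, ev_mem_PC 0 (z_okP a)⟩ ∧ fval (kind o) a = 0 := by
  have hk : p ∈ proj.ker := by rw [MonoidHom.mem_ker, ← S.σφ, MonoidHom.comp_apply, hp, map_one]
  obtain ⟨a, ha, e⟩ := (ker_proj_iff p).mp hk
  have e' : p = ⟨zel a, ev_mem_PC 0 (z_okP a)⟩ := Subtype.ext e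
  rw [e', S.φ_val a ha] at hp
  have h4 := orderOf_dvd_of_pow_eq_one hp
  rw [S.ord_zL] at h4
  exact ⟨a, ha, e', Nat.eq_zero_of_dvd_of_lt h4 (Nat.mod_lt _ (by norm_num))⟩

/-- The automorphism of the subgroup induced by the second outer permutation. -/
theorem exists_theta : ∃ θ : MulAut L, θ * θ = 1 ∧
    ∀ p : PC, θ (S.φ p) = S.φ (outerTheta (show 1 < 3 by norm_num) p) := by
  classical
  have hi : (1 : ℕ) < 3 := by norm_num
  have hk : ∀ p, S.φ p = 1 → S.φ (outerTheta hi p) = 1 := by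
    intro p hp
    obtain ⟨a, ha, e, hf⟩ := S.ker_φ hp
    have him : (lift (outerAut hi) ⟨zel a, ev_mem_PC 0 (z_okP a)⟩ : Equiv.Perm (Fin 504)) =
        zel (comb (outActs.getD 1 (0, 0)).1 (outActs.getD 1 (0, 0)).2 a) := (act_outer hi).image ha
    have h := List.all_eq_true.mp (List.all_eq_true.mp act_one_kernel o (List.mem_range.mpr S.o_lt)) a
      (List.mem_range.mpr ha)
    rw [hf, beq_self_eq_true, Bool.not_true, Bool.false_or, beq_iff_eq] at h
    rw [lift_outerAut hi] at him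
    rw [e, show outerTheta hi ⟨zel a, _⟩ = ⟨zel (comb (outActs.getD 1 (0, 0)).1 (outActs.getD 1 (0, 0)).2 a),
      ev_mem_PC 0 (z_okP _)⟩ from Subtype.ext him, S.φ_val _ (comb_lt _ _ _), h, pow_zero]
  let f : L → L := fun m => S.φ (outerTheta hi (S.φ_surj m).choose)
  have hf : ∀ p, f (S.φ p) = S.φ (outerTheta hi p) := fun p => by
    have e := (S.φ_surj (S.φ p)).choose_spec
    have h1 : S.φ ((S.φ_surj (S.φ p)).choose * p⁻¹) = 1 := by rw [map_mul, e, map_inv, mul_inv_cancel]
    have h2 := hk _ h1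
    rw [map_mul, map_inv, map_mul, map_inv, mul_inv_eq_one] at h2
    exact h2
  have hinv : ∀ m, f (f m) = m := fun m => by
    obtain ⟨p, rfl⟩ := S.φ_surj m
    refine (congrArg f (hf p)).trans ((hf _).trans ?_)
    refine congrArg S.φ (Subtype.ext ?_)
    show gen 1 2 * (gen 1 2 * (p : Equiv.Perm (Fin 504)) * (gen 1 2)⁻¹) * (gen 1 2)⁻¹ = p
    rw [show gen 1 2 * (gen 1 2 * (p : Equiv.Perm (Fin 504)) * (gen 1 2)⁻¹) * (gen 1 2)⁻¹ =
      gen 1 2 * gen 1 2 * (p : Equiv.Perm (Fin 504)) * (gen 1 2 * gen 1 2)⁻¹ by group, (outer_sq_comm hi p.2).eq,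
      mul_inv_cancel_right]
  let θ : MulAut L :=
    { toFun := f
      invFun := f
      left_inv := hinv
      right_inv := hinv
      map_mul' := fun a b => by
        obtain ⟨p, rfl⟩ := S.φ_surj a
        obtain ⟨q, rfl⟩ := S.φ_surj b
        rw [← map_mul, hf, hf, hf, map_mul, map_mul] }
  exact ⟨θ, MulEquiv.ext hinv, hf⟩

/-- The two cases of the second outer permutation with square one. -/
theorem model_case : (o, 1, 0) ∈ caseList := by
  have ho := S.o_lt
  interval_cases o <;> simp [caseList]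

/-- The standard subgroup lies with index two in a group with coordinates. -/
theorem exists_model : ∃ (Γ : Type u) (_ : Group Γ) (_ : Finite Γ),
    Nonempty (Emb Γ (⟨z, S.z_mem⟩ : L) S.φ (o, 1, 0)) := by
  classical
  obtain ⟨θ, hθ2, hθ⟩ := S.exists_theta
  have hpow : ∀ n : ℕ, θ ^ n = θ ^ (n % 2) := fun n => by
    conv_lhs => rw [← Nat.mod_add_div n 2, pow_add, pow_mul, pow_two, hθ2, one_pow, mul_one]
  let ψ : Multiplicative (ZMod 2) →* MulAut L := MonoidHom.mk' (fun m => θ ^ (Multiplicative.toAdd m).val) fun a b => by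
    rw [← pow_add, hpow ((Multiplicative.toAdd a).val + _), toAdd_mul, ZMod.val_add]
  let Γ := L ⋊[ψ] Multiplicative (ZMod 2)
  let ι : L →* Γ := SemidirectProduct.inl
  let y : Γ := SemidirectProduct.inr (Multiplicative.ofAdd 1)
  haveI : Finite Γ := Finite.of_equiv _ SemidirectProduct.equivProd.symm
  have hy : ∀ m : L, y * ι m * y⁻¹ = ι (θ m) := fun m => by
    rw [show θ m = ψ (Multiplicative.ofAdd 1) m from by
      show θ m = (θ ^ (1 : ZMod 2).val) m
      rw [ZMod.val_one, pow_one]]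
    show _ = SemidirectProduct.inl _
    rw [SemidirectProduct.inl_aut, map_inv]
  have hyy : y * y = 1 := by
    rw [← map_mul, ← ofAdd_add, show (1 : ZMod 2) + 1 = 0 from rfl, ofAdd_zero, map_one]
  let Mg : Subgroup Γ := ι.range
  have hmemM : ∀ x : Γ, x ∈ Mg ↔ x.right = 1 := fun x => by
    rw [show Mg = ι.range from rfl, show ι.range = SemidirectProduct.rightHom.ker from
      SemidirectProduct.range_inl_eq_ker_rightHom, MonoidHom.mem_ker]
    rfl
  have hyM : y ∉ Mg := fun h => by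
    have h' := (hmemM y).mp h
    simp [y] at h'
  have hsplit : ∀ x : Γ, x ∈ Mg ∨ ∃ l : L, x = ι l * y := fun x => by
    rcases (show x.right = 1 ∨ x.right = Multiplicative.ofAdd 1 from by revert x; intro x; generalize x.right = m; revert m; decide) with h | h
    · exact .inl ((hmemM x).mpr h)
    · exact .inr ⟨x.left, (SemidirectProduct.inl_left_mul_inr_right x).symm.trans (by rw [h])⟩
  have hidx : Mg.relIndex ⊤ = 2 := by
    rw [relIndex_top_right, index_eq_two_iff]
    refine ⟨y, fun b => ?_⟩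
    rcases hsplit b with hb | ⟨l, rfl⟩
    · exact Or.inr ⟨hb, fun h => hyM ((Mg.mul_mem_cancel_left hb).mp h)⟩
    · refine Or.inl ⟨?_, fun h => hyM ((Mg.mul_mem_cancel_left ⟨l, rfl⟩).mp h)⟩
      rw [mul_assoc, hyy, mul_one]
      exact ⟨l, rfl⟩
  have hzt : ∀ l : L, Commute l ((⟨z, S.z_mem⟩ : L) * ⟨z, S.z_mem⟩) := fun l => Subtype.ext (S.comm_mem l.2).eq
  have hθz : θ (⟨z, S.z_mem⟩ * ⟨z, S.z_mem⟩) = ⟨z, S.z_mem⟩ * ⟨z, S.z_mem⟩ := by
    have hord : orderOf ((⟨z, S.z_mem⟩ : L) * ⟨z, S.z_mem⟩) = 2 := by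
      rw [← Subgroup.orderOf_coe]; exact S.t_ord
    have hm : θ (⟨z, S.z_mem⟩ * ⟨z, S.z_mem⟩) ∈ center L := by
      rw [← Subgroup.characteristic_iff_map_eq.mp (inferInstance : (center L).Characteristic) θ]
      exact mem_map_of_mem _ (mem_center_iff.mpr fun l => (hzt l).eq)
    rcases S.inter_invol (θ _).2 (mem_centralizer_iff.mpr fun l hl =>
      congrArg Subtype.val (mem_center_iff.mp hm ⟨l, hl⟩)) (by
        rw [← Subgroup.coe_mul, ← map_mul, ← pow_two, ← hord, pow_orderOf_eq_one, map_one]; rfl) with h | h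
    · exfalso
      have h' : θ (⟨z, S.z_mem⟩ * ⟨z, S.z_mem⟩) = 1 := Subtype.ext h
      rw [θ.map_eq_one_iff] at h'
      rw [h', orderOf_one] at hord
      omega
    · exact Subtype.ext h
  have hC : (⊤ : Subgroup Γ) = centralizer ({ι (⟨z, S.z_mem⟩ * ⟨z, S.z_mem⟩)} : Set Γ) := by
    refine (eq_top_iff.mpr fun x _ => mem_centralizer_singleton_iff.mpr ?_).symm
    have hyt : Commute y (ι (⟨z, S.z_mem⟩ * ⟨z, S.z_mem⟩)) := mul_inv_eq_iff_eq_mul.mp (by rw [hy, hθz])
    rcases hsplit x with ⟨l, rfl⟩ | ⟨l, rfl⟩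
    · exact ((hzt l).map ι).eq
    · exact (((hzt l).map ι).mul_left hyt).eq
  let em : L ≃* Mg := MonoidHom.ofInjective SemidirectProduct.inl_injective
  have hσk : (S.σ.comp em.symm.toMonoidHom).ker = center Mg := by
    ext m
    rw [MonoidHom.mem_ker, MonoidHom.comp_apply, ← MonoidHom.mem_ker, S.σ_ker, mem_center_iff, mem_center_iff]
    refine ⟨fun h n => em.symm.injective ?_, fun h n => ?_⟩
    · rw [map_mul, map_mul]; exact h (em.symm n)
    · obtain ⟨n, rfl⟩ := em.symm.surjective n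
      exact (map_mul em.symm n m).symm.trans ((congrArg em.symm (h n)).trans (map_mul em.symm m n))
  have hZ : center Mg = zpowers (em ⟨z, S.z_mem⟩) := by
    rw [← hσk]
    ext m
    rw [MonoidHom.mem_ker, MonoidHom.comp_apply, ← MonoidHom.mem_ker, S.σ_ker, S.center_eq, mem_zpowers_iff,
      mem_zpowers_iff]
    refine exists_congr fun k => ?_
    rw [← map_zpow, ← em.eq_symm_apply]
    rfl
  have hout : ∀ x ∈ (⊤ : Subgroup Γ), (∀ m ∈ Mg, x * m = m * x) → x ∈ Mg := by
    intro x _ h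
    rcases hsplit x with hx | ⟨l, rfl⟩
    · exact hx
    exfalso
    have hθl : ∀ m : L, θ m = l⁻¹ * m * l := fun m => by
      refine SemidirectProduct.inl_injective (φ := ψ) ?_
      show ι (θ m) = ι (l⁻¹ * m * l)
      rw [← hy, map_mul, map_mul, map_inv]
      calc y * ι m * y⁻¹ = (ι l)⁻¹ * (ι l * y * ι m) * y⁻¹ := by simp [mul_assoc]
        _ = (ι l)⁻¹ * ι m * ι l := by rw [h (ι m) ⟨m, rfl⟩]; simp [mul_assoc]; exact mul_inv_cancel y
    have hi : (1 : ℕ) < 3 := by norm_num
    obtain ⟨q, hq⟩ := proj_surjective (S.σ l)⁻¹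
    have he : outerAut hi = MulAut.conj (S.σ l)⁻¹ := MulEquiv.ext fun w => by
      obtain ⟨p, rfl⟩ := proj_surjective w
      rw [outerAut_proj, ← S.σφ, MonoidHom.comp_apply, MonoidHom.comp_apply, ← hθ, hθl, map_mul, map_mul, map_inv,
        MulAut.conj_apply, inv_inv]
    have hA := (act_outer hi).unique (he ▸ act_inner _)
    exact absurd hA (by decide +kernel)
  obtain ⟨cd, hcM, hcv, -⟩ := coord_of_outer (ι (⟨z, S.z_mem⟩ * ⟨z, S.z_mem⟩))
    (by rw [orderOf_injective ι SemidirectProduct.inl_injective, ← Subgroup.orderOf_coe]; exact S.t_ord) ⊤ Mg hC le_top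
    hidx hout (σ := S.σ.comp em.symm.toMonoidHom) (φ := em.toMonoidHom.comp S.φ) (ζ := em ⟨z, S.z_mem⟩)
    (S.σ_surj.comp em.symm.surjective) hσk (em.surjective.comp S.φ_surj)
    (MonoidHom.ext fun p => (congrArg S.σ (em.symm_apply_apply (S.φ p))).trans (DFunLike.congr_fun S.σφ p))
    S.o_lt hZ (by rw [MulEquiv.orderOf_eq, S.ord_zL]) (fun a ha => by
      rw [MonoidHom.comp_apply, S.φ_val a ha, map_pow]; rfl) (show 1 < 3 by norm_num) (y := y) S.model_case (mem_top _)
    hyM (fun p => (hy (S.φ p)).trans (congrArg ι (hθ p))) (by rw [hyy, pow_zero])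
  refine ⟨Γ, inferInstance, inferInstance,
    ⟨⟨ι, SemidirectProduct.inl_injective, cd, hcM.symm, fun {w} hw => (hcv hw).trans rfl, hC.symm, S.φ_z⟩⟩⟩

end Base

end CfsgLib.StdON
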