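import Cfsg.Agent.Lib.StdON.Cosets

/-!
Counting square roots: in one extension, and across a swap of the two involutions.
-/

set_option autoImplicit false
set_option maxHeartbeats 800000
set_option linter.unusedSectionVars false

namespace CfsgLib.StdON

open Subgroup CfsgON CfsgPC
open CfsgLib.StemSylow.PlaneFour

universe u

attribute [local irreducible] pGens xGens zWords gsX

variable {G : Type u} [Group G] [Finite G] {L : Subgroup G} {z : G} {o : ℕ}

/-- The inner roots. -/
def inSet (L : Subgroup G) (a w : G) : Set G := {x | x ∈ L ∧ Commute x a ∧ x * x = w}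

/-- The outer roots in one extension. -/
def outSet (L C : Subgroup G) (a w : G) : Set G := {x | x ∈ C ∧ ¬ Inner L x ∧ Commute x a ∧ x * x = w}

theorem okW_tW : okW tW = true := okW_z 8

namespace Loc

variable {S : Base L z o} {D : FData} {C : Subgroup G} (P : Loc S D C)
include P

theorem v_t' : ((P.E.cd.v tW : C) : G) = z * z := by rw [P.E.v_tW]; exact P.ι_t

theorem v_injOn : Set.InjOn (fun r : List ℕ => ((P.E.cd.v r : C) : G)) {r | r ∈ D.rList} := fun _ ha _ hb e =>
  List.inj_on_of_nodup_map (FData.cent_u P.good P.E.cd).2.2.1 ha hb (Subtype.ext e)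

theorem outR_nodup : (outR D).Nodup := (List.Nodup.of_map _ (FData.cent_u P.good P.E.cd).2.2.1).filter _

theorem outR_mem {r : List ℕ} (hr : r ∈ outR D) :
    ((P.E.cd.v r : C) : G) ∈ C ∧ ¬ Inner L ((P.E.cd.v r : C) : G) ∧
      Commute ((P.E.cd.v r : C) : G) ((P.E.cd.v D.u : C) : G) :=
  ⟨(P.E.cd.v r).2, fun h => P.E.outR_out P.good hr ((P.range_inner _).mpr h),
    P.commute_coe (P.E.comm_u P.good (mem_outR hr).1)⟩

theorem K_iff_coe {r s : List ℕ} (hr : okW r = true) (hs : okW s = true) :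
    Nat.beq (D.K (r ++ r)) (D.K s) = true ↔
      ((P.E.cd.v r : C) : G) * ((P.E.cd.v r : C) : G) = ((P.E.cd.v s : C) : G) := by
  rw [P.E.K_eq P.good (okW_append.mpr ⟨hr, hr⟩) hs, P.E.cd.v_append hr hr, ← Subgroup.coe_mul]
  exact ⟨fun h => congrArg Subtype.val h, fun h => Subtype.ext h⟩

/-- Moved to the listed centraliser, the roots of a word. -/
theorem card_outSet {a w : G} {q : List ℕ} (hq : okW q = true) {l : G} (hl : l ∈ L)
    (el : l * a * l⁻¹ = ((P.E.cd.v D.u : C) : G)) (ew : l * w * l⁻¹ = ((P.E.cd.v q : C) : G)) (p : G → Prop)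
    (b : List ℕ → Bool) (hpb : ∀ r ∈ outR D, p (l⁻¹ * ((P.E.cd.v r : C) : G) * l) ↔ b r = true) :
    {x ∈ outSet L C a w | p x}.ncard = ((outR D).filter fun r => Nat.beq (D.K (r ++ r)) (D.K q) && b r).length := by
  classical
  let f : List ℕ → G := fun r => l⁻¹ * ((P.E.cd.v r : C) : G) * l
  set R := (outR D).filter fun r => Nat.beq (D.K (r ++ r)) (D.K q) && b r with hR
  have hset : {x ∈ outSet L C a w | p x} = f '' {r | r ∈ R} := by
    ext x
    simp only [outSet, hR, Set.mem_image, Set.mem_setOf_eq, List.mem_filter, Bool.and_eq_true, f]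
    constructor
    · rintro ⟨⟨hx, ho, hc, e⟩, hp⟩
      have hm : l * x * l⁻¹ ∈ C := mul_mem (mul_mem (P.le hl) hx) (inv_mem (P.le hl))
      obtain ⟨r, hr, er⟩ := P.E.exists_outR P.good (g := (⟨_, hm⟩ : C)) (P.commute_of (el ▸ hc.conj l))
        fun h => ho ((S.conj_inner_iff (S.comm_mem hl)).mp ((P.range_inner _).mp h))
      have ex : l⁻¹ * ((P.E.cd.v r : C) : G) * l = x := by
        rw [congrArg Subtype.val er]
        group
      refine ⟨r, ⟨hr, ?_, (hpb r hr).mp (ex.symm ▸ hp)⟩, ex⟩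
      rw [P.K_iff_coe (P.E.ok_r P.good (mem_outR hr).1) hq, ← ew, congrArg Subtype.val er, ← e]
      group
    · rintro ⟨r, ⟨hr, hk, hb⟩, rfl⟩
      obtain ⟨h1, h2, h3⟩ := P.outR_mem hr
      refine ⟨⟨mul_mem (mul_mem (inv_mem (P.le hl)) h1) (P.le hl), fun h => h2 ?_, ?_, ?_⟩, (hpb r hr).mpr hb⟩
      · refine (S.conj_inner_iff (S.comm_mem hl).inv_left).mp ?_
        simpa using h
      · rw [show a = l⁻¹ * ((P.E.cd.v D.u : C) : G) * l by rw [← el]; group]
        simpa using h3.conj l⁻¹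
      · rw [P.K_iff_coe (P.E.ok_r P.good (mem_outR hr).1) hq, ← ew] at hk
        calc _ = l⁻¹ * (((P.E.cd.v r : C) : G) * ((P.E.cd.v r : C) : G)) * l := by group
          _ = w := by rw [hk]; group
  rw [hset, Set.InjOn.ncard_image, ← List.toFinset_card_of_nodup ((P.outR_nodup).filter _),
    ← Set.ncard_coe_finset]
  · congr 1
    ext r
    simp [hR]
  · intro r hr s hs e
    exact P.v_injOn (mem_outR (List.mem_filter.mp hr).1).1 (mem_outR (List.mem_filter.mp hs).1).1
      (mul_left_cancel (mul_right_cancel e))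

theorem outRoots_t {a : G} (ha : InvL L z a) : (outSet L C a (z * z)).ncard = outRoots D D.K tW := by
  obtain ⟨l, hl, el, -⟩ := P.exists_moved ha
  have h := P.card_outSet okW_tW hl el (w := z * z) (by rw [S.conjL_t hl, P.v_t']) (fun _ => True) (fun _ => true)
    fun _ _ => iff_of_true trivial rfl
  simpa [outRoots] using h

theorem outRoots_a {a : G} (ha : InvL L z a) : (outSet L C a a).ncard = outRoots D D.K D.u := by
  obtain ⟨l, hl, el, -⟩ := P.exists_moved ha
  have h := P.card_outSet (FData.ok_u P.good) hl el (w := a) el (fun _ => True) (fun _ => true)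
    fun _ _ => iff_of_true trivial rfl
  simpa [outRoots] using h

/-- A normalised root is one of the candidates. -/
theorem exists_cand {a c : G} (hcL : c ∈ L) (hcc : c * c = a) (hN : NormL L a c) {l : G} (hl : l ∈ L)
    (el : l * a * l⁻¹ = ((P.E.cd.v D.u : C) : G)) :
    ∃ s ∈ inR D, isCand D D.K s = true ∧ ((P.E.cd.v s : C) : G) = l * c * l⁻¹ := by
  obtain ⟨a', ha'⟩ := P.E.exists_u P.good
  have ea : (a' : G) = l * a * l⁻¹ := by rw [el, ← ha', P.coe_ι]
  have hca : Commute c a := hcc ▸ (Commute.refl c).mul_right (Commute.refl c)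
  obtain ⟨s, hs, es⟩ := P.E.exists_inR P.good ha' (h := ⟨l * c * l⁻¹, mul_mem (mul_mem hl hcL) (inv_mem hl)⟩)
    (Subtype.ext (show l * c * l⁻¹ * (a' : G) = (a' : G) * (l * c * l⁻¹) by rw [ea]; exact (hca.conj l).eq))
  have es' : ((P.E.cd.v s : C) : G) = l * c * l⁻¹ := by rw [es, P.coe_ι]
  have hs' := P.E.ok_r P.good (mem_inR hs).1
  refine ⟨s, hs, ?_, es'⟩
  simp only [isCand, Bool.and_eq_true]
  refine ⟨⟨(mem_inR hs).2, ?_⟩, (P.E.normRoot_iff P.good ha' hs').mpr fun x hx => ?_⟩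
  · rw [P.K_iff_coe hs' (FData.ok_u P.good), es', ← el, ← hcc]; group
  · refine ((hN.conj hl) x x.2 (ea ▸ congrArg Subtype.val hx.eq)).imp (fun e => Subtype.ext ?_) fun e => Subtype.ext ?_
    · rw [Subgroup.coe_mul, Subgroup.coe_mul, InvMemClass.coe_inv, P.coe_ι, es', e]
    · rw [Subgroup.coe_mul, Subgroup.coe_mul, InvMemClass.coe_inv, Subgroup.coe_mul, P.coe_ι, P.coe_ι, es', e, ea]

theorem candRoots_le {a c : G} (ha : InvL L z a) (hcL : c ∈ L) (hcc : c * c = a) (hN : NormL L a c) {n : ℕ}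
    (hchk : candRootsChk D D.K n = true) : {x ∈ outSet L C a a | Commute x c}.ncard ≤ n := by
  obtain ⟨l, hl, el, -⟩ := P.exists_moved ha
  obtain ⟨s, hs, hcand, es⟩ := P.exists_cand hcL hcc hN hl el
  rw [P.card_outSet (FData.ok_u P.good) hl el el (fun x => Commute x c) (fun r => commK D.K r s) fun r hr => ?_]
  · have h := List.all_eq_true.mp hchk s hs
    rw [hcand] at h
    simpa [Nat.ble_eq] using h
  · rw [P.E.commK_iff P.good (P.E.ok_r P.good (mem_outR hr).1) (P.E.ok_r P.good (mem_inR hs).1)]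
    constructor
    · intro hc
      refine P.commute_of ?_
      rw [es]
      simpa [mul_assoc] using hc.conj l
    · intro hc
      have := P.commute_coe hc
      rw [es] at this
      simpa [mul_assoc] using this.conj l⁻¹

end Loc

namespace IsSwap

variable {S : Base L z o} {a h : G} (W : IsSwap S a h)
include W

theorem symm_mem {d : G} (hd : d ∈ dCore L h) : h⁻¹ * d * h ∈ dCore L h := by
  obtain ⟨h1, h2⟩ := W.mem_dCore_iff.mp hd
  refine W.odd_mem (mem_dCore.mp hd).2 ?_
  rwa [show h⁻¹ * d * h = MulAut.conj h⁻¹ d by simp, MulEquiv.orderOf_eq]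

/-- A transversal of the odd part in the common centraliser maps the roots of the one involution to the roots of the
other. -/
theorem transfer_roots (T : Set G) (hT : ∀ x ∈ T, Commute x (z * z) ∧ Commute x a ∧ x * x ∈ L)
    (huniq : ∀ x ∈ T, ∀ y ∈ T, y⁻¹ * x ∈ dCore L h → x = y)
    (hcover : ∀ x, Commute x (z * z) → Commute x a → ∃ r ∈ T, ∃ d ∈ dCore L h, r * d = x) :
    {x ∈ T | x * x = z * z}.ncard ≤ {x ∈ T | x * x = a}.ncard ∧
      {x ∈ T | x * x = z * z ∧ Commute x z}.ncard ≤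
        {x ∈ T | x * x = a ∧ Commute x (h * z * h⁻¹)}.ncard := by
  classical
  have hex : ∀ x, ∃ r, x ∈ T → r ∈ T ∧ r⁻¹ * (h * x * h⁻¹) ∈ dCore L h := fun x => by
    by_cases hx : x ∈ T
    · obtain ⟨r, hr, d, hd, e⟩ := hcover _ (W.conj_comm_t (hT x hx).2.1) (W.conj_comm_a (hT x hx).1)
      exact ⟨r, fun _ => ⟨hr, by rw [← e, inv_mul_cancel_left]; exact hd⟩⟩
    · exact ⟨1, fun h => absurd h hx⟩
  choose f hf using hex
  have hinj : Set.InjOn f T := fun x hx y hy e => huniq x hx y hy (by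
    have h1 := mul_mem (inv_mem (hf y hy).2) (hf x hx).2
    rw [e] at h1
    have h2 := W.symm_mem h1
    convert h2 using 1
    group)
  have hsq : ∀ x ∈ T, x * x = z * z → f x * f x = a := fun x hx e => by
    obtain ⟨hr, hd⟩ := hf x hx
    obtain ⟨d, hde, hd⟩ : ∃ d, f x * d = h * x * h⁻¹ ∧ d ∈ dCore L h := ⟨_, mul_inv_cancel_left _ _, hd⟩
    have e2 : f x * f x * ((f x)⁻¹ * d * (f x)⁻¹⁻¹ * d) = a := by
      calc _ = f x * d * (f x * d) := by group
        _ = h * (x * x) * h⁻¹ := by rw [hde]; group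
        _ = a := by rw [e, W.ht]
    exact (W.decomp_unique (hT _ hr).2.2 W.inv.1 (mul_mem (W.dCore_conj (hT _ hr).1.inv_left hd) hd) (one_mem _)
      (by rw [mul_one]; exact e2)).1
  constructor
  · refine Set.ncard_le_ncard_of_injOn f (fun x hx => ⟨(hf x hx.1).1, hsq x hx.1 hx.2⟩)
      (hinj.mono fun x hx => hx.1) (Set.toFinite _)
  · refine Set.ncard_le_ncard_of_injOn f (fun x hx => ⟨(hf x hx.1).1, hsq x hx.1 hx.2.1, ?_⟩)
      (hinj.mono fun x hx => hx.1) (Set.toFinite _)
    obtain ⟨hr, hd⟩ := hf x hx.1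
    rw [show f x = h * x * h⁻¹ * ((f x)⁻¹ * (h * x * h⁻¹))⁻¹ by group]
    exact (hx.2.2.conj h).mul_left (W.commute_dCore W.zc_mem.1 hd).symm.inv_left

end IsSwap

end CfsgLib.StdON
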