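import Cfsg.Agent.Lib.StdON.Fusion

/-!
The consequences of an element swapping the central involution with one of the standard subgroup.
-/

set_option autoImplicit false
set_option maxHeartbeats 800000
set_option linter.unusedSectionVars false
set_option linter.style.haveILetI false

namespace CfsgLib.StdON

open Subgroup CfsgON CfsgPC
open CfsgLib.StemSylow.PlaneFour

universe u

variable {G : Type u} [Group G] [Finite G] {L : Subgroup G} {z : G} {o : ℕ}

/-- An element swapping the two involutions. -/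
structure IsSwap (S : Base L z o) (a h : G) : Prop where
  inv : InvL L z a
  ht : h * (z * z) * h⁻¹ = a
  ha : h * a * h⁻¹ = z * z

/-- The common part of the centraliser of the subgroup and its conjugate. -/
def dCore (L : Subgroup G) (h : G) : Subgroup G :=
  centralizer (L : Set G) ⊓ (centralizer (L : Set G)).map (MulAut.conj h).toMonoidHom

theorem mem_dCore {h x : G} :
    x ∈ dCore L h ↔ x ∈ centralizer (L : Set G) ∧ h⁻¹ * x * h ∈ centralizer (L : Set G) := by
  simp only [dCore, mem_inf]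
  refine and_congr_right fun _ => ⟨?_, fun hx => ⟨h⁻¹ * x * h, hx, by simp [mul_assoc]⟩⟩
  rintro ⟨k, hk, rfl⟩
  simpa [mul_assoc] using hk

namespace IsSwap

variable {S : Base L z o} {a h : G} (W : IsSwap S a h)
include W

theorem symm : IsSwap S a h⁻¹ := ⟨W.inv, by
  rw [← W.ha]; group, by rw [← W.ht]; group⟩

theorem back_t : h⁻¹ * (z * z) * h = a := by rw [← W.ha]; group

theorem back_a : h⁻¹ * a * h = z * z := by rw [← W.ht]; group

theorem a_notK : a ∉ centralizer (L : Set G) := fun hk =>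
  (S.inter_invol W.inv.1 hk W.inv.2.1).elim W.inv.2.2.1 W.inv.2.2.2

theorem not_comm : ¬ Commute h (z * z) := fun hc => W.inv.2.2.2 (by rw [← W.ht, hc.eq, mul_inv_cancel_right])

theorem cent_comm_a {k : G} (hk : k ∈ centralizer (L : Set G)) : Commute k a := (commute_cent W.inv.1 hk).symm

theorem conj_comm_t {x : G} (hx : Commute x a) : Commute (h * x * h⁻¹) (z * z) := W.ha ▸ hx.conj h

theorem conj_comm_a {x : G} (hx : Commute x (z * z)) : Commute (h * x * h⁻¹) a := W.ht ▸ hx.conj h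

theorem back_comm {x : G} (hx : Commute x a) : Commute (h⁻¹ * x * h) (z * z) := by
  simpa using W.symm.conj_comm_t hx

theorem sq_comm : Commute (h * h) (z * z) := by
  refine mul_inv_eq_iff_eq_mul.mp ?_
  calc h * h * (z * z) * (h * h)⁻¹ = h * (h * (z * z) * h⁻¹) * h⁻¹ := by group
    _ = z * z := by rw [W.ht, W.ha]

/-- The centraliser of the subgroup has one involution. -/
theorem cent_invol {k : G} (hk : k ∈ centralizer (L : Set G)) (h2 : k * k = 1) (h1 : k ≠ 1) : k = z * z := by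
  have e := S.cent_meet (g := h) (w := h * k * h⁻¹) (W.ht.symm ▸ W.inv.2.2.2) (W.ht.symm ▸ inner_of_mem W.inv.1)
    (by simpa [mul_assoc] using hk) (W.conj_comm_t (W.cent_comm_a hk))
    (by rw [show h * k * h⁻¹ * (h * k * h⁻¹) = h * (k * k) * h⁻¹ by group, h2]; group)
    (fun e => h1 (conj_eq_one_iff.mp e))
  exact mul_left_cancel (mul_right_cancel e)

theorem dCore_odd : Odd (Nat.card (dCore L h)) := by
  haveI : Fact (Nat.Prime 2) := ⟨Nat.prime_two⟩
  rw [← Nat.not_even_iff_odd, even_iff_two_dvd]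
  intro hd
  obtain ⟨w, hw⟩ := exists_prime_orderOf_dvd_card' 2 hd
  obtain ⟨h1, h2⟩ := mem_dCore.mp w.2
  have ho : orderOf (w : G) = 2 := by rw [Subgroup.orderOf_coe, hw]
  refine W.not_comm (S.tight h (w : G) h1 h2 ?_ ?_)
  · rw [← pow_two, ← ho, pow_orderOf_eq_one]
  · intro e; rw [e, orderOf_one] at ho; omega

theorem conj_odd_mem {k : G} (hk : k ∈ centralizer (L : Set G)) (hodd : Odd (orderOf k)) :
    h * k * h⁻¹ ∈ centralizer (L : Set G) := by
  set k' := h * k * h⁻¹ with hk'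
  have hc := W.conj_comm_t (W.cent_comm_a hk)
  have hca : Commute k' a := W.conj_comm_a (S.comm_cent hk)
  have ho : orderOf k' = orderOf k := MulEquiv.orderOf_eq (MulAut.conj h) k
  obtain ⟨m, hm⟩ := hodd
  have hin : Inner L k' := by
    have e : k' = k' ^ (m + 1) * k' ^ (m + 1) := by
      rw [← pow_add, show m + 1 + (m + 1) = orderOf k' + 1 by omega, pow_succ, pow_orderOf_eq_one, one_mul]
    rw [e]; exact S.sq_inner (hc.pow_left _)
  obtain ⟨l, hl, k1, hk1, e⟩ := hin
  have hla : Commute l a := by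
    rw [show l = k' * k1⁻¹ by rw [← e, mul_inv_cancel_right]]
    exact hca.mul_left (W.cent_comm_a hk1).inv_left
  have h8 : k' ^ 8 ∈ centralizer (L : Set G) := by
    rw [← e, (commute_cent hl hk1).mul_pow, S.exp8 W.inv hl hla, one_mul]
    exact pow_mem hk1 8
  have hcop : Nat.Coprime 8 (orderOf k') := by
    rw [ho, hm, show 8 = 2 ^ 3 from rfl]
    exact Nat.Coprime.pow_left 3 (by rw [Nat.coprime_two_left]; exact ⟨m, rfl⟩)
  obtain ⟨j, hj⟩ := exists_pow_eq_self_of_coprime hcop
  rw [← hj]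
  exact pow_mem h8 j

theorem odd_mem {k : G} (hk : k ∈ centralizer (L : Set G)) (hodd : Odd (orderOf k)) : k ∈ dCore L h :=
  mem_dCore.mpr ⟨hk, by simpa using (W.symm).conj_odd_mem hk hodd⟩

theorem mem_dCore_iff {k : G} : k ∈ dCore L h ↔ k ∈ centralizer (L : Set G) ∧ Odd (orderOf k) :=
  ⟨fun hk => ⟨(mem_dCore.mp hk).1, (W.dCore_odd).of_dvd_nat (Subgroup.orderOf_dvd_natCard _ hk)⟩,
    fun hk => W.odd_mem hk.1 hk.2⟩

theorem dCore_conj {c k : G} (hc : Commute c (z * z)) (hk : k ∈ dCore L h) : c * k * c⁻¹ ∈ dCore L h := by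
  obtain ⟨h1, h2⟩ := (W.mem_dCore_iff).mp hk
  refine W.odd_mem (S.conj_cent hc h1) ?_
  rwa [show c * k * c⁻¹ = MulAut.conj c k from rfl, MulEquiv.orderOf_eq]

theorem dCore_conj_h {k : G} (hk : k ∈ dCore L h) : h * k * h⁻¹ ∈ dCore L h := by
  obtain ⟨h1, h2⟩ := (W.mem_dCore_iff).mp hk
  refine W.odd_mem (W.conj_odd_mem h1 h2) ?_
  rwa [show h * k * h⁻¹ = MulAut.conj h k from rfl, MulEquiv.orderOf_eq]

/-- The image of `z`. -/
theorem zc_facts : Commute (h * z * h⁻¹) (z * z) ∧ h * z * h⁻¹ * (h * z * h⁻¹) = a ∧ Commute (h * z * h⁻¹) z ∧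
    NormL L a (h * z * h⁻¹) := by
  set z' := h * z * h⁻¹ with hz'
  have hzt : Commute z' (z * z) := W.conj_comm_t (W.cent_comm_a S.z_cent)
  have hsq : z' * z' = a := by rw [← W.ht, hz']; group
  have hinv : z'⁻¹ = z' * a := by
    refine inv_eq_of_mul_eq_one_right ?_
    rw [← mul_assoc, hsq, W.inv.2.1]
  have hnorm : ∀ {x : G}, Commute x a → x * z' * x⁻¹ = z' ∨ x * z' * x⁻¹ = z'⁻¹ := fun {x} hx => by
    rcases S.conj_z (W.back_comm hx) with e | e
    · left
      calc x * z' * x⁻¹ = h * (h⁻¹ * x * h * z * (h⁻¹ * x * h)⁻¹) * h⁻¹ := by rw [hz']; group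
        _ = z' := by rw [e]
    · right
      calc x * z' * x⁻¹ = h * (h⁻¹ * x * h * z * (h⁻¹ * x * h)⁻¹) * h⁻¹ := by rw [hz']; group
        _ = z'⁻¹ := by rw [e, hz']; group
  refine ⟨hzt, hsq, ?_, fun x _ hx => (hnorm hx).imp_right fun e => e.trans hinv⟩
  rcases S.conj_z hzt with e | e
  · exact mul_inv_eq_iff_eq_mul.mp e
  exfalso
  rcases hnorm (W.cent_comm_a S.z_cent) with f | f
  · refine S.t_ne ?_
    have f' : z'⁻¹ * z * z' = z := by rw [mul_assoc, mul_inv_eq_iff_eq_mul.mp f, inv_mul_cancel_left]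
    have e2 : z' * (z'⁻¹ * z * z') * z'⁻¹ = z := by group
    rw [f', e] at e2
    calc z * z = z⁻¹⁻¹ * z := by rw [inv_inv]
      _ = 1 := by rw [e2]; exact inv_mul_cancel z
  · refine W.inv.2.2.2 ?_
    calc a = z' * z' := hsq.symm
      _ = z' * (z * z' * z⁻¹)⁻¹ := by rw [f, inv_inv]
      _ = z' * z * z'⁻¹ * z⁻¹ := by group
      _ = z⁻¹ * z⁻¹ := by rw [e]
      _ = z * z := by rw [← mul_inv_rev]; exact inv_eq_of_mul_eq_one_right S.tt

/-- The image of `z` lies in the subgroup, so the cover is of the first kind. -/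
theorem zc_mem : h * z * h⁻¹ ∈ L ∧ o = 0 := by
  obtain ⟨hzt, hsq, hzz, hN⟩ := W.zc_facts
  set z' := h * z * h⁻¹
  have hza : Commute z' a := hsq ▸ (Commute.refl z').mul_right (Commute.refl z')
  by_cases hin : Inner L z'
  swap
  · obtain ⟨D, ⟨P⟩⟩ := S.exists_loc hzt (hsq ▸ W.inv.1) hin
    exact (P.no_outer_root W.inv (mem_ext_self z') hin hzz hsq hN).elim
  obtain ⟨l, hl, k, hk, e⟩ := hin
  have hNl : ∀ {l' k' : G}, l' ∈ L → k' ∈ centralizer (L : Set G) → l' * k' = z' → NormL L a l' := by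
    intro l' k' hl' hk' e' x hx hxc
    have hxk : x * k' * x⁻¹ = k' := by rw [(commute_cent hx hk').eq, mul_inv_cancel_right]
    have key : x * l' * x⁻¹ * k' = x * z' * x⁻¹ := by
      calc x * l' * x⁻¹ * k' = x * l' * x⁻¹ * (x * k' * x⁻¹) := by rw [hxk]
        _ = x * z' * x⁻¹ := by rw [← e']; group
    refine (hN x hx hxc).imp (fun f => mul_right_cancel ((key.trans f).trans e'.symm)) fun f => ?_
    refine mul_right_cancel (b := k') ((key.trans f).trans ?_)
    rw [← e', mul_assoc, (W.cent_comm_a hk').eq, mul_assoc]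
  have hla : ∀ {l' k' : G}, k' ∈ centralizer (L : Set G) → l' * k' = z' → Commute l' a := fun {l' k'} hk' e' => by
    rw [show l' = z' * k'⁻¹ by rw [← e', mul_inv_cancel_right]]
    exact hza.mul_left (W.cent_comm_a hk').inv_left
  have hkk : l * l * (k * k) = a := by rw [← (commute_cent hl hk).symm.mul_mul_mul_comm, e, hsq]
  have hxK : a * (l * l) ∈ centralizer (L : Set G) := by
    have hca : Commute a (l * l) := ((hla hk e).symm.mul_right (hla hk e).symm)
    have : a * (l * l) = (k * k)⁻¹ := eq_inv_of_mul_eq_one_left (by rw [mul_assoc, hkk, W.inv.2.1])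
    rw [this]; exact inv_mem (mul_mem hk hk)
  have hax : l * l = a * (a * (l * l)) := by rw [← mul_assoc, W.inv.2.1, one_mul]
  have fin : ∀ {l' k' : G}, l' ∈ L → k' ∈ centralizer (L : Set G) → l' * k' = z' → l' * l' = a → z' ∈ L ∧ o = 0 := by
    intro l' k' hl' hk' e' hll
    refine ⟨?_, S.kind_zero W.inv hl' hll (hNl hl' hk' e')⟩
    have h2 : k' * k' = 1 := by
      have := hsq
      rw [← e', (commute_cent hl' hk').symm.mul_mul_mul_comm, hll] at this
      exact mul_eq_left.mp this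
    by_cases h1 : k' = 1
    · rw [← e', h1, mul_one]; exact hl'
    · rw [← e', W.cent_invol hk' h2 h1]; exact mul_mem hl' S.t_mem
  rcases S.inter_cases (mul_mem W.inv.1 (mul_mem hl hl)) hxK with f | f | f | f
  · exact fin hl hk e (by rw [hax, f, mul_one])
  · exact absurd (hNl hl hk e) (S.no_root W.inv hl (hla hk e) (.inl (by rw [hax, f])))
  · refine fin (l' := l * z) (k' := z⁻¹ * k) (mul_mem hl S.z_mem) (mul_mem (inv_mem S.z_cent) hk)
      (by rw [← e]; group) ?_
    rw [(show Commute z l from S.z_cen l hl).mul_mul_mul_comm, hax, f, mul_assoc, S.tt, mul_one]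
  · exact absurd (hNl hl hk e) (S.no_root W.inv hl (hla hk e) (.inr (by rw [hax, f])))

theorem four_mem {k : G} (hk : k ∈ centralizer (L : Set G)) (h4 : k ^ 4 = 1) : k ∈ zpowers z := by
  have h2 : (k * k) * (k * k) = 1 := by rw [← h4]; simp [pow_succ, mul_assoc]
  by_cases h1 : k * k = 1
  · by_cases hk1 : k = 1
    · rw [hk1]; exact one_mem _
    · rw [W.cent_invol hk h1 hk1]; exact mul_mem (mem_zpowers z) (mem_zpowers z)
  · have e := W.cent_invol (mul_mem hk hk) h2 h1
    have hc : Commute k z := (S.z_commute_cent hk).symm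
    have hsq : k * z⁻¹ * (k * z⁻¹) = 1 := by
      rw [(hc.inv_right).symm.mul_mul_mul_comm, e, ← mul_inv_rev, mul_inv_cancel]
    by_cases hk1 : k * z⁻¹ = 1
    · rw [mul_inv_eq_one.mp hk1]; exact mem_zpowers z
    · have := W.cent_invol (mul_mem hk (inv_mem S.z_cent)) hsq hk1
      rw [mul_inv_eq_iff_eq_mul.mp this]
      exact mul_mem (mul_mem (mem_zpowers z) (mem_zpowers z)) (mem_zpowers z)

/-- No element of the centraliser of the subgroup squares to `z`. -/
theorem no_root {k : G} (hk : k ∈ centralizer (L : Set G)) : k * k ≠ z := by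
  intro hkk
  obtain ⟨hzt, hsq, hzz, hN⟩ := W.zc_facts
  obtain ⟨hzL, -⟩ := W.zc_mem
  set y := h * k * h⁻¹ with hy
  have hyt : Commute y (z * z) := W.conj_comm_t (W.cent_comm_a hk)
  have hya : Commute y a := W.conj_comm_a (S.comm_cent hk)
  have hyy : y * y = h * z * h⁻¹ := by rw [← hkk, hy]; group
  have hy4 : y ^ 4 = a := by rw [show 4 = 2 * 2 from rfl, pow_mul, pow_two y, hyy, pow_two, hsq]
  -- conjugates of the preimage stay in the centraliser
  have hin : ∀ {x : G}, Commute x a → h⁻¹ * (x * y * x⁻¹ * y⁻¹) * h ∈ centralizer (L : Set G) := fun {x} hx => by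
    have := mul_mem (S.conj_cent (W.back_comm hx) hk) (inv_mem hk)
    convert this using 1
    rw [hy]; group
  have hyz : Commute y z := by
    rcases S.conj_z hyt with e | e
    · exact mul_inv_eq_iff_eq_mul.mp e
    exfalso
    refine W.a_notK ?_
    have := hin (W.cent_comm_a S.z_cent)
    rwa [show z * y * z⁻¹ * y⁻¹ = z * (y * z * y⁻¹)⁻¹ by group, e, inv_inv, W.back_t] at this
  by_cases hyi : Inner L y
  · obtain ⟨l, hl, k1, hk1, e⟩ := hyi
    have hla : Commute l a := by
      rw [show l = y * k1⁻¹ by rw [← e, mul_inv_cancel_right]]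
      exact hya.mul_left (W.cent_comm_a hk1).inv_left
    have h8 := S.exp8 W.inv hl hla
    have hxk : a * l ^ 4 ∈ centralizer (L : Set G) := by
      have h' : a = l ^ 4 * k1 ^ 4 := by rw [← hy4, ← e, (commute_cent hl hk1).mul_pow]
      have : a * l ^ 4 = k1 ^ 4 := by
        rw [(hla.symm.pow_right 4).eq, h', ← mul_assoc, ← pow_add, h8, one_mul]
      rw [this]; exact pow_mem hk1 4
    rcases S.inter_invol (mul_mem W.inv.1 (pow_mem hl 4)) hxk (by
      rw [(hla.pow_left 4).mul_mul_mul_comm, W.inv.2.1, ← pow_add, h8, one_mul]) with f | f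
    · exact (S.no8 W.inv hl hla).1 (by rw [← mul_one a, ← f, ← mul_assoc, W.inv.2.1, one_mul])
    · exact (S.no8 W.inv hl hla).2 (by rw [← f, ← mul_assoc, W.inv.2.1, one_mul])
  · obtain ⟨D, ⟨P⟩⟩ := S.exists_loc hyt (hyy ▸ hzL) hyi
    refine P.no_outer_root8 W.inv (mem_ext_self y) hyi hyz hy4 fun x hx hxc => ?_
    set c := x * y * x⁻¹ * y⁻¹ with hc
    have hcL : c ∈ L := by
      rw [hc, show x * y * x⁻¹ * y⁻¹ = x * (y * x⁻¹ * y⁻¹) by group]
      exact mul_mem hx (S.conj_mem hyt (inv_mem hx))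
    have hca : Commute c a := ((hxc.mul_left hya).mul_left hxc.inv_left).mul_left hya.inv_left
    have hk' := hin hxc
    have h8 : (h⁻¹ * c * h) ^ 8 = 1 := by
      rw [show h⁻¹ * c * h = h⁻¹ * c * h⁻¹⁻¹ by rw [inv_inv], conj_pow, S.exp8 W.inv hcL hca]; group
    by_cases h4 : (h⁻¹ * c * h) ^ 4 = 1
    · obtain ⟨p, hp, ep⟩ := exists_pow_lt S.z_ord (W.four_mem hk' h4)
      have ec : c = (y * y) ^ p := by
        rw [hyy, conj_pow, ep, hc]; group
      have exy : x * y * x⁻¹ = y ^ (2 * p + 1) := by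
        rw [show x * y * x⁻¹ = c * y by rw [hc]; group, ec, ← pow_two, ← pow_mul, ← pow_succ]
      refine ⟨2 * p + 1, ?_, exy⟩
      interval_cases p <;> simp
    · have e := W.cent_invol (pow_mem hk' 4) (by rw [← pow_add]; exact h8) h4
      refine absurd ?_ (S.no8 W.inv hcL hca).1
      rw [show h⁻¹ * c * h = h⁻¹ * c * h⁻¹⁻¹ by rw [inv_inv], conj_pow, inv_inv] at e
      rw [← W.ht, ← e]; group

/-- A two-element of the centraliser of the subgroup is a power of `z`. -/
theorem two_mem : ∀ (n : ℕ) {k : G}, k ∈ centralizer (L : Set G) → k ^ (2 ^ n) = 1 → k ∈ zpowers z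
  | 0, k, _, h => by rw [pow_zero, pow_one] at h; rw [h]; exact one_mem _
  | n + 1, k, hk, h => by
    have hsq := two_mem n (mul_mem hk hk) (by rw [← pow_two, ← pow_mul, ← pow_succ']; exact h)
    rcases zpowers_four S.z_ord hsq with e | e | e | e
    · exact W.four_mem hk (by rw [show 4 = 2 * 2 from rfl, pow_mul, pow_two k, e, one_pow])
    · exact absurd e (W.no_root hk)
    · exact W.four_mem hk (by rw [show 4 = 2 * 2 from rfl, pow_mul, pow_two k, e, pow_two, S.tt])
    · refine absurd ?_ (W.no_root (inv_mem hk))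
      rw [← mul_inv_rev, e, ← S.z_inv, inv_inv]

/-- The centraliser of the subgroup is the product of the centre and the odd part. -/
theorem cent_decomp {k : G} (hk : k ∈ centralizer (L : Set G)) : ∃ p : ℕ, ∃ d ∈ dCore L h, z ^ p * d = k := by
  obtain ⟨n, m, hm, e⟩ := Nat.exists_eq_two_pow_mul_odd (orderOf_pos k).ne'
  have h2 : (k ^ m) ^ (2 ^ n) = 1 := by rw [← pow_mul, mul_comm, ← e, pow_orderOf_eq_one]
  obtain ⟨i, -, hi⟩ := exists_pow_lt S.z_ord (W.two_mem n (pow_mem hk m) h2)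
  refine ⟨i * m, (z ^ (i * m))⁻¹ * k, W.odd_mem (mul_mem (inv_mem (pow_mem S.z_cent _)) hk) ?_,
    mul_inv_cancel_left _ _⟩
  refine hm.of_dvd_nat (orderOf_dvd_of_pow_eq_one ?_)
  rw [(((S.z_commute_cent hk).pow_left _).inv_left).mul_pow, inv_pow, ← pow_mul, ← hi, inv_mul_eq_one,
    pow_inj_mod, S.z_ord, Nat.mul_assoc, Nat.mul_mod]
  obtain ⟨j, rfl⟩ := hm
  rw [show (2 * j + 1) * (2 * j + 1) % 4 = 1 by ring_nf; omega, mul_one, Nat.mod_mod]

end IsSwap

end CfsgLib.StdON
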